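/-
Totally singular subspaces, the two families, and Siegel elements in the commutator subgroup, in any characteristic
and any dimension at least five.
-/
import Cfsg.Agent.Lib.Transvec.OrthFamily
import Cfsg.Agent.Lib.Orthogonal.Siegel
import Cfsg.Agent.Lib.Orthogonal.Matrix

set_option autoImplicit false

namespace Cfsg.Agent.OrthEvenMax

open scoped Matrix commutatorElement
open Matrix Cfsg.Agent.Transvec Cfsg.Agent.Transvec.Orth

variable {ι : Type} [Fintype ι] [DecidableEq ι] {F : Type*} [Field F] {Q : (ι → F) → F}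

/-- All Siegel elements lie in M. -/
def AllSiegel (Q : (ι → F) → F) (M : Subgroup (GL ι F)) : Prop :=
  ∀ (g : GL ι F) (u y : ι → F), Q u = 0 → pol Q u y = 0 → IsSiegel Q g u y → g ∈ M

variable (hQ : Geo.IsNondegenerateQuadraticForm Q)
include hQ

/-- The quadratic map behind Q. -/
def qMap : QuadraticForm F (ι → F) :=
  QuadraticMap.ofPolar Q (fun a x => by rw [hQ.smul, sq]; rfl)
    hQ.polar_bilinear.add_left (fun a x y => hQ.polar_bilinear.smul_left a x y)

theorem qMap_coe : ⇑(qMap hQ) = Q := rfl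

theorem qMap_nondeg : (QuadraticMap.polarBilin (qMap hQ)).Nondegenerate := by
  refine ⟨fun x hx => ?_, fun x hx => ?_⟩ <;> by_contra h0
  · obtain ⟨-, y, hy⟩ := hQ.nondegenerate x h0
    exact hy (hx y)
  · obtain ⟨⟨y, hy⟩, -⟩ := hQ.nondegenerate x h0
    exact hy (hx y)

/-- Every Siegel element lies in Ω. -/
theorem siegel_mem_omega' [Finite F] (hn : 5 ≤ Fintype.card ι) {g : GL ι F} {u y : ι → F} (hu : Q u = 0)
    (hy : pol Q u y = 0) (h : IsSiegel Q g u y) : g ∈ Geo.omegaGL Q := by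
  haveI : Fintype F := Fintype.ofFinite F
  have hgI : g ∈ isometryGroup F Q := by
    obtain ⟨g', hg', hg''⟩ := exists_siegel hQ hu hy
    rwa [isSiegel_unique h hg'']
  have hd : 5 ≤ Module.finrank F (ι → F) := by rwa [Module.finrank_pi]
  have h1 := Cfsg.Agent.Orth.siegelGroup_le (qMap_nondeg hQ) hd (Cfsg.Agent.Orth.siegel_mem (qMap_nondeg hQ) hd
    (g := Cfsg.Agent.Orth.isoEquiv (qMap hQ) ⟨g, hgI⟩) (u := u) (y := y) hu hy
    (fun z => h z))
  have key : ∀ (R : QuadraticForm F (ι → F)) (x : ↥(isometryGroup F ⇑R)),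
      Cfsg.Agent.Orth.isoEquiv R x ∈ commutator _ → x ∈ commutator _ := by
    intro R x hx
    have hc : (commutator ↥(isometryGroup F ⇑R)).map (Cfsg.Agent.Orth.isoEquiv R).toMonoidHom = commutator _ := by
      rw [commutator_def, Subgroup.map_commutator,
        Subgroup.map_top_of_surjective _ (Cfsg.Agent.Orth.isoEquiv R).surjective, ← commutator_def]
    rw [← hc] at hx
    obtain ⟨a, ha, hae⟩ := hx
    rwa [← (Cfsg.Agent.Orth.isoEquiv R).injective hae]
  exact ⟨⟨g, hgI⟩, key (qMap hQ) ⟨g, hgI⟩ h1, rfl⟩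

/-- A subgroup containing Ω contains all Siegel elements. -/
theorem allSiegel_of_omega_le [Finite F] (hn : 5 ≤ Fintype.card ι) {M : Subgroup (GL ι F)}
    (h : Geo.omegaGL Q ≤ M) : AllSiegel Q M := fun _ _ _ hu hy hg => h (siegel_mem_omega' hQ hn hu hy hg)

/-- A maximal subgroup inside a structure missing a Siegel element is cut out by it. -/
theorem eq_inf [Finite F] (hn : 5 ≤ Fintype.card ι) {H S : Subgroup (GL ι F)}
    (hH : Geo.IsMaximalIn (Geo.omegaGL Q) H) (hle : H ≤ S) (hS : ¬ AllSiegel Q S) :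
    H = S ⊓ Geo.omegaGL Q := by
  rcases hH.2 _ (le_inf hle hH.1.le) inf_le_right with h | h
  · exact h.symm
  · exact absurd (allSiegel_of_omega_le hQ hn (h.ge.trans inf_le_left)) hS

/-- Elements of Ω have even parity. -/
theorem even_omega [Finite F] (hn : 5 ≤ Fintype.card ι) {g : GL ι F} (hg : g ∈ Geo.omegaGL Q) :
    Even (moveRank g) := by
  have h0 : Even 0 := ⟨0, rfl⟩
  have hinv : ∀ a ∈ isometryGroup F Q, (Even (moveRank a⁻¹) ↔ Even (moveRank a)) := fun a ha => by
    have h := even_moveRank_mul hQ hn ha (Subgroup.inv_mem _ ha)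
    rw [mul_inv_cancel, moveRank_one] at h
    tauto
  have hc : Geo.omegaGL Q = ⁅isometryGroup F Q, isometryGroup F Q⁆ := by
    rw [Geo.omegaGL, Omega, commutator_def, Subgroup.map_commutator, ← MonoidHom.range_eq_map,
      Subgroup.range_subtype]
  have key : Geo.omegaGL Q ≤ isometryGroup F Q := omega_le_isometry hQ
  rw [hc, Subgroup.commutator_def] at hg
  suffices g ∈ isometryGroup F Q ∧ Even (moveRank g) from this.2
  induction hg using Subgroup.closure_induction with
  | mem x hx =>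
    obtain ⟨p, hp, q, hq, rfl⟩ := hx
    have h1 := Subgroup.mul_mem _ hp hq
    have h2 := Subgroup.mul_mem _ h1 (Subgroup.inv_mem _ hp)
    refine ⟨Subgroup.mul_mem _ h2 (Subgroup.inv_mem _ hq), ?_⟩
    rw [commutatorElement_def, even_moveRank_mul hQ hn h2 (Subgroup.inv_mem _ hq),
      even_moveRank_mul hQ hn h1 (Subgroup.inv_mem _ hp), even_moveRank_mul hQ hn hp hq, hinv _ hp, hinv _ hq]
    tauto
  | one => exact ⟨Subgroup.one_mem _, by rw [moveRank_one]; exact h0⟩
  | mul x y hx hy ihx ihy =>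
    exact ⟨Subgroup.mul_mem _ ihx.1 ihy.1, (even_moveRank_mul hQ hn ihx.1 ihy.1).2 (iff_of_true ihx.2 ihy.2)⟩
  | inv x hx ihx => exact ⟨Subgroup.inv_mem _ ihx.1, (hinv _ ihx.1).2 ihx.2⟩

/-- The span of a totally singular subspace and a singular vector orthogonal to it. -/
theorem ts_sup {T U : Submodule F (ι → F)} (hT : Geo.IsTotallySingularQuad Q T)
    (hU : Geo.IsTotallySingularQuad Q U) (h : ∀ x ∈ T, ∀ y ∈ U, pol Q x y = 0) :
    Geo.IsTotallySingularQuad Q (T ⊔ U) := fun x hx => by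
  obtain ⟨a, ha, b, hb, rfl⟩ := Submodule.mem_sup.1 hx
  rw [q_add hQ, hT a ha, hU b hb, h a ha b hb, add_zero, add_zero]

theorem ts_span {u : ι → F} (hu : Q u = 0) : Geo.IsTotallySingularQuad Q (Submodule.span F {u}) := fun x hx => by
  obtain ⟨c, rfl⟩ := Submodule.mem_span_singleton.1 hx
  rw [q_smul hQ, hu, mul_zero]

theorem ts_pol {T : Submodule F (ι → F)} (hT : Geo.IsTotallySingularQuad Q T) {x y : ι → F} (hx : x ∈ T)
    (hy : y ∈ T) : pol Q x y = 0 := pol_eq_zero_of_singular hQ hT hx hy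

/-- A totally singular subspace lies in a totally singular subspace of half dimension, in plus type. -/
theorem exists_max_over (hplus : Geo.IsPlusTypeOn Q ⊤) {T : Submodule F (ι → F)}
    (hT : Geo.IsTotallySingularQuad Q T) :
    ∃ U, T ≤ U ∧ Geo.IsTotallySingularQuad Q U ∧ 2 * Module.finrank F U = Fintype.card ι := by
  obtain ⟨U₀, -, hU₀, hd⟩ := hplus
  rw [finrank_top, Module.finrank_pi] at hd
  refine ⟨T ⊔ (U₀ ⊓ orth hQ T), le_sup_left, ts_sup hQ hT (fun x hx => hU₀ x hx.1) fun x hx y hy => hy.2 x hx,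
    ?_⟩
  have h0 : U₀ ⊓ orth hQ T = orth hQ (U₀ ⊔ T) := by
    ext x
    refine ⟨fun hx u hu => ?_, fun hx => ⟨(orth_maximal_singular hQ hU₀ hd).le fun u hu =>
      hx u (Submodule.mem_sup_left hu), fun u hu => hx u (Submodule.mem_sup_right hu)⟩⟩
    obtain ⟨a, ha, b, hb, rfl⟩ := Submodule.mem_sup.1 hu
    rw [pol_add_left hQ, ts_pol hQ hU₀ ha hx.1, hx.2 b hb, add_zero]
  have h1 := finrank_orth hQ (U₀ ⊔ T)
  rw [← h0] at h1
  have h2 := Submodule.finrank_sup_add_finrank_inf_eq U₀ T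
  have h3 := Submodule.finrank_sup_add_finrank_inf_eq T (U₀ ⊓ orth hQ T)
  have h4 : T ⊓ (U₀ ⊓ orth hQ T) = U₀ ⊓ T := by
    ext x
    exact ⟨fun h => ⟨h.2.1, h.1⟩, fun h => ⟨h.2, h.1, fun u hu => ts_pol hQ hT hu h.2⟩⟩
  rw [h4] at h3
  omega

/-- The stabiliser in Ω of a totally singular subspace of dimension one below the maximum fixes each maximal one
over it. -/
theorem fix_over [Finite F] (hn : 5 ≤ Fintype.card ι) {T U : Submodule F (ι → F)}
    (hU : Geo.IsTotallySingularQuad Q U) (hUd : 2 * Module.finrank F U = Fintype.card ι) (hTU : T ≤ U)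
    (hTd : Module.finrank F T + 1 = Module.finrank F U) {g : GL ι F} (hg : g ∈ Geo.omegaGL Q)
    (hgT : g ∈ Geo.subspaceStabilizer T) : g ∈ Geo.subspaceStabilizer U := by
  have h1 : T ≤ U ⊓ U.map (mvLin g) := fun x hx => ⟨hTU hx, mv g⁻¹ x,
    hTU ((mem_subspaceStabilizer.1 hgT _).2 (by rwa [mv_mv_inv])), by simp [mv_mv_inv]⟩
  have h2 := Submodule.finrank_mono h1
  have h3 := Submodule.finrank_mono (inf_le_left : U ⊓ U.map (mvLin g) ≤ U)
  obtain ⟨j, hj⟩ := (even_moveRank_inter hQ hU hUd hn (omega_le_isometry hQ hg)).1 (even_omega hQ hn hg)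
  have h4 := Submodule.eq_of_le_of_finrank_le (inf_le_left : U ⊓ U.map (mvLin g) ≤ U) (by omega)
  have h5 : U = U.map (mvLin g) :=
    Submodule.eq_of_le_of_finrank_le (h4.ge.trans inf_le_right) (Submodule.finrank_map_le _ _)
  exact mem_subspaceStabilizer_of_le fun x hx => h5.ge ⟨x, hx, by simp⟩

/-- Ω does not interchange complementary maximal totally singular subspaces of odd dimension. -/
theorem not_swap [Finite F] (hn : 5 ≤ Fintype.card ι) {A B : Submodule F (ι → F)}
    (hA : Geo.IsTotallySingularQuad Q A) (hAd : 2 * Module.finrank F A = Fintype.card ι)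
    (hodd : Odd (Module.finrank F A)) (hAB : A ⊓ B = ⊥) {g : GL ι F} (hg : g ∈ Geo.omegaGL Q) :
    A.map (mvLin g) ≠ B := by
  intro h
  have h' := (even_moveRank_inter hQ hA hAd hn (omega_le_isometry hQ hg)).1 (even_omega hQ hn hg)
  rw [h, hAB, finrank_bot, Nat.sub_zero] at h'
  exact Nat.not_even_iff_odd.2 hodd h'

end Cfsg.Agent.OrthEvenMax
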