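/-
Configurations forcing plus type: isometric orthogonal blocks and rational structures over a subfield of index two.
-/
import Cfsg.Agent.Lib.OrthEvenMax.Base
import Cfsg.Agent.Lib.Transvec.OrthNondeg
import Cfsg.Agent.Lib.Transvec.OrthSubfield
import Cfsg.Agent.Lib.Transvec.OrthMaximal

set_option autoImplicit false
set_option linter.style.haveILetI false

namespace Cfsg.Agent.OrthEvenMax

open scoped Matrix
open Matrix Cfsg.Agent.Transvec Cfsg.Agent.Transvec.Orth

variable {ι : Type} [Fintype ι] [DecidableEq ι] {F : Type*} [Field F] [Fintype F] {Q : (ι → F) → F}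
variable (hQ : Geo.IsNondegenerateQuadraticForm Q)
include hQ

/-- Two orthogonal isometric blocks of even dimension carry a totally singular subspace of their common dimension. -/
theorem ts_two_blocks {g : GL ι F} (hg : g ∈ isometryGroup F Q) : ∀ (m : ℕ) (W : Submodule F (ι → F)),
    Nondeg Q W → Module.finrank F W = 2 * m → (∀ x ∈ W, ∀ y ∈ W, pol Q x (mv g y) = 0) →
    ∃ U, Geo.IsTotallySingularQuad Q U ∧ U ≤ W ⊔ W.map (mvLin g) ∧ Module.finrank F U = 2 * m := by
  intro m
  induction m with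
  | zero =>
    intro W _ _ _
    exact ⟨⊥, fun x hx => by rw [(Submodule.mem_bot F).1 hx, q_zero hQ], bot_le, finrank_bot F _⟩
  | succ m ih =>
    intro W hW hd horth
    have hmem : ∀ {x : ι → F}, x ∈ W → mv g x ∈ W.map (mvLin g) := fun {x} hx => ⟨x, hx, by simp⟩
    have hsep : ∀ {x y : ι → F}, x ∈ W → y ∈ W → x + mv g y = 0 → x = 0 ∧ y = 0 := by
      intro x y hx hy h
      have hx0 : x = 0 := hW x hx fun z hz => by
        rw [eq_neg_of_add_eq_zero_left h, pol_neg_right hQ, horth z hz y hy, neg_zero]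
      rw [hx0, zero_add] at h
      exact ⟨hx0, mv_inj g (h.trans (mv_zero g).symm)⟩
    rcases Nat.eq_zero_or_pos m with rfl | hm
    · by_cases h2 : (2 : F) = 0
      · let φ : W →ₗ[F] ι → F := (LinearMap.id + mvLin g).comp W.subtype
        have hφ : ∀ x, φ x = (x : ι → F) + mv g x := fun x => by simp [φ]
        refine ⟨LinearMap.range φ, ?_, ?_, ?_⟩
        · rintro _ ⟨x, rfl⟩
          rw [hφ, q_add hQ, mem_isometry.1 hg, horth _ x.2 _ x.2]
          linear_combination (Q (x : ι → F)) * h2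
        · rintro _ ⟨x, rfl⟩
          rw [hφ]
          exact Submodule.add_mem_sup x.2 (hmem x.2)
        · rw [LinearMap.finrank_range_of_inj ((LinearMap.ker_eq_bot.1) ((LinearMap.ker_eq_bot').2
            fun x hx => Subtype.ext (hsep x.2 x.2 ((hφ x).symm.trans hx)).1)), hd]
      · obtain ⟨x, hx, hQx⟩ := exists_anisotropic hQ hW fun h => by rw [h, finrank_bot] at hd; omega
        obtain ⟨y₀, hy₀, hyx⟩ : ∃ y ∈ W, y ∉ Submodule.span F {x} := by
          by_contra hc
          push Not at hc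
          have := Submodule.finrank_mono hc
          rw [finrank_span_singleton fun h => hQx (by rw [h, q_zero hQ]), hd] at this
          omega
        set y := y₀ - (pol Q y₀ x / (2 * Q x)) • x with hy
        have hyW : y ∈ W := W.sub_mem hy₀ (W.smul_mem _ hx)
        have hxy : pol Q x y = 0 := by
          rw [hy, pol_sub_right hQ, pol_smul_right hQ, pol_self hQ, pol_comm x y₀,
            div_mul_cancel₀ _ (mul_ne_zero h2 hQx), sub_self]
        have hQy : Q y ≠ 0 := by
          intro h0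
          have hspan : Submodule.span F ({x, y} : Set (ι → F)) = W := by
            refine Submodule.eq_of_le_of_finrank_le (Submodule.span_le.2 (by
              rintro z (rfl | rfl)
              · exact hx
              · exact hyW)) ?_
            have hind : LinearIndependent F ![x, y] := by
              refine LinearIndependent.pair_iff.2 fun s t hst => ?_
              have ht : t = 0 := by
                by_contra ht
                refine hyx (Submodule.mem_span_singleton.2 ⟨pol Q y₀ x / (2 * Q x) - t⁻¹ * s, ?_⟩)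
                have h1 : y = -((t⁻¹ * s) • x) := by
                  rw [mul_smul, ← smul_neg, ← eq_neg_of_add_eq_zero_right hst, inv_smul_smul₀ ht]
                rw [sub_smul, sub_eq_add_neg, ← h1, hy]; abel
              rw [ht, zero_smul, add_zero, smul_eq_zero] at hst
              exact ⟨hst.resolve_right fun h => hQx (by rw [h, q_zero hQ]), ht⟩
            have := finrank_span_eq_card hind
            rw [Fintype.card_fin, Matrix.range_cons, Matrix.range_cons, Matrix.range_empty, Set.union_empty,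
              Set.singleton_union] at this
            rw [this, hd]
          have hy0 : y = 0 := hW y hyW fun z hz => by
            rw [← hspan] at hz
            obtain ⟨s, t, rfl⟩ := Submodule.mem_span_pair.1 hz
            rw [pol_add_left hQ, pol_smul_left hQ, pol_smul_left hQ, hxy, pol_self hQ, h0]
            ring
          exact hyx (Submodule.mem_span_singleton.2 ⟨_, (sub_eq_zero.1 hy0).symm⟩)
        obtain ⟨a, b, hab⟩ := exists_two_squares hQ h2 (-(Q x / Q y))
        have hab' : Q x + (a ^ 2 + b ^ 2) * Q y = 0 := by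
          rw [hab, neg_mul, div_mul_cancel₀ _ hQy, add_neg_cancel]
        let φ : F × F →ₗ[F] ι → F := LinearMap.coprod
          (LinearMap.toSpanSingleton F _ (x + a • y + b • mv g y))
          (LinearMap.toSpanSingleton F _ (mv g x - b • y + a • mv g y))
        have hφ : ∀ s t, φ (s, t) = (s • x + (s * a - t * b) • y) + mv g (t • x + (s * b + t * a) • y) := by
          intro s t
          simp only [φ, LinearMap.coprod_apply, LinearMap.toSpanSingleton_apply, mv_add, mv_smul]
          module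
        refine ⟨LinearMap.range φ, ?_, ?_, ?_⟩
        · rintro _ ⟨⟨s, t⟩, rfl⟩
          rw [hφ, q_add hQ, mem_isometry.1 hg, horth _ (W.add_mem (W.smul_mem _ hx) (W.smul_mem _ hyW)) _
            (W.add_mem (W.smul_mem _ hx) (W.smul_mem _ hyW)), q_add hQ, q_add hQ, q_smul hQ, q_smul hQ, q_smul hQ,
            q_smul hQ, pol_smul_left hQ, pol_smul_right hQ, pol_smul_left hQ, pol_smul_right hQ, hxy]
          linear_combination (s ^ 2 + t ^ 2) * hab'
        · rintro _ ⟨⟨s, t⟩, rfl⟩
          rw [hφ]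
          exact Submodule.add_mem_sup (W.add_mem (W.smul_mem _ hx) (W.smul_mem _ hyW))
            (hmem (W.add_mem (W.smul_mem _ hx) (W.smul_mem _ hyW)))
        · rw [LinearMap.finrank_range_of_inj ((LinearMap.ker_eq_bot.1) ((LinearMap.ker_eq_bot').2 ?_)),
            Module.finrank_prod, Module.finrank_self]
          rintro ⟨s, t⟩ hst
          rw [hφ] at hst
          obtain ⟨h1, h3⟩ := hsep (W.add_mem (W.smul_mem _ hx) (W.smul_mem _ hyW))
            (W.add_mem (W.smul_mem _ hx) (W.smul_mem _ hyW)) hst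
          have key : ∀ c e : F, c • x + e • y = 0 → c = 0 := fun c e h => by
            have := congrArg (fun v => pol Q x v) h
            simp only [pol_add_right hQ, pol_smul_right hQ, hxy, pol_self hQ, pol_zero_right hQ, mul_zero,
              add_zero] at this
            exact (mul_eq_zero.1 this).resolve_right (mul_ne_zero h2 hQx)
          exact Prod.ext (key _ _ h1) (key _ _ h3)
    · obtain ⟨e, he, he0, hee⟩ := exists_singular hQ (X := W) (by omega)
      obtain ⟨d, hdW, hdd, hed⟩ := exists_partner hQ hW he he0 hee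
      obtain ⟨hP, hP2⟩ := nondeg_pair hQ hee hdd hed
      set P := Submodule.span F ({e, d} : Set (ι → F)) with hPdef
      have hPW : P ≤ W := Submodule.span_le.2 (by
        rintro z (rfl | rfl)
        · exact he
        · exact hdW)
      have hd' := finrank_inf_orth_add hQ hP hPW
      obtain ⟨U', hU', hU'le, hU'd⟩ := ih (W ⊓ orth hQ P) (nondeg_inf_orth hQ hP hW hPW) (by omega)
        fun x hx y hy => horth x hx.1 y hy.1
      let φ : F × F →ₗ[F] ι → F := LinearMap.coprod (LinearMap.toSpanSingleton F _ e)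
        (LinearMap.toSpanSingleton F _ (mv g e))
      have hφ : ∀ s t, φ (s, t) = s • e + mv g (t • e) := fun s t => by
        simp [φ, mv_smul]
      have hts : Geo.IsTotallySingularQuad Q (LinearMap.range φ) := by
        rintro _ ⟨⟨s, t⟩, rfl⟩
        rw [hφ, q_add hQ, mem_isometry.1 hg, q_smul hQ, q_smul hQ, hee, horth _ (W.smul_mem _ he) _
          (W.smul_mem _ he), mul_zero, mul_zero, add_zero, add_zero]
      have heP : e ∈ P := Submodule.subset_span (Set.mem_insert _ _)
      have hperp : ∀ x ∈ LinearMap.range φ, ∀ z ∈ U', pol Q x z = 0 := by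
        rintro _ ⟨⟨s, t⟩, rfl⟩ z hz
        obtain ⟨w, hw, _, ⟨w', hw', rfl⟩, rfl⟩ := Submodule.mem_sup.1 (hU'le hz)
        rw [hφ, pol_add_left hQ, pol_add_right hQ, pol_add_right hQ, hw.2 _ (P.smul_mem s heP),
          Matrix.toLin'_apply, show pol Q (s • e) (mv g w') = 0 from horth _ (W.smul_mem _ he) _ hw'.1,
          pol_comm _ w, horth _ hw.1 _ (W.smul_mem _ he), pol_mv hQ hg, hw'.2 _ (P.smul_mem t heP)]
        ring
      refine ⟨LinearMap.range φ ⊔ U', ts_sup hQ hts hU' hperp, sup_le ?_ (hU'le.trans ?_), ?_⟩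
      · rintro _ ⟨⟨s, t⟩, rfl⟩
        rw [hφ]
        exact Submodule.add_mem_sup (W.smul_mem _ he) (hmem (W.smul_mem _ he))
      · exact sup_le_sup inf_le_left (Submodule.map_mono inf_le_left)
      · have hinj : Function.Injective φ := LinearMap.ker_eq_bot.1 ((LinearMap.ker_eq_bot').2 (by
          rintro ⟨s, t⟩ hst
          rw [hφ] at hst
          obtain ⟨h1, h3⟩ := hsep (W.smul_mem _ he) (W.smul_mem _ he) hst
          exact Prod.ext ((smul_eq_zero.1 h1).resolve_right he0) ((smul_eq_zero.1 h3).resolve_right he0)))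
        have hdis : LinearMap.range φ ⊓ U' = ⊥ := by
          refine (Submodule.eq_bot_iff _).2 ?_
          rintro _ ⟨⟨⟨s, t⟩, rfl⟩, hz⟩
          obtain ⟨w, hw, _, ⟨w', hw', rfl⟩, hzw⟩ := Submodule.mem_sup.1 (hU'le hz)
          rw [hφ, Matrix.toLin'_apply] at hzw
          have h0 : (s • e - w) + mv g (t • e - w') = 0 := by
            rw [mv_sub]
            calc s • e - w + (mv g (t • e) - mv g w') = (s • e + mv g (t • e)) - (w + mv g w') := by abel
              _ = 0 := by rw [← hzw, sub_self]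
          obtain ⟨h1, h3⟩ := hsep (W.sub_mem (W.smul_mem _ he) hw.1) (W.sub_mem (W.smul_mem _ he) hw'.1) h0
          have z1 : s • e = 0 := hP _ (P.smul_mem s heP) fun z hz => by
            rw [sub_eq_zero.1 h1]; exact hw.2 z hz
          have z2 : t • e = 0 := hP _ (P.smul_mem t heP) fun z hz => by
            rw [sub_eq_zero.1 h3]; exact hw'.2 z hz
          rw [hφ, z1, z2, mv_zero, add_zero]
        have h := Submodule.finrank_sup_add_finrank_inf_eq (LinearMap.range φ) U'
        rw [hdis, finrank_bot, add_zero, LinearMap.finrank_range_of_inj hinj, Module.finrank_prod,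
          Module.finrank_self, hU'd] at h
        omega

/-- Totally singular halves of groups of blocks add up to plus type. -/
theorem plus_of_steps {t k : ℕ} {D : Fin t → Submodule F (ι → F)}
    (hD : Geo.IsNondegenerateMDecomposition (QuadraticMap.polar Q) k D) (c : ℕ) (hct : c ∣ t) (hn : t * k = Fintype.card ι)
    (hstep : ∀ s : Finset (Fin t), s.card = c →
      ∃ U, Geo.IsTotallySingularQuad Q U ∧ U ≤ s.sup D ∧ 2 * Module.finrank F U = c * k) :
    Geo.IsPlusTypeOn Q ⊤ := by
  obtain ⟨j, hj⟩ := hct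
  suffices ∀ (j : ℕ) (s : Finset (Fin t)), s.card = c * j →
      ∃ U, Geo.IsTotallySingularQuad Q U ∧ U ≤ s.sup D ∧ 2 * Module.finrank F U = c * j * k by
    obtain ⟨U, hU, -, hUd⟩ := this j Finset.univ (by rw [Finset.card_univ, Fintype.card_fin, hj])
    exact ⟨U, le_top, hU, by rw [hUd, finrank_top, Module.finrank_pi, ← hn, hj]⟩
  intro j
  induction j with
  | zero =>
    intro s _
    exact ⟨⊥, fun x hx => by rw [(Submodule.mem_bot F).1 hx, q_zero hQ], bot_le, by rw [finrank_bot]; ring⟩
  | succ j ih =>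
    intro s hs
    obtain ⟨s₁, hsub, hs₁⟩ := Finset.exists_subset_card_eq (s := s) (n := c) (by rw [hs, Nat.mul_succ]; omega)
    obtain ⟨U₁, hU₁, hle₁, hd₁⟩ := hstep s₁ hs₁
    obtain ⟨U₂, hU₂, hle₂, hd₂⟩ := ih (s \ s₁) (by
      rw [Finset.card_sdiff_of_subset hsub, hs, hs₁, Nat.mul_succ]; omega)
    have hperp : ∀ (a : Finset (Fin t)) (i : Fin t), i ∉ a → ∀ x ∈ a.sup D, ∀ v ∈ D i, pol Q x v = 0 := by
      intro a i hi x hx v hv
      have : a.sup D ≤ LinearMap.ker (formQ hQ v) := Finset.sup_le fun l hl w hw =>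
        hD.orthogonal l i (fun h => hi (h ▸ hl)) w hw v hv
      exact this hx
    have h12 : ∀ x ∈ U₁, ∀ y ∈ U₂, pol Q x y = 0 := by
      intro x hx y hy
      have : (s \ s₁).sup D ≤ LinearMap.ker (formQ hQ x) := Finset.sup_le fun l hl w hw => by
        show pol Q w x = 0
        rw [pol_comm]
        exact hperp s₁ l (Finset.mem_sdiff.1 hl).2 x (hle₁ hx) w hw
      rw [pol_comm]
      exact this (hle₂ hy)
    refine ⟨U₁ ⊔ U₂, ts_sup hQ hU₁ hU₂ h12, sup_le (hle₁.trans (Finset.sup_mono hsub))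
      (hle₂.trans (Finset.sup_mono Finset.sdiff_subset)), ?_⟩
    have hdis : U₁ ⊓ U₂ = ⊥ := (Submodule.eq_bot_iff _).2 fun x hx => nondeg_top hQ x Submodule.mem_top fun w _ => by
      have : (⨆ i, D i) ≤ LinearMap.ker (formQ hQ x) := iSup_le fun i v hv => by
        show pol Q v x = 0
        rw [pol_comm]
        by_cases hi : i ∈ s₁
        · exact hperp _ i (fun h => (Finset.mem_sdiff.1 h).2 hi) x (hle₂ hx.2) v hv
        · exact hperp _ i hi x (hle₁ hx.1) v hv
      exact this (hD.decomp.iSup_eq_top ▸ Submodule.mem_top)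
    have h := Submodule.finrank_sup_add_finrank_inf_eq U₁ U₂
    rw [hdis, finrank_bot, add_zero] at h
    rw [h, mul_add, hd₁, hd₂]
    ring

/-- A non-degenerate decomposition into isometric blocks with an even number of blocks of even dimension, or a number
divisible by four, gives plus type. -/
theorem plus_of_blocks {t k : ℕ} {D : Fin t → Submodule F (ι → F)}
    (hD : Geo.IsNondegenerateMDecomposition (QuadraticMap.polar Q) k D) (hn : t * k = Fintype.card ι)
    (htr : ∀ i j, ∃ g ∈ isometryGroup F Q, (D i).map (mvLin g) = D j)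
    (hcase : (Even k ∧ 2 ∣ t) ∨ 4 ∣ t) : Geo.IsPlusTypeOn Q ⊤ := by
  classical
  have hnd : ∀ i, Nondeg Q (D i) := fun i u hu h => by
    by_contra hu0
    obtain ⟨⟨x, hx, hxu⟩, -⟩ := hD.nondegenerate i u hu hu0
    exact hxu (h x hx)
  rcases hcase with ⟨⟨m, hm⟩, h2t⟩ | h4t
  · refine plus_of_steps hQ hD 2 h2t hn fun s hs => ?_
    obtain ⟨i, j, hij, rfl⟩ := Finset.card_eq_two.1 hs
    obtain ⟨g, hg, hgi⟩ := htr i j
    obtain ⟨U, hU, hle, hd⟩ := ts_two_blocks hQ hg m (D i) (hnd i) (by rw [hD.decomp.finrank_eq, hm]; ring)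
      fun x hx y hy => hD.orthogonal i j hij x hx (mv g y) (hgi.le ⟨y, hy, Matrix.toLin'_apply _ _⟩)
    refine ⟨U, hU, hle.trans ?_, by rw [hd, hm]; ring⟩
    rw [hgi, Finset.sup_insert, Finset.sup_singleton]
  · refine plus_of_steps hQ hD 4 h4t hn fun s hs => ?_
    obtain ⟨i₁, hi₁, i₂, hi₂, i₃, hi₃, i₄, hi₄, h12, h13, h14, h23, h24, h34⟩ :
        ∃ a ∈ s, ∃ b ∈ s, ∃ c ∈ s, ∃ d ∈ s, a ≠ b ∧ a ≠ c ∧ a ≠ d ∧ b ≠ c ∧ b ≠ d ∧ c ≠ d := by
      obtain ⟨a, t₁, ha, rfl, ht₁⟩ := Finset.card_eq_succ.1 hs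
      obtain ⟨b, t₂, hb, rfl, ht₂⟩ := Finset.card_eq_succ.1 ht₁
      obtain ⟨c, d, hcd, rfl⟩ := Finset.card_eq_two.1 ht₂
      simp only [Finset.mem_insert, Finset.mem_singleton, not_or] at ha hb ⊢
      exact ⟨a, Or.inl rfl, b, Or.inr (Or.inl rfl), c, Or.inr (Or.inr (Or.inl rfl)), d,
        Or.inr (Or.inr (Or.inr rfl)), ha.1, ha.2.1, ha.2.2, hb.1, hb.2, hcd⟩
    obtain ⟨a, b, hab⟩ : ∃ a b : F, a ^ 2 + b ^ 2 = -1 := by
      by_cases h2 : (2 : F) = 0
      · exact ⟨1, 0, by linear_combination h2⟩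
      · exact exists_two_squares hQ h2 (-1)
    obtain ⟨g₂, hg₂, hm₂⟩ := htr i₁ i₂
    obtain ⟨g₃, hg₃, hm₃⟩ := htr i₁ i₃
    obtain ⟨g₄, hg₄, hm₄⟩ := htr i₁ i₄
    let W := D i₁
    let φ : W × W →ₗ[F] ι → F := LinearMap.coprod
      ((LinearMap.id + a • mvLin g₂ + b • mvLin g₃).comp W.subtype)
      ((b • mvLin g₂ - a • mvLin g₃ + mvLin g₄).comp W.subtype)
    have hφ : ∀ x y : W, φ (x, y) = ((x : ι → F) + mv g₂ (a • (x : ι → F) + b • (y : ι → F))) +
        (mv g₃ (b • (x : ι → F) - a • (y : ι → F)) + mv g₄ y) := fun x y => by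
      simp [φ, mv_add, mv_sub, mv_smul]
      module
    have hin : ∀ {g : GL ι F} {l : Fin t} {z : ι → F}, (D i₁).map (mvLin g) = D l → z ∈ W → mv g z ∈ D l :=
      fun h hz => h.le ⟨_, hz, Matrix.toLin'_apply _ _⟩
    have o : ∀ {p q : Fin t} {u v : ι → F}, p ≠ q → u ∈ D p → v ∈ D q → pol Q u v = 0 :=
      fun h hu hv => hD.orthogonal _ _ h _ hu _ hv
    have m2 : ∀ x y : W, a • (x : ι → F) + b • (y : ι → F) ∈ W := fun x y => (a • x + b • y).2
    have m3 : ∀ x y : W, b • (x : ι → F) - a • (y : ι → F) ∈ W := fun x y => (b • x - a • y).2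
    refine ⟨LinearMap.range φ, ?_, ?_, ?_⟩
    · rintro _ ⟨⟨x, y⟩, rfl⟩
      rw [hφ, q_add hQ, q_add hQ, q_add hQ, pol_add_left hQ, pol_add_right hQ, pol_add_right hQ,
        mem_isometry.1 hg₂, mem_isometry.1 hg₃, mem_isometry.1 hg₄, o h12 x.2 (hin hm₂ (m2 x y)),
        o h13 x.2 (hin hm₃ (m3 x y)), o h14 x.2 (hin hm₄ y.2), o h23 (hin hm₂ (m2 x y)) (hin hm₃ (m3 x y)),
        o h24 (hin hm₂ (m2 x y)) (hin hm₄ y.2), o h34 (hin hm₃ (m3 x y)) (hin hm₄ y.2)]
      simp only [q_add hQ, q_sub hQ, q_smul hQ, pol_smul_left hQ, pol_smul_right hQ]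
      linear_combination (Q (x : ι → F) + Q (y : ι → F)) * hab
    · rintro _ ⟨⟨x, y⟩, rfl⟩
      rw [hφ]
      have hle : ∀ {l}, l ∈ s → D l ≤ s.sup D := fun hl => Finset.le_sup hl
      exact add_mem (add_mem (hle hi₁ x.2) (hle hi₂ (hin hm₂ (m2 x y)))) (add_mem (hle hi₃ (hin hm₃ (m3 x y)))
        (hle hi₄ (hin hm₄ y.2)))
    · rw [LinearMap.finrank_range_of_inj ((LinearMap.ker_eq_bot.1) ((LinearMap.ker_eq_bot').2 ?_)),
        Module.finrank_prod, hD.decomp.finrank_eq]
      · ring
      rintro ⟨x, y⟩ hxy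
      rw [hφ] at hxy
      have hx : x = 0 := Subtype.ext (hnd i₁ x x.2 fun z hz => by
        have h := congrArg (fun v => pol Q z v) hxy
        simp only [pol_add_right hQ, pol_zero_right hQ, o h12 hz (hin hm₂ (m2 x y)),
          o h13 hz (hin hm₃ (m3 x y)), o h14 hz (hin hm₄ y.2), add_zero] at h
        exact h)
      have hy : y = 0 := Subtype.ext (hnd i₁ y y.2 fun z hz => by
        have h := congrArg (fun v => pol Q (mv g₄ z) v) hxy
        simp only [pol_add_right hQ, pol_zero_right hQ, o h14.symm (hin hm₄ hz) x.2,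
          o h24.symm (hin hm₄ hz) (hin hm₂ (m2 x y)), o h34.symm (hin hm₄ hz) (hin hm₃ (m3 x y)), zero_add,
          pol_mv hQ hg₄] at h
        exact h)
      rw [hx, hy]; rfl

end Cfsg.Agent.OrthEvenMax
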