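/-
An irreducible group of isometries with a normal subgroup abelian modulo scalars, of dimension at least eight,
lives on a space of plus type.
-/
import Cfsg.Agent.Lib.OrthEvenMax.Plus
import Cfsg.Agent.Lib.Aschbacher.FormMaster

set_option autoImplicit false
set_option linter.style.haveILetI false

namespace Cfsg.Agent.OrthEvenMax

open scoped Matrix
open Matrix Cfsg.Agent.Transvec Cfsg.Agent.Transvec.Orth Cfsg.Agent.Aschbacher

variable {ι : Type} [Fintype ι] [DecidableEq ι] {F : Type*} [Field F] [Fintype F] {Q : (ι → F) → F}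
variable (hQ : Geo.IsNondegenerateQuadraticForm Q)
include hQ

/-- An isometric involution exchanged with its negative gives plus type. -/
theorem plus_of_invol (h2 : (2 : F) ≠ 0) (hn : 4 ∣ Fintype.card ι) {w y : GL ι F}
    (hw : w ∈ isometryGroup F Q) (hy : y ∈ isometryGroup F Q) (hw2 : ∀ v, mv w (mv w v) = v)
    (hwy : ∀ v, mv w (mv y v) = -mv y (mv w v)) : Geo.IsPlusTypeOn Q ⊤ := by
  haveI : NeZero (2 : F) := ⟨h2⟩
  obtain ⟨k', hk'⟩ := hn
  rcases Nat.eq_zero_or_pos (Fintype.card ι) with h0 | hpos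
  · exact ⟨⊥, bot_le, fun x hx => by rw [(Submodule.mem_bot F).1 hx, q_zero hQ],
      by rw [finrank_bot, finrank_top, Module.finrank_pi, h0, mul_zero]⟩
  haveI : Nonempty ι := Fintype.card_pos_iff.1 hpos
  let Ep : Submodule F (ι → F) := LinearMap.ker (mvLin w - LinearMap.id)
  let Em : Submodule F (ι → F) := LinearMap.ker (mvLin w + LinearMap.id)
  have hp : ∀ x, x ∈ Ep ↔ mv w x = x := fun x => by simp [Ep, sub_eq_zero]
  have hm : ∀ x, x ∈ Em ↔ mv w x = -x := fun x => by simp [Em, eq_neg_iff_add_eq_zero]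
  have hdis : Disjoint Ep Em := Submodule.disjoint_def.2 fun x h1 h1' => by
    have h := ((hp x).1 h1).symm.trans ((hm x).1 h1')
    have h' : (2 : F) • x = 0 := by rw [two_smul]; nth_rewrite 1 [h]; rw [neg_add_cancel]
    exact (smul_eq_zero.1 h').resolve_left h2
  have hsup : Ep ⊔ Em = ⊤ := eq_top_iff.2 fun x _ => by
    have e : x = (2 : F)⁻¹ • (x + mv w x) + (2 : F)⁻¹ • (x - mv w x) := by
      rw [← smul_add, show x + mv w x + (x - mv w x) = (2 : F) • x by rw [two_smul]; abel, smul_smul,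
        inv_mul_cancel₀ h2, one_smul]
    rw [e]
    refine Submodule.add_mem_sup ((hp _).2 ?_) ((hm _).2 ?_)
    · rw [mv_smul, mv_add, hw2, add_comm (mv w x)]
    · rw [mv_smul, mv_sub, hw2, ← smul_neg, neg_sub]
  have hswap : ∀ x, x ∈ Ep → mv y x ∈ Em := fun x hx => (hm _).2 (by rw [hwy, (hp x).1 hx])
  have hswap' : ∀ x, x ∈ Em → mv y x ∈ Ep := fun x hx => (hp _).2 (by rw [hwy, (hm x).1 hx, mv_neg, neg_neg])
  have hinj : Function.Injective (mvLin y) := fun a b hab => mv_inj y (by simpa using hab)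
  have hle1 : Ep.map (mvLin y) ≤ Em := by rintro _ ⟨x, hx, rfl⟩; simpa using hswap x hx
  have hle2 : Em.map (mvLin y) ≤ Ep := by rintro _ ⟨x, hx, rfl⟩; simpa using hswap' x hx
  have d1 := Submodule.finrank_mono hle1
  have d2 := Submodule.finrank_mono hle2
  rw [(Submodule.equivMapOfInjective _ hinj _).finrank_eq.symm] at d1 d2
  have hm1 : Ep.map (mvLin y) = Em := Submodule.eq_of_le_of_finrank_le hle1
    (by rw [(Submodule.equivMapOfInjective _ hinj _).finrank_eq.symm]; omega)
  have hm2 : Em.map (mvLin y) = Ep := Submodule.eq_of_le_of_finrank_le hle2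
    (by rw [(Submodule.equivMapOfInjective _ hinj _).finrank_eq.symm]; omega)
  have hsum := Submodule.finrank_sup_add_finrank_inf_eq Ep Em
  rw [hsup, disjoint_iff.1 hdis, finrank_bot, add_zero, finrank_top, Module.finrank_pi] at hsum
  set k := Module.finrank F Ep with hk
  have hkm : Module.finrank F Em = k := by omega
  have horth : ∀ x ∈ Ep, ∀ z ∈ Em, pol Q x z = 0 := fun x hx z hz => by
    have h := pol_mv hQ hw x z
    rw [(hp x).1 hx, (hm z).1 hz, pol_neg_right hQ] at h
    have : (2 : F) * pol Q x z = 0 := by linear_combination -h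
    exact (mul_eq_zero.1 this).resolve_left h2
  have hnd : ∀ (A B : Submodule F (ι → F)), A ⊔ B = ⊤ → (∀ x ∈ A, ∀ z ∈ B, pol Q x z = 0) →
      Geo.IsNondegenerateOn (QuadraticMap.polar Q) A := by
    intro A B hAB ho a ha ha0
    obtain ⟨⟨x, hx⟩, -⟩ := hQ.nondegenerate a ha0
    obtain ⟨p, hpA, q, hqB, rfl⟩ := Submodule.mem_sup.1 (hAB.ge (Submodule.mem_top : x ∈ ⊤))
    have hpa : pol Q p a ≠ 0 := fun h0 => hx (by
      show pol Q (p + q) a = 0
      rw [pol_add_left hQ, h0, pol_comm q a, ho a ha q hqB, add_zero])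
    exact ⟨⟨p, hpA, hpa⟩, p, hpA, by
      show pol Q a p ≠ 0
      rw [pol_comm]; exact hpa⟩
  have hD : Geo.IsNondegenerateMDecomposition (QuadraticMap.polar Q) k (![Ep, Em] : Fin 2 → Submodule F (ι → F)) := by
    refine ⟨isMDecomposition_pair (by omega) hdis hsup rfl hkm, fun i => ?_, fun i j hij => ?_⟩
    · fin_cases i
      · exact hnd Ep Em hsup horth
      · exact hnd Em Ep (by rw [sup_comm, hsup]) fun x hx z hz => by rw [pol_comm]; exact horth z hz x hx
    · fin_cases i <;> fin_cases j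
      · exact absurd rfl hij
      · exact horth
      · exact fun u hu v hv => by
          show pol Q u v = 0
          rw [pol_comm]; exact horth v hv u hu
      · exact absurd rfl hij
  refine plus_of_blocks hQ hD (by omega) ?_ (Or.inl ⟨?_, dvd_rfl⟩)
  · intro i j
    fin_cases i <;> fin_cases j
    · exact ⟨1, Subgroup.one_mem _, by
        rw [show mvLin (1 : GL ι F) = LinearMap.id by simp [mvLin], Submodule.map_id]⟩
    · exact ⟨y, hy, hm1⟩
    · exact ⟨y, hy, hm2⟩
    · exact ⟨1, Subgroup.one_mem _, by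
        rw [show mvLin (1 : GL ι F) = LinearMap.id by simp [mvLin], Submodule.map_id]⟩
  · exact ⟨k', by omega⟩

/-- The abelian case of the subgroup theorem forces plus type. -/
theorem plus_of_abelian {H N : Subgroup (GL ι F)} (hiso : H ≤ isometryGroup F Q) (hn : 8 ≤ Fintype.card ι)
    (S : AbSetup (H ⊔ Geo.scalars ι F) N) : Geo.IsPlusTypeOn Q ⊤ := by
  classical
  haveI := S.nonempty
  have hf : IsHermLike (RingEquiv.refl F) 1 (QuadraticMap.polar Q) := IsHermLike.of_symmetric
    ⟨hQ.polar_bilinear, QuadraticMap.polar_comm _, hQ.nondegenerate⟩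
  have hsim : H ⊔ Geo.scalars ι F ≤ Geo.similarityGroup (QuadraticMap.polar Q) :=
    sup_scalars_le_sim hf fun g hg => ⟨1, fun u v => by
      have h := pol_mv hQ (hiso hg) u v
      simpa using h⟩
  obtain ⟨r, hr, hexp⟩ := S.exists_prime_exponent
  obtain ⟨rfl, h2⟩ := S.two_of_bilinear hf hsim hr hexp
  obtain ⟨k, hk1, hk⟩ := S.dim_prime_pow hr hexp
  have h4 : 4 ∣ Fintype.card ι := by
    rw [hk]
    have h3 : 3 ≤ k := by
      by_contra hc
      push Not at hc
      have : 2 ^ k ≤ 2 ^ 2 := Nat.pow_le_pow_right (by norm_num) (by omega)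
      omega
    obtain ⟨j, rfl⟩ : ∃ j, k = 2 + j := ⟨k - 2, by omega⟩
    rw [pow_add]; exact Dvd.intro _ rfl
  set R : Subgroup (GL ι F) := N ⊓ H with hR
  have hcov : ∀ x ∈ N, ∃ h ∈ R, ∃ c : Fˣ, x = sc ι c * h := by
    intro x hx
    obtain ⟨h, hh, z, hz, rfl⟩ := Subgroup.mem_sup_of_normal_right.1 (S.le hx)
    obtain ⟨c, rfl⟩ := AbSetup.exists_sc hz
    refine ⟨h, ⟨?_, hh⟩, c, (scalars_comm hz h).symm⟩
    have := Subgroup.mul_mem _ hx (S.scal (Subgroup.inv_mem _ hz))
    rwa [mul_assoc, mul_inv_cancel, mul_one] at this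
  have hsc : ∀ (c : Fˣ) (v : ι → F), mv (sc ι c) v = (c : F) • v := fun c v => by
    rw [mv, sc_val, Matrix.smul_mulVec, Matrix.one_mulVec]
  have hval : ∀ {c : Fˣ}, sc ι c ∈ R → (c : F) = 1 ∨ (c : F) = -1 := by
    intro c hc
    obtain ⟨u, v, huv⟩ := hf.exists_ne_zero
    have h := pol_mv hQ (hiso hc.2) u v
    rw [hsc, hsc, pol_smul_left hQ, pol_smul_right hQ, ← mul_assoc] at h
    exact mul_self_eq_one_iff.1 (mul_right_cancel₀ huv (h.trans (one_mul _).symm))
  -- commutators are signs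
  have hsign : ∀ x ∈ R, ∀ y ∈ R, (∀ v, mv y (mv x v) = mv x (mv y v)) ∨
      (∀ v, mv y (mv x v) = -mv x (mv y v)) := by
    intro x hx y hy
    obtain ⟨c, hc⟩ := S.comm x hx.1 y hy.1
    have hc1 : (c : F) * c = 1 := hf.comm_norm (hsim (S.le hx.1)) (hsim (S.le hy.1)) hc
    have hv : ∀ v, mv y (mv x v) = (c : F) • mv x (mv y v) := fun v => by
      rw [← mv_mul, hc, mv_mul, hsc, mv_mul]
    rcases mul_self_eq_one_iff.1 hc1 with h | h
    · exact Or.inl fun v => by rw [hv, h, one_smul]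
    · exact Or.inr fun v => by rw [hv, h, neg_one_smul]
  have hsq : ∀ x ∈ R, (∀ v, mv x (mv x v) = v) ∨ (∀ v, mv x (mv x v) = -v) := by
    intro x hx
    obtain ⟨c, hc⟩ := AbSetup.exists_sc (hexp x hx.1)
    have hv : ∀ v, mv x (mv x v) = (c : F) • v := fun v => by rw [← mv_mul, ← sq, hc, hsc]
    rcases hval (hc ▸ Subgroup.pow_mem _ hx 2) with h | h
    · exact Or.inl fun v => by rw [hv, h, one_smul]
    · exact Or.inr fun v => by rw [hv, h, neg_one_smul]
  -- a non-commuting pair in R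
  obtain ⟨p, hp, q, hq, hpq⟩ : ∃ p ∈ R, ∃ q ∈ R, ∀ v, mv q (mv p v) = -mv p (mv q v) := by
    obtain ⟨x, hx, y, hy, hyx⟩ := S.exists_noncomm
    obtain ⟨p, hp, c, rfl⟩ := hcov x hx
    obtain ⟨q, hq, d, rfl⟩ := hcov y hy
    refine ⟨p, hp, q, hq, (hsign p hp q hq).resolve_left fun h => hyx ?_⟩
    refine ext_mv fun v => ?_
    simp only [mv_mul, hsc, mv_smul, smul_smul]
    rw [h, mul_comm]
  by_cases hw : ∃ w ∈ R, (∀ v, mv w (mv w v) = v) ∧ ¬ ∀ z ∈ R, ∀ v, mv w (mv z v) = mv z (mv w v)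
  · obtain ⟨w, hwR, hw2, hnc⟩ := hw
    push Not at hnc
    obtain ⟨z, hz, v₀, hv₀⟩ := hnc
    rcases hsign z hz w hwR with h | h
    · exact absurd (h v₀) hv₀
    · exact plus_of_invol hQ h2 h4 (hiso hwR.2) (hiso hz.2) hw2 h
  exfalso
  push Not at hw
  -- an element commuting with all of R is a scalar
  have hcent : ∀ w ∈ R, (∀ z ∈ R, ∀ v, mv w (mv z v) = mv z (mv w v)) → w ∈ Geo.scalars ι F := by
    intro w hwR hc
    refine S.commutes_iff (x := w) |>.1 fun y hy => ?_
    obtain ⟨z, hz, c, rfl⟩ := hcov y hy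
    refine ext_mv fun v => ?_
    rw [mv_mul, mv_mul, mv_mul, mv_mul, hsc, hsc, mv_smul, hc z hz]
  have hp2 : ∀ v, mv p (mv p v) = -v := (hsq p hp).resolve_left fun h => by
    obtain ⟨u, v, huv⟩ := hf.exists_ne_zero
    obtain ⟨c, hc⟩ := AbSetup.exists_sc (hcent p hp (hw p hp h))
    have h0 := hpq u
    rw [hc, hsc, hsc, mv_smul] at h0
    have h0' : ((2 : F) * c) • mv q u = 0 := by linear_combination (norm := module) h0
    have hu0 : u = 0 := by
      rcases smul_eq_zero.1 h0' with h' | h'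
      · exact absurd h' (mul_ne_zero h2 c.ne_zero)
      · exact mv_inj q (h'.trans (mv_zero q).symm)
    exact huv (by rw [hu0]; exact pol_zero_left hQ v)
  -- everything commuting with p and q is a scalar
  have hcase : ∀ l ∈ R, (∀ v, mv l (mv p v) = mv p (mv l v)) → (∀ v, mv l (mv q v) = mv q (mv l v)) →
      ∃ c : F, (l : Matrix ι ι F) = c • 1 := by
    intro l hl h1 h3
    rcases hsq l hl with hl2 | hl2
    · obtain ⟨c, hc⟩ := (Geo.mem_scalars_iff l).1 (hcent l hl (hw l hl hl2))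
      exact ⟨c, hc⟩
    · exfalso
      have hlp2 : ∀ v, mv (l * p) (mv (l * p) v) = v := fun v => by
        rw [mv_mul, mv_mul, ← h1, hp2, mv_neg, mv_neg, hl2, neg_neg]
      have h := hw _ (Subgroup.mul_mem _ hl hp) hlp2 q hq
      obtain ⟨u, v, huv⟩ := hf.exists_ne_zero
      have h' := h u
      rw [mv_mul, mv_mul, ← h3 (mv p u), hpq, mv_neg] at h'
      have h0' : (2 : F) • mv l (mv p (mv q u)) = 0 := by linear_combination (norm := module) h'
      have hu0 : u = 0 := by
        have := (smul_eq_zero.1 h0').resolve_left h2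
        exact mv_inj q ((mv_inj p ((mv_inj l (this.trans (mv_zero l).symm)).trans (mv_zero p).symm)).trans
          (mv_zero q).symm)
      exact huv (by rw [hu0]; exact pol_zero_left hQ v)
  -- the span is at most four dimensional
  set V4 := Submodule.span F (Set.range ![(1 : Matrix ι ι F), (p : Matrix ι ι F), (q : Matrix ι ι F),
    (p : Matrix ι ι F) * (q : Matrix ι ι F)]) with hV4
  have hmem : ∀ l ∈ R, (l : Matrix ι ι F) ∈ V4 := by
    intro l hl
    have hpi : ((p⁻¹ : GL ι F) : Matrix ι ι F) = -(p : Matrix ι ι F) := by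
      refine Units.inv_eq_of_mul_eq_one_right (Matrix.ext_of_mulVec_single fun i => ?_)
      rw [← Matrix.mulVec_mulVec, Matrix.neg_mulVec, Matrix.one_mulVec]
      show mv p (-(mv p (Pi.single i 1))) = _
      rw [mv_neg, hp2, neg_neg]
    have hqi : ∃ c : F, ((q⁻¹ : GL ι F) : Matrix ι ι F) = c • (q : Matrix ι ι F) := by
      rcases hsq q hq with h | h
      · exact ⟨1, Units.inv_eq_of_mul_eq_one_right (Matrix.ext_of_mulVec_single fun i => by
          rw [one_smul, ← Matrix.mulVec_mulVec, Matrix.one_mulVec]; exact h _)⟩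
      · refine ⟨-1, Units.inv_eq_of_mul_eq_one_right (Matrix.ext_of_mulVec_single fun i => ?_)⟩
        rw [← Matrix.mulVec_mulVec, Matrix.one_mulVec, neg_one_smul, Matrix.neg_mulVec]
        show mv q (-(mv q (Pi.single i 1))) = _
        rw [mv_neg, h, neg_neg]
    obtain ⟨cq, hqi⟩ := hqi
    obtain ⟨m, hm, hmp, hmq, hlm⟩ : ∃ m ∈ R, (∀ v, mv m (mv p v) = mv p (mv m v)) ∧
        (∀ v, mv m (mv q v) = mv q (mv m v)) ∧
        (l = m ∨ l = m * p⁻¹ ∨ l = m * q⁻¹ ∨ l = m * q⁻¹ * p⁻¹) := by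
      rcases hsign p hp l hl with h | h <;> rcases hsign q hq l hl with h' | h'
      · exact ⟨l, hl, h, h', Or.inl rfl⟩
      · refine ⟨l * p, Subgroup.mul_mem _ hl hp, fun v => ?_, fun v => ?_, Or.inr (Or.inl (mul_inv_cancel_right l p).symm)⟩
        · rw [mv_mul, mv_mul, h]
        · rw [mv_mul, mv_mul, show mv p (mv q v) = -mv q (mv p v) by rw [hpq, neg_neg], mv_neg, h', neg_neg]
      · refine ⟨l * q, Subgroup.mul_mem _ hl hq, fun v => ?_, fun v => ?_,
          Or.inr (Or.inr (Or.inl (mul_inv_cancel_right l q).symm))⟩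
        · rw [mv_mul, mv_mul, hpq, mv_neg, h, neg_neg]
        · rw [mv_mul, mv_mul, h']
      · refine ⟨l * p * q, Subgroup.mul_mem _ (Subgroup.mul_mem _ hl hp) hq, fun v => ?_, fun v => ?_,
          Or.inr (Or.inr (Or.inr (by group)))⟩
        · simp only [mv_mul]
          rw [hpq, mv_neg, mv_neg, h (mv p (mv q v)), neg_neg]
        · simp only [mv_mul]
          rw [show mv p (mv q (mv q v)) = -mv q (mv p (mv q v)) by rw [hpq, neg_neg], mv_neg, h', neg_neg]
    obtain ⟨c, hc⟩ := hcase m hm hmp hmq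
    have hb : ∀ i, ![(1 : Matrix ι ι F), (p : Matrix ι ι F), (q : Matrix ι ι F),
        (p : Matrix ι ι F) * (q : Matrix ι ι F)] i ∈ V4 := fun i => Submodule.subset_span ⟨i, rfl⟩
    rcases hlm with rfl | rfl | rfl | rfl
    · rw [hc]; exact V4.smul_mem _ (hb 0)
    · rw [Units.val_mul, hc, hpi, mul_neg, Matrix.smul_mul, one_mul]
      exact neg_mem (V4.smul_mem _ (hb 1))
    · rw [Units.val_mul, hc, hqi, Matrix.mul_smul, Matrix.smul_mul, one_mul]
      exact V4.smul_mem _ (V4.smul_mem _ (hb 2))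
    · have e : ∀ v, mv q (mv p v) = -mv p (mv q v) := hpq
      have hqp : (q : Matrix ι ι F) * (p : Matrix ι ι F) = -((p : Matrix ι ι F) * (q : Matrix ι ι F)) :=
        Matrix.ext_of_mulVec_single fun i => by
          rw [Matrix.neg_mulVec, ← Matrix.mulVec_mulVec, ← Matrix.mulVec_mulVec]; exact e _
      simp only [Units.val_mul, hc, hqi, hpi, Matrix.mul_smul, Matrix.smul_mul, one_mul, mul_neg, hqp, neg_neg]
      simp only [smul_neg, neg_neg]
      exact V4.smul_mem _ (V4.smul_mem _ (hb 3))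
  have htop : ∀ X : Matrix ι ι F, X ∈ V4 := by
    intro X
    have hX : X ∈ spanAlg N := by rw [S.top]; exact Algebra.mem_top
    refine spanAlg_induction (p := fun Z => Z ∈ V4) ?_ V4.zero_mem (fun a b => V4.add_mem)
      (fun c a => V4.smul_mem c) hX
    intro g hg
    obtain ⟨h, hh, c, rfl⟩ := hcov g hg
    rw [Units.val_mul, sc_val, Matrix.smul_mul, one_mul]
    exact V4.smul_mem _ (hmem h hh)
  have h5 := finrank_range_le_card (R := F) ![(1 : Matrix ι ι F), (p : Matrix ι ι F), (q : Matrix ι ι F),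
    (p : Matrix ι ι F) * (q : Matrix ι ι F)]
  rw [Set.finrank, ← hV4, show V4 = ⊤ from eq_top_iff.2 fun X _ => htop X, finrank_top, Module.finrank_matrix,
    Module.finrank_self, mul_one, Fintype.card_fin] at h5
  nlinarith

end Cfsg.Agent.OrthEvenMax
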