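/-
In any characteristic the Siegel elements preserve no subspace, decomposition, field, subfield or tensor structure.
-/
import Cfsg.Agent.Lib.OrthEvenMax.Base
import Cfsg.Agent.Lib.Transvec.OrthNondeg
import Cfsg.Agent.Lib.OrthOddMax.NotLe
import Cfsg.Agent.Lib.Aschbacher.FormWreath

set_option autoImplicit false

namespace Cfsg.Agent.OrthEvenMax

open scoped Matrix Kronecker
open Matrix Cfsg.Agent.Transvec Cfsg.Agent.Transvec.Orth

variable {ι : Type} [Fintype ι] [DecidableEq ι] {F : Type*} [Field F] {Q : (ι → F) → F}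
variable (hQ : Geo.IsNondegenerateQuadraticForm Q)
include hQ

/-- Two vectors orthogonal to u that are not orthogonal to each other. -/
theorem exists_pair_perp (hn : 3 ≤ Fintype.card ι) (u : ι → F) :
    ∃ y z, pol Q u y = 0 ∧ pol Q u z = 0 ∧ pol Q y z ≠ 0 := by
  by_contra h
  push Not at h
  have hle := finrank_totally_orth_le hQ (nondeg_top hQ) (L := LinearMap.ker (formQ hQ u)) le_top
    fun x hx y hy => h x y (by rw [pol_comm]; exact hx) (by rw [pol_comm]; exact hy)
  have h1 := LinearMap.finrank_range_add_finrank_ker (formQ hQ u)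
  have h2 := Submodule.finrank_le (LinearMap.range (formQ hQ u))
  rw [Module.finrank_self] at h2
  rw [finrank_top, Module.finrank_pi] at hle
  rw [Module.finrank_pi] at h1
  omega

variable [Finite F]

/-- The Siegel elements fix no proper subspace. -/
theorem not_allSiegel_subspace (hn : 3 ≤ Fintype.card ι) {W : Submodule F (ι → F)} (h0 : W ≠ ⊥) (h1 : W ≠ ⊤) :
    ¬ AllSiegel Q (Geo.subspaceStabilizer W) := by
  intro hle
  obtain ⟨w, hw, hw0⟩ := W.ne_bot_iff.1 h0
  have htop : 3 ≤ Module.finrank F ↥(⊤ : Submodule F (ι → F)) := by rwa [finrank_top, Module.finrank_pi]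
  obtain ⟨u, -, hu, hwu⟩ := exists_singular_not_orth hQ (nondeg_top hQ) htop Submodule.mem_top hw0
  have key : ∀ y, pol Q u y = 0 → pol Q w u • y - (pol Q w y + Q y * pol Q w u) • u ∈ W := by
    intro y hy
    obtain ⟨g, -, hg⟩ := exists_siegel hQ hu hy
    have hm := mv_mem_of_mem_stab (hle g u y hu hy hg) hw
    rw [hg w, add_sub_assoc] at hm
    simpa using W.sub_mem hm hw
  have hmu : u ∈ W := by
    obtain ⟨y, z, hy, hz, hyz⟩ := exists_pair_perp hQ hn u
    have e := W.sub_mem (W.add_mem (key y hy) (key z hz))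
      (key (y + z) (by rw [pol_add_right hQ, hy, hz, add_zero]))
    rw [pol_add_right hQ, q_add hQ, show pol Q w u • y - (pol Q w y + Q y * pol Q w u) • u +
        (pol Q w u • z - (pol Q w z + Q z * pol Q w u) • u) -
        (pol Q w u • (y + z) - (pol Q w y + pol Q w z + (Q y + Q z + pol Q y z) * pol Q w u) • u) =
        (pol Q y z * pol Q w u) • u by module] at e
    exact (W.smul_mem_iff (mul_ne_zero hyz hwu)).1 e
  have hperp : ∀ y, pol Q u y = 0 → y ∈ W := fun y hy => by
    have := W.add_mem (key y hy) (W.smul_mem (pol Q w y + Q y * pol Q w u) hmu)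
    rw [sub_add_cancel] at this
    exact (W.smul_mem_iff hwu).1 this
  refine h1 (Submodule.eq_top_iff'.2 fun z => ?_)
  have hwz : z - (pol Q u z / pol Q w u) • w ∈ W := hperp _ (by
    rw [pol_sub_right hQ, pol_smul_right hQ, pol_comm u w, div_mul_cancel₀ _ hwu, sub_self])
  simpa using W.add_mem hwz (W.smul_mem (pol Q u z / pol Q w u) hw)

/-- A matrix commuting with all Siegel elements is a scalar. -/
theorem scalar_of_commute' (hn : 3 ≤ Fintype.card ι) {X : Matrix ι ι F}
    (hX : ∀ (g : GL ι F) (u y : ι → F), Q u = 0 → pol Q u y = 0 → IsSiegel Q g u y →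
      (g : Matrix ι ι F) * X = X * (g : Matrix ι ι F)) :
    ∃ c : F, X = c • (1 : Matrix ι ι F) := by
  have htop : 3 ≤ Module.finrank F ↥(⊤ : Submodule F (ι → F)) := by rwa [finrank_top, Module.finrank_pi]
  obtain ⟨u, -, hu0, hu⟩ := exists_singular hQ htop
  obtain ⟨d, -, hd, hud⟩ := exists_partner hQ (nondeg_top hQ) Submodule.mem_top hu0 hu
  set v := X *ᵥ u with hv
  have huu : pol Q u u = 0 := by rw [pol_self hQ, hu, mul_zero]
  have hfix : ∀ y, pol Q u y = 0 → pol Q v u • y - (pol Q v y + Q y * pol Q v u) • u = 0 := by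
    intro y hy
    obtain ⟨g, -, hg⟩ := exists_siegel hQ hu hy
    have hgu : mv g u = u := isSiegel_fix hQ hg huu hy
    have e := congrArg (fun M => M *ᵥ u) (hX g u y hu hy hg)
    simp only [← Matrix.mulVec_mulVec] at e
    change mv g v = X *ᵥ mv g u at e
    rw [hgu, ← hv, hg v, add_sub_assoc] at e
    exact add_eq_left.1 e
  have hvu : pol Q v u = 0 := by
    obtain ⟨y, z, hy, hz, hyz⟩ := exists_pair_perp hQ hn u
    have e := congrArg (fun x => pol Q x z) (hfix y hy)
    simp only [pol_sub_left hQ, pol_smul_left hQ, hz, mul_zero, sub_zero, pol_zero_left hQ] at e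
    exact (mul_eq_zero.1 e).resolve_right hyz
  have hvy : ∀ y, pol Q u y = 0 → pol Q v y = 0 := fun y hy => by
    have e := hfix y hy
    rw [hvu, zero_smul, mul_zero, add_zero, zero_sub, neg_eq_zero, smul_eq_zero] at e
    exact e.resolve_right hu0
  set c := pol Q v d with hc
  have hvc : v = c • u := by
    refine sub_eq_zero.1 (nondeg_top hQ (v - c • u) Submodule.mem_top fun z _ => ?_)
    have hz : pol Q u (z - pol Q u z • d) = 0 := by
      rw [pol_sub_right hQ, pol_smul_right hQ, hud, mul_one, sub_self]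
    have e := hvy _ hz
    rw [pol_sub_right hQ, pol_smul_right hQ] at e
    rw [pol_sub_right hQ, pol_smul_right hQ, pol_comm z v, pol_comm z u]
    linear_combination e
  let W : Submodule F (ι → F) := LinearMap.ker (Matrix.toLin' X - c • LinearMap.id)
  have hmem : ∀ x, x ∈ W ↔ X *ᵥ x = c • x := fun x => by
    rw [LinearMap.mem_ker, LinearMap.sub_apply, sub_eq_zero]
    simp
  refine ⟨c, ?_⟩
  by_cases hW : W = ⊤
  · refine Matrix.ext_of_mulVec_single fun i => ?_
    rw [(hmem _).1 (hW ▸ Submodule.mem_top), Matrix.smul_mulVec, Matrix.one_mulVec]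
  exfalso
  refine not_allSiegel_subspace hQ hn (W := W) (W.ne_bot_iff.2 ⟨u, (hmem u).2 hvc, hu0⟩) hW
    fun g u' y' hu' hy' hg => ?_
  have hcomm := hX g u' y' hu' hy' hg
  exact mem_subspaceStabilizer_of_le fun x hx => (hmem _).2 (by
    show X *ᵥ ((g : Matrix ι ι F) *ᵥ x) = c • ((g : Matrix ι ι F) *ᵥ x)
    rw [Matrix.mulVec_mulVec, ← hcomm, ← Matrix.mulVec_mulVec, (hmem x).1 hx, Matrix.mulVec_smul])

/-- No field extension is normalised. -/
theorem not_allSiegel_field (hn : 5 ≤ Fintype.card ι) {r : ℕ} (hr : 2 ≤ r) {K : Subalgebra F (Matrix ι ι F)}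
    (hK : Geo.IsFieldSubalgebra r K) : ¬ AllSiegel Q (Geo.subalgebraNormalizer K) := by
  intro hle
  haveI : Nonempty ι := Fintype.card_pos_iff.1 (by omega)
  have hbot : ∀ X ∈ K, ∃ c : F, X = c • (1 : Matrix ι ι F) := by
    intro X hX
    refine scalar_of_commute' hQ (by omega) fun g u y hu hy hg => ?_
    have hD : (g : Matrix ι ι F) * X * ((g⁻¹ : GL ι F) : Matrix ι ι F) - X ∈ K :=
      sub_mem ((hle g u y hu hy hg X).1 hX) hX
    set D := (g : Matrix ι ι F) * X * ((g⁻¹ : GL ι F) : Matrix ι ι F) - X with hDdef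
    by_cases hD0 : D = 0
    · exact (Units.mul_inv_eq_iff_eq_mul g).1 (sub_eq_zero.1 hD0)
    exfalso
    obtain ⟨Y, -, hY⟩ := hK.inv _ hD hD0
    obtain ⟨z, hz, h1, h3, h4, h5⟩ := OrthOddMax.exists_killed hQ hn X u y
    have e1 : mv g z = z := isSiegel_fix hQ hg h1 h3
    have e3 : mv g (X *ᵥ z) = X *ᵥ z := isSiegel_fix hQ hg h4 h5
    have e2 : mv g⁻¹ z = z := by conv_lhs => rw [← e1, mv_inv_mv]
    have e4 : D *ᵥ z = 0 := by
      rw [hDdef, Matrix.sub_mulVec, ← Matrix.mulVec_mulVec, ← Matrix.mulVec_mulVec]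
      change mv g (X *ᵥ mv g⁻¹ z) - _ = 0
      rw [e2, e3, sub_self]
    have h' := congrArg (fun M => M *ᵥ z) (mul_eq_one_comm.1 hY)
    simp only [← Matrix.mulVec_mulVec, e4, Matrix.mulVec_zero, Matrix.one_mulVec] at h'
    exact hz h'.symm
  have : K = ⊥ := le_antisymm (fun X hX => by
    obtain ⟨c, rfl⟩ := hbot X hX
    exact Subalgebra.smul_mem _ (one_mem _) c) bot_le
  have h := hK.finrank_eq
  rw [this, Subalgebra.finrank_bot] at h
  omega

omit [Finite F] in
/-- A Siegel element moves a subspace only inside a plane. -/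
theorem finrank_le_two {g : GL ι F} {u y : ι → F} (hg : IsSiegel Q g u y) {κ : Type} [Fintype κ]
    (φ : (κ → F) →ₗ[F] (ι → F)) (hφ : ∀ x, mv g (φ x) = φ x → x = 0) : Fintype.card κ ≤ 2 := by
  classical
  let ψ : (κ → F) →ₗ[F] F × F := ((formQ hQ u).comp φ).prod ((formQ hQ y).comp φ)
  have hinj : Function.Injective ψ := LinearMap.ker_eq_bot.1 ((LinearMap.ker_eq_bot').2 fun x hx => by
    simp only [ψ, LinearMap.prod_apply, Function.prod, LinearMap.comp_apply, formQ_apply, Prod.mk_eq_zero] at hx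
    exact hφ x (isSiegel_fix hQ hg hx.1 hx.2))
  have h := LinearMap.finrank_le_finrank_of_injective hinj
  simpa [Module.finrank_prod, Module.finrank_pi] using h

/-- No orthogonal decomposition is stabilised. -/
theorem not_allSiegel_decomposition {t k : ℕ} {D : Fin t → Submodule F (ι → F)}
    (hD : Geo.IsNondegenerateMDecomposition (QuadraticMap.polar Q) k D) (h3 : k + 3 ≤ Fintype.card ι) :
    ¬ AllSiegel Q (Geo.decompositionStabilizer D) := by
  intro hle
  have ht := hD.decomp.two_le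
  let i₀ : Fin t := ⟨0, by omega⟩
  set S : Submodule F (ι → F) := ⨆ j, ⨆ (_ : j ≠ i₀), D j with hS
  have hdisj : Disjoint (D i₀) S := hD.decomp.indep i₀
  have hjS : ∀ {j}, j ≠ i₀ → D j ≤ S := fun {j} hj => le_iSup₂ (f := fun l (_ : l ≠ i₀) => D l) j hj
  have htop : D i₀ ⊔ S = ⊤ := by
    refine top_le_iff.1 (hD.decomp.iSup_eq_top ▸ iSup_le fun j => ?_)
    by_cases hj : j = i₀
    · exact hj ▸ le_sup_left
    · exact (hjS hj).trans le_sup_right
  have hS3 : 3 ≤ Module.finrank F S := by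
    have h := Submodule.finrank_add_le_finrank_add_finrank (D i₀) S
    rw [htop, finrank_top, Module.finrank_pi, hD.decomp.finrank_eq] at h
    omega
  obtain ⟨u, huS, hu0, hu⟩ := exists_singular hQ hS3
  have hne : D i₀ ≠ ⊥ := fun h => by
    have := hD.decomp.finrank_eq i₀
    rw [h, finrank_bot] at this
    have := hD.decomp.pos
    omega
  obtain ⟨z, hzD, hz0⟩ := (D i₀).ne_bot_iff.1 hne
  obtain ⟨-, y, hyD, hzy⟩ := hD.nondegenerate i₀ z hzD hz0
  have hperp : ∀ {v : ι → F}, v ∈ D i₀ → pol Q u v = 0 := fun {v} hvD => by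
    have : S ≤ LinearMap.ker (formQ hQ v) := iSup₂_le fun j hj w hw => hD.orthogonal j i₀ hj w hw v hvD
    exact this huS
  obtain ⟨g, -, hg⟩ := exists_siegel hQ hu (hperp hyD)
  obtain ⟨τ, hτ⟩ := hle g u y hu (hperp hyD) hg
  have hgz : mv g z = z - pol Q z y • u := by
    rw [hg z, pol_comm z u, hperp hzD, zero_smul, add_zero, mul_zero, add_zero]
  have hmem : z - pol Q z y • u ∈ D (τ i₀) := by
    rw [← hτ i₀, ← hgz]
    exact ⟨z, hzD, Matrix.toLin'_apply _ _⟩
  by_cases hj : τ i₀ = i₀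
  · rw [hj] at hmem
    have h' : pol Q z y • u ∈ D i₀ := by simpa using (D i₀).sub_mem hzD hmem
    exact hu0 (Submodule.disjoint_def.1 hdisj u (((D i₀).smul_mem_iff hzy).1 h') huS)
  · have h' : z ∈ S := by simpa using S.add_mem (hjS hj hmem) (S.smul_mem (pol Q z y) huS)
    exact hz0 (Submodule.disjoint_def.1 hdisj z hzD h')

/-- No pair of complementary subspaces of dimension at least three is stabilised. -/
theorem not_allSiegel_pair {k : ℕ} {D : Fin 2 → Submodule F (ι → F)} (hD : Geo.IsMDecomposition k D)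
    (hk : 3 ≤ k) (hcard : 2 * k = Fintype.card ι) : ¬ AllSiegel Q (Geo.decompositionStabilizer D) := by
  intro hle
  have hne : D 0 ≠ ⊥ := fun h => by
    have := hD.finrank_eq 0
    rw [h, finrank_bot] at this
    omega
  have h1 : D 0 ≠ ⊤ := fun h => by
    have := hD.finrank_eq 0
    rw [h, finrank_top, Module.finrank_pi] at this
    omega
  refine not_allSiegel_subspace hQ (by omega) hne h1 fun g u y hu hy hg => ?_
  obtain ⟨τ, hτ⟩ := hle g u y hu hy hg
  have hmap := hτ 0
  by_cases hj : τ 0 = 0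
  · rw [hj] at hmap
    exact mem_subspaceStabilizer_of_le fun x hx => hmap.le ⟨x, hx, Matrix.toLin'_apply _ _⟩
  exfalso
  let b := Module.finBasisOfFinrankEq F (D 0) (hD.finrank_eq 0)
  have hdis : Disjoint (D 0) (D (τ 0)) := hD.indep.pairwiseDisjoint (Ne.symm hj)
  have h := finrank_le_two hQ hg ((D 0).subtype.comp b.equivFun.symm.toLinearMap) fun x hx => by
    have hxD : ((b.equivFun.symm x : D 0) : ι → F) ∈ D 0 := SetLike.coe_mem _
    have hx' : ((b.equivFun.symm x : D 0) : ι → F) ∈ D (τ 0) := by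
      rw [← hmap]
      exact ⟨_, hxD, (Matrix.toLin'_apply _ _).trans hx⟩
    exact b.equivFun.symm.injective (by rw [map_zero]; exact Subtype.ext (Submodule.disjoint_def.1 hdis _ hxD hx'))
  rw [Fintype.card_fin] at h
  omega

/-- No subfield group contains all Siegel elements. -/
theorem not_allSiegel_subfield (hn : 5 ≤ Fintype.card ι) {F₀ : Subfield F} (hne : F₀ ≠ ⊤) (P : GL ι F) :
    ¬ AllSiegel Q (Geo.subfieldSubgroup F₀ P) := by
  classical
  intro hle
  haveI : Nonempty ι := Fintype.card_pos_iff.1 (by omega)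
  obtain ⟨p, hchar⟩ := CharP.exists F
  haveI := Fact.mk (CharP.char_is_prime F p)
  set w : ι → ι → F := fun j => (P : Matrix ι ι F) *ᵥ Pi.single j 1 with hw
  have hent : ∀ (g : GL ι F) (u y : ι → F), Q u = 0 → pol Q u y = 0 → IsSiegel Q g u y →
      ∀ i j, (((P⁻¹ : GL ι F) : Matrix ι ι F) *ᵥ mv g (w j)) i ∈ F₀ := by
    intro g u y hu hy hg
    obtain ⟨g', hg', hgg'⟩ := hle g u y hu hy hg
    obtain ⟨a, ⟨g₀, rfl⟩, z, hz, rfl⟩ := Subgroup.mem_sup_of_normal_right.1 hg'
    obtain ⟨c, hc⟩ := (Geo.mem_scalars_iff z).1 hz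
    set G₀ := Matrix.GeneralLinearGroup.map (F₀.subtype : F₀ →+* F) g₀ with hG₀
    have hconj : P⁻¹ * g * P = G₀ * z := by
      rw [← hgg']
      simp [mul_assoc]
    have hzc : Commute G₀ z := (Aschbacher.scalars_comm hz G₀).symm
    have hp1 : g ^ p = 1 := by
      have hpow : ∀ n : ℕ, IsSiegel Q (g ^ n) u ((n : F) • y) := by
        intro n
        induction n with
        | zero => simpa using isSiegel_zero hQ u
        | succ n ih =>
          rw [pow_succ, Nat.cast_succ, add_smul, one_smul]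
          exact isSiegel_mul hQ hu (by rw [pol_smul_right hQ, hy, mul_zero]) hy ih hg
      have h := hpow p
      rw [CharP.cast_eq_zero, zero_smul] at h
      exact isSiegel_unique h (isSiegel_zero hQ u)
    have hp : G₀ ^ p * z ^ p = 1 := by
      rw [← hzc.mul_pow, ← hconj, show P⁻¹ * g * P = MulAut.conj P⁻¹ g by simp [mul_assoc], ← map_pow, hp1,
        map_one]
    have hcp : (c : F) ^ p ∈ F₀ := by
      obtain ⟨i⟩ := ‹Nonempty ι›
      have h' := congrArg (fun M : GL ι F => (M : Matrix ι ι F) i i) hp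
      simp only [Units.val_mul, Units.val_pow_eq_pow_val, hc, smul_pow, one_pow, Matrix.mul_smul, mul_one,
        Matrix.smul_apply, smul_eq_mul, Units.val_one, Matrix.one_apply_eq] at h'
      have hmem : ((G₀ : Matrix ι ι F) ^ p) i i ∈ F₀ := by
        rw [← Units.val_pow_eq_pow_val, hG₀, ← map_pow]
        exact SetLike.coe_mem _
      rw [eq_inv_of_mul_eq_one_left h']
      exact inv_mem hmem
    have hcF : (c : F) ∈ F₀ := by
      have hinj : Function.Injective fun x : F₀ => (⟨(x : F) ^ p, pow_mem x.2 p⟩ : F₀) :=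
        fun x x' h => Subtype.ext (frobenius_inj F p (congrArg Subtype.val h))
      obtain ⟨d, hd⟩ := (Finite.injective_iff_surjective.1 hinj) ⟨_, hcp⟩
      rw [← show ((d : F₀) : F) = c from frobenius_inj F p (congrArg Subtype.val hd)]
      exact d.2
    intro i j
    have hval : ((P⁻¹ : GL ι F) : Matrix ι ι F) *ᵥ mv g (w j) =
        (c : F) • (fun l => (G₀ : Matrix ι ι F) l j) := by
      show ((P⁻¹ : GL ι F) : Matrix ι ι F) *ᵥ ((g : Matrix ι ι F) *ᵥ ((P : Matrix ι ι F) *ᵥ _)) = _
      rw [Matrix.mulVec_mulVec, Matrix.mulVec_mulVec, ← Units.val_mul, ← Units.val_mul, hconj, Units.val_mul,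
        hc, Matrix.mul_smul, mul_one, Matrix.smul_mulVec, Matrix.mulVec_single_one]
      rfl
    rw [hval]
    exact mul_mem hcF (SetLike.coe_mem (g₀.val i j))
  -- a totally singular line through u
  obtain ⟨u, -, hu0, hu⟩ := exists_singular hQ (X := (⊤ : Submodule F (ι → F)))
    (by rw [finrank_top, Module.finrank_pi]; omega)
  obtain ⟨d, -, hd, hud⟩ := exists_partner hQ (nondeg_top hQ) Submodule.mem_top hu0 hu
  obtain ⟨hP, hP2⟩ := nondeg_pair hQ hu hd hud
  obtain ⟨b, hbP, hb0, hb⟩ := exists_singular hQ (X := orth hQ (Submodule.span F ({u, d} : Set (ι → F))))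
    (by have := (orth_nondeg hQ hP).2; omega)
  have hub : pol Q u b = 0 := hbP u (Submodule.subset_span (Set.mem_insert _ _))
  have hdb : pol Q d b = 0 := hbP d (Submodule.subset_span (Set.mem_insert_of_mem _ rfl))
  let A : (ι → F) →ₗ[F] ι → F := (formQ hQ u).smulRight b - (formQ hQ b).smulRight u
  have hAB : ∀ (a : F) i j, a * (((P⁻¹ : GL ι F) : Matrix ι ι F) *ᵥ A (w j)) i ∈ F₀ := by
    intro a i j
    have h1 : pol Q u (a • b) = 0 := by rw [pol_smul_right hQ, hub, mul_zero]
    obtain ⟨g, -, hg⟩ := exists_siegel hQ hu h1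
    have h2 := hent 1 u 0 hu (pol_zero_right hQ u) (isSiegel_zero hQ u) i j
    have := sub_mem (hent g u _ hu h1 hg i j) h2
    have hA : mv g (w j) - mv (1 : GL ι F) (w j) = a • A (w j) := by
      rw [hg (w j), mv_one]
      simp only [A, LinearMap.sub_apply, LinearMap.smulRight_apply, formQ_apply, pol_smul_right hQ, q_smul hQ, hb,
        mul_zero, zero_mul, add_zero]
      module
    rwa [← Pi.sub_apply, ← Matrix.mulVec_sub, hA, Matrix.mulVec_smul, Pi.smul_apply, smul_eq_mul] at this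
  obtain ⟨i, j, hij⟩ : ∃ i j, (((P⁻¹ : GL ι F) : Matrix ι ι F) *ᵥ A (w j)) i ≠ 0 := by
    by_contra! h
    have hzero : A.comp (Matrix.toLin' (P : Matrix ι ι F)) = 0 := (Pi.basisFun F ι).ext fun j => by
      rw [Pi.basisFun_apply, LinearMap.comp_apply, Matrix.toLin'_apply, LinearMap.zero_apply]
      have : ((P⁻¹ : GL ι F) : Matrix ι ι F) *ᵥ A (w j) = 0 := funext fun i => h i j
      exact mv_inj P⁻¹ (this.trans (mv_zero P⁻¹).symm)
    have h' := LinearMap.congr_fun hzero (((P⁻¹ : GL ι F) : Matrix ι ι F) *ᵥ d)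
    rw [LinearMap.comp_apply, Matrix.toLin'_apply, Matrix.mulVec_mulVec, Units.mul_inv, Matrix.one_mulVec,
      LinearMap.zero_apply] at h'
    simp only [A, LinearMap.sub_apply, LinearMap.smulRight_apply, formQ_apply, pol_comm d u, hud, hdb,
      one_smul, zero_smul, sub_zero] at h'
    exact hb0 h'
  refine hne (top_le_iff.1 fun a _ => ?_)
  have e := mul_mem (hAB a i j) (inv_mem (hAB 1 i j))
  rwa [show a * (((P⁻¹ : GL ι F) : Matrix ι ι F) *ᵥ A (w j)) i *
      (1 * (((P⁻¹ : GL ι F) : Matrix ι ι F) *ᵥ A (w j)) i)⁻¹ = a by field_simp] at e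

omit [Finite F] [DecidableEq ι] hQ in
/-- A tensor product vector. -/
def tprod {a b : ℕ} (eq : ι ≃ Fin a × Fin b) (x : Fin a → F) (z : Fin b → F) : ι → F :=
  (fun p : Fin a × Fin b => x p.1 * z p.2) ∘ eq

/-- No tensor decomposition is preserved. -/
theorem not_allSiegel_tensor {a b : ℕ} (ha : 2 ≤ a) (hb : 3 ≤ b) (eq : ι ≃ Fin a × Fin b) (P : GL ι F) :
    ¬ AllSiegel Q (Geo.tensorProductSubgroup a b eq P) := by
  intro hle
  haveI : NeZero a := ⟨by omega⟩
  haveI : NeZero b := ⟨by omega⟩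
  have hcard : Fintype.card ι = a * b := by simp [Fintype.card_congr eq]
  let φ : (Fin a → F) → ((Fin b → F) →ₗ[F] (ι → F)) := fun x =>
    (Matrix.toLin' (P : Matrix ι ι F)).comp
      ({ toFun := fun z => tprod eq x z
         map_add' := fun z z' => by funext i; simp [tprod, mul_add]
         map_smul' := fun c z => by funext i; simp [tprod, mul_left_comm] } : (Fin b → F) →ₗ[F] (ι → F))
  have hφ : ∀ x z, φ x z = mv P (tprod eq x z) := fun x z => rfl
  have hrep : ∀ g ∈ Geo.tensorProductSubgroup a b eq P, ∃ (u : GL (Fin a) F) (w : GL (Fin b) F),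
      ∀ x z, mv g (φ x z) = φ (mv u x) (mv w z) := by
    rintro g ⟨g₁, ⟨g₂, ⟨u, w, hg₂⟩, rfl⟩, rfl⟩
    refine ⟨u, w, fun x z => ?_⟩
    rw [hφ, hφ, show (MulAut.conj P).toMonoidHom ((Geo.glReindex eq.symm).toMonoidHom g₂) =
      P * Geo.glReindex eq.symm g₂ * P⁻¹ from rfl, mv_mul, mv_mul, mv_inv_mv]
    congr 1
    funext i
    have hval : ((Geo.glReindex eq.symm g₂ : GL ι F) : Matrix ι ι F) =
        ((g₂ : GL (Fin a × Fin b) F) : Matrix _ _ F).submatrix eq eq := by
      ext r c; rfl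
    show (((Geo.glReindex eq.symm g₂ : GL ι F) : Matrix ι ι F) *ᵥ tprod eq x z) i = _
    rw [hval, hg₂, Matrix.submatrix_mulVec_equiv, tprod, Function.comp_assoc, Equiv.self_comp_symm,
      Function.comp_id]
    simp only [Function.comp_apply, tprod, mv, Matrix.mulVec, dotProduct, Fintype.sum_prod_type,
      Matrix.kroneckerMap_apply, Finset.mul_sum, Finset.sum_mul]
    rw [Finset.sum_comm]
    exact Finset.sum_congr rfl fun j _ => Finset.sum_congr rfl fun l _ => by ring
  have hcoord : ∀ x z i j, ((P⁻¹ : GL ι F) : Matrix ι ι F).mulVec (φ x z) (eq.symm (i, j)) = x i * z j := by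
    intro x z i j
    show mv P⁻¹ (mv P (tprod eq x z)) _ = _
    rw [mv_inv_mv]
    simp [tprod]
  let x₀ : Fin a → F := Pi.single 0 1
  set W := LinearMap.range (φ x₀) with hW
  have hinj : ∀ z, φ x₀ z = 0 → z = 0 := fun z hz => funext fun j => by
    have h := hcoord x₀ z 0 j
    rw [hz, Matrix.mulVec_zero, Pi.zero_apply] at h
    simpa [x₀] using h.symm
  refine not_allSiegel_subspace hQ (by nlinarith) (W := W) (fun h => ?_) (fun h => ?_) fun g u y hu hy hg => ?_
  · have : φ x₀ (Pi.single 0 1) = 0 := (Submodule.mem_bot F).1 (h ▸ ⟨_, rfl⟩)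
    simpa using congrFun (hinj _ this) 0
  · have h1 := LinearMap.finrank_range_le (φ x₀)
    rw [← hW, h, finrank_top, Module.finrank_pi, Module.finrank_pi, Fintype.card_fin, hcard] at h1
    nlinarith
  obtain ⟨α, β, hαβ⟩ := hrep g (hle g u y hu hy hg)
  refine mem_subspaceStabilizer_of_le fun v hv => ?_
  obtain ⟨z, rfl⟩ := hv
  rw [hαβ]
  by_cases hx : ∀ i, i ≠ 0 → mv α x₀ i = 0
  · have : mv α x₀ = mv α x₀ 0 • x₀ := funext fun i => by
      by_cases hi : i = 0
      · subst hi; simp [x₀]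
      · simp [x₀, hi, hx i hi]
    refine ⟨mv α x₀ 0 • mv β z, ?_⟩
    rw [hφ, hφ, this]
    congr 1
    funext i
    simp [tprod, mul_left_comm, mul_assoc, x₀]
  · exfalso
    push Not at hx
    obtain ⟨i, hi, hαi⟩ := hx
    have h := finrank_le_two hQ hg (φ x₀) fun z' hz' => by
      rw [hαβ] at hz'
      have h1 : mv β z' = 0 := funext fun j => by
        have h := congrArg (fun v => ((P⁻¹ : GL ι F) : Matrix ι ι F).mulVec v (eq.symm (i, j))) hz'
        simp only [hcoord] at h
        rw [show x₀ i = 0 by simp [x₀, hi], zero_mul] at h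
        exact (mul_eq_zero.1 h).resolve_left hαi
      exact mv_inj β (h1.trans (mv_zero β).symm)
    rw [Fintype.card_fin] at h
    omega

end Cfsg.Agent.OrthEvenMax
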