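/-
Characteristic two: uniqueness of an invariant quadratic form with a given polar form, singular parts of totally
isotropic subspaces, and rationality of the quadratic form on an invariant rational structure.
-/
import Cfsg.Agent.Lib.OrthEvenMax.Base
import Cfsg.Agent.Lib.Aschbacher.FormMaster

set_option autoImplicit false
set_option linter.style.haveILetI false

namespace Cfsg.Agent.OrthEvenMax

open scoped Matrix
open Matrix Cfsg.Agent.Transvec Cfsg.Agent.Transvec.Orth Cfsg.Agent.Aschbacher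

variable {ι : Type} [Fintype ι] [DecidableEq ι] {F : Type*} [Field F] {Q : (ι → F) → F}
variable {H : Subgroup (GL ι F)}

/-- An irreducible group in dimension at least two fixes no non-zero covector. -/
theorem covector_zero (hirr : Geo.ActsIrreducibly (Geo.matrixSet H)) (hn : 2 ≤ Fintype.card ι)
    (ψ : (ι → F) →ₗ[F] F) (h : ∀ g ∈ H, ∀ v, ψ (mv g v) = ψ v) : ψ = 0 := by
  have hW : ∀ s ∈ Geo.matrixSet H, (LinearMap.ker ψ).map (Matrix.toLin' s) ≤ LinearMap.ker ψ := by
    rintro _ ⟨g, hg, rfl⟩ _ ⟨v, hv, rfl⟩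
    rw [LinearMap.mem_ker, Matrix.toLin'_apply]
    exact (h g hg v).trans hv
  rcases hirr _ hW with hk | hk
  · exfalso
    have h1 := LinearMap.finrank_le_finrank_of_injective (LinearMap.ker_eq_bot.1 hk)
    rw [Module.finrank_pi, Module.finrank_self] at h1
    omega
  · exact LinearMap.ker_eq_top.1 hk

theorem sq_inj_of_two (h2 : (2 : F) = 0) {a b : F} (h : a ^ 2 = b ^ 2) : a = b := by
  have : (a - b) ^ 2 = 0 := by linear_combination h + (b ^ 2 - a * b) * h2
  exact sub_eq_zero.1 (pow_eq_zero_iff (two_ne_zero) |>.1 this)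

variable [Finite F]

theorem exists_sqrt (h2 : (2 : F) = 0) (a : F) : ∃ b, b ^ 2 = a := by
  have hinj : Function.Injective fun x : F => x ^ 2 := fun a b h => sq_inj_of_two h2 h
  exact (Finite.injective_iff_surjective.1 hinj) a

variable (hQ : Geo.IsNondegenerateQuadraticForm Q)
include hQ

omit hQ in
/-- Quadratic forms with the same polar form, both fixed by an irreducible group, are equal. -/
theorem quad_unique (h2 : (2 : F) = 0) (hirr : Geo.ActsIrreducibly (Geo.matrixSet H))
    (hn : 2 ≤ Fintype.card ι) {Q₁ Q₂ : (ι → F) → F} (h₁ : Geo.IsNondegenerateQuadraticForm Q₁)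
    (h₂ : Geo.IsNondegenerateQuadraticForm Q₂) (hp : ∀ u v, pol Q₁ u v = pol Q₂ u v)
    (hi₁ : ∀ g ∈ H, ∀ v, Q₁ (mv g v) = Q₁ v) (hi₂ : ∀ g ∈ H, ∀ v, Q₂ (mv g v) = Q₂ v) : Q₁ = Q₂ := by
  choose s hs using fun v => exists_sqrt h2 (Q₁ v + Q₂ v)
  let ψ : (ι → F) →ₗ[F] F :=
    { toFun := s
      map_add' := fun u v => sq_inj_of_two h2 (by
        rw [hs, q_add h₁, q_add h₂, hp]
        linear_combination (-1 : F) * hs u - hs v + (pol Q₂ u v - s u * s v) * h2)
      map_smul' := fun c v => sq_inj_of_two h2 (by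
        rw [hs, q_smul h₁, q_smul h₂, RingHom.id_apply, smul_eq_mul, mul_pow, hs]; ring) }
  have hψ := covector_zero hirr hn ψ fun g hg v => sq_inj_of_two h2 (by
    show s (mv g v) ^ 2 = s v ^ 2
    rw [hs, hs, hi₁ g hg, hi₂ g hg])
  funext v
  have h : s v = 0 := LinearMap.congr_fun hψ v
  have h' := hs v
  rw [h] at h'
  linear_combination -h' - Q₂ v * h2

/-- The singular vectors of a totally isotropic subspace, in characteristic two. -/
def singPart (W : Submodule F (ι → F)) (h : ∀ x ∈ W, ∀ y ∈ W, pol Q x y = 0) : Submodule F (ι → F) where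
  carrier := {v | v ∈ W ∧ Q v = 0}
  add_mem' {x y} hx hy := ⟨W.add_mem hx.1 hy.1, by rw [q_add hQ, hx.2, hy.2, h x hx.1 y hy.1, add_zero, add_zero]⟩
  zero_mem' := ⟨W.zero_mem, q_zero hQ⟩
  smul_mem' c x hx := ⟨W.smul_mem c hx.1, by rw [q_smul hQ, hx.2, mul_zero]⟩

/-- A totally isotropic plane contains a singular line. -/
theorem singPart_ne_bot (h2 : (2 : F) = 0) {W : Submodule F (ι → F)} (h : ∀ x ∈ W, ∀ y ∈ W, pol Q x y = 0)
    (hd : 2 ≤ Module.finrank F W) : singPart hQ W h ≠ ⊥ := by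
  intro hb
  have h0 : ∀ v ∈ W, Q v = 0 → v = 0 := fun v hv hq => (Submodule.mem_bot F).1 (hb ▸ ⟨hv, hq⟩)
  obtain ⟨a, ha, ha0⟩ := W.ne_bot_iff.1 fun h' => by rw [h', finrank_bot] at hd; omega
  have hQa : Q a ≠ 0 := fun h' => ha0 (h0 a ha h')
  obtain ⟨b, hb', hba⟩ : ∃ b ∈ W, b ∉ Submodule.span F {a} := by
    by_contra hc
    push Not at hc
    have := Submodule.finrank_mono hc
    rw [finrank_span_singleton ha0] at this
    omega
  obtain ⟨t, ht⟩ := exists_sqrt h2 (Q b / Q a)
  have hq : Q (b + t • a) = 0 := by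
    rw [q_add hQ, q_smul hQ, pol_smul_right hQ, h b hb' a ha, ht, div_mul_cancel₀ _ hQa]
    linear_combination Q b * h2
  refine hba ?_
  have hz := h0 _ (W.add_mem hb' (W.smul_mem t ha)) hq
  rw [eq_neg_of_add_eq_zero_left hz]
  exact Submodule.neg_mem _ (Submodule.smul_mem _ _ (Submodule.mem_span_singleton_self a))

/-- On an invariant rational structure of the polar form of an irreducible group the quadratic form is rational. -/
theorem rat_quad (hirr : Geo.ActsIrreducibly (Geo.matrixSet H)) (hn : 2 ≤ Fintype.card ι)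
    (hiso : ∀ g ∈ H, ∀ v, Q (mv g v) = Q v) {F₁ : Subfield F} {P : GL ι F} {ζ : F} {G : Matrix ι ι F}
    (hG : RatGram (RingEquiv.refl F) (QuadraticMap.polar Q) F₁ P ζ G)
    (hH : H ≤ Geo.subfieldSubgroup F₁ P) :
    Geo.IsQuadFormRationalStructure (fun v => ζ * Q v) F₁ P := by
  classical
  haveI : Fintype F := Fintype.ofFinite F
  have hpr : ∀ u v : ι → F, (∀ i, u i ∈ F₁) → (∀ i, v i ∈ F₁) →
      ζ * pol Q ((P : Matrix ι ι F) *ᵥ u) ((P : Matrix ι ι F) *ᵥ v) ∈ F₁ :=
    fun u v hu hv => hG.isFormRationalStructure u v hu hv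
  by_cases h2 : (2 : F) = 0
  swap
  · intro u hu
    have h := hpr u u hu hu
    rw [pol_self hQ] at h
    have h2m : (2 : F) ∈ F₁ := by rw [← one_add_one_eq_two]; exact add_mem (one_mem _) (one_mem _)
    have h' := mul_mem (inv_mem h2m) h
    show ζ * Q _ ∈ F₁
    rw [show (2 : F)⁻¹ * (ζ * (2 * Q ((P : Matrix ι ι F) *ᵥ u))) = ζ * Q ((P : Matrix ι ι F) *ᵥ u) by
      field_simp] at h'
    exact h'
  set c : ι → F := fun i => ζ * Q ((P : Matrix ι ι F) *ᵥ Pi.single i 1) with hc
  -- the value on a rational vector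
  have key : ∀ u : ι → F, (∀ i, u i ∈ F₁) →
      ζ * Q ((P : Matrix ι ι F) *ᵥ u) - ∑ i, u i ^ 2 * c i ∈ F₁ := by
    intro u hu
    have hs : ∀ s : Finset ι,
        ζ * Q ((P : Matrix ι ι F) *ᵥ (∑ i ∈ s, u i • Pi.single i 1)) - ∑ i ∈ s, u i ^ 2 * c i ∈ F₁ := by
      intro s
      induction s using Finset.induction_on with
      | empty => simp [q_zero hQ]
      | insert a t ha ih =>
        have e1 : ∀ b i, (u b • (Pi.single b (1 : F) : ι → F)) i ∈ F₁ := fun b i => by
          rw [Pi.smul_apply, smul_eq_mul, Pi.single_apply]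
          exact mul_mem (hu b) (by split_ifs; exacts [one_mem _, zero_mem _])
        rw [Finset.sum_insert ha, Finset.sum_insert ha, Matrix.mulVec_add, q_add hQ, Matrix.mulVec_smul,
          q_smul hQ]
        have e2 := hpr (u a • Pi.single a 1) (∑ i ∈ t, u i • Pi.single i 1) (e1 a) fun i => by
          rw [Finset.sum_apply]; exact sum_mem fun b _ => e1 b i
        rw [Matrix.mulVec_smul] at e2
        convert add_mem ih e2 using 1
        simp only [hc]
        ring
    have := hs Finset.univ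
    rwa [← pi_eq_sum_univ' u] at this
  suffices hc0 : ∀ i, c i ∈ F₁ by
    intro u hu
    have := add_mem (key u hu) (sum_mem (t := Finset.univ) fun i _ => mul_mem (pow_mem (hu i) 2) (hc0 i))
    rwa [sub_add_cancel] at this
  intro i₀
  by_contra hi₀
  -- a functional over the subfield
  obtain ⟨φ, hφ1, hφi⟩ : ∃ φ : F →ₗ[F₁] F₁, (∀ x ∈ F₁, φ x = 0) ∧ φ (c i₀) ≠ 0 := by
    have hni : c i₀ ∉ Submodule.span F₁ ({1} : Set F) := by
      rw [Submodule.mem_span_singleton]
      rintro ⟨x, hx⟩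
      exact hi₀ (hx ▸ by simp [Subfield.smul_def])
    obtain ⟨φ, hφ, hφ'⟩ := Submodule.exists_dual_map_eq_bot_of_notMem hni inferInstance
    refine ⟨φ, fun x hx => ?_, hφ⟩
    refine (Submodule.mem_bot F₁).1 (hφ' ▸ ⟨x, ?_, rfl⟩)
    exact Submodule.mem_span_singleton.2 ⟨⟨x, hx⟩, by simp [Subfield.smul_def]⟩
  choose s hs using fun i => exists_sqrt (F := F₁) (by exact_mod_cast Subtype.ext h2) (φ (c i))
  let ψ : (ι → F) →ₗ[F] F :=
    (∑ i, ((s i : F₁) : F) • (LinearMap.proj i : (ι → F) →ₗ[F] F)).comp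
      (Matrix.toLin' ((P⁻¹ : GL ι F) : Matrix ι ι F))
  have hψv : ∀ v, ψ v = ∑ i, (s i : F) * mv P⁻¹ v i := fun v => by
    simp [ψ, LinearMap.sum_apply, mv, Matrix.coe_units_inv]
  have hψ : ψ = 0 := by
    refine covector_zero hirr hn ψ fun g hg v => ?_
    -- g is rational on the structure
    obtain ⟨M, hM, hgM⟩ : ∃ M : Matrix ι ι F, (∀ i j, M i j ∈ F₁) ∧
        ∀ x, mv P⁻¹ (mv g (mv P x)) = M *ᵥ x := by
      obtain ⟨g', hg', hgg'⟩ := hH hg
      obtain ⟨a, ⟨g₀, rfl⟩, z, hz, rfl⟩ := Subgroup.mem_sup_of_normal_right.1 hg'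
      obtain ⟨l, hl⟩ := (Geo.mem_scalars_iff z).1 hz
      set G₀ := Matrix.GeneralLinearGroup.map (F₁.subtype : F₁ →+* F) g₀ with hG₀
      have hG₀F : ∀ i j, (G₀ : Matrix ι ι F) i j ∈ F₁ := fun i j => SetLike.coe_mem _
      have hact : ∀ x, mv g (mv P x) = (l : F) • mv P (mv G₀ x) := fun x => by
        rw [← hgg', show (MulAut.conj P).toMonoidHom (G₀ * z) = P * (G₀ * z) * P⁻¹ from rfl, mv_mul,
          mv_inv_mv, mv_mul, mv_mul, show mv z x = (l : F) • x from by
            show (z : Matrix ι ι F) *ᵥ x = _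
            rw [hl, Matrix.smul_mulVec, Matrix.one_mulVec], mv_smul, mv_smul]
      have hlF : (l : F) ∈ F₁ := by
        haveI : Nonempty ι := ⟨i₀⟩
        obtain ⟨i, j, hij⟩ : ∃ i j, G i j ≠ 0 := by
          by_contra hc
          push Not at hc
          exact hG.isUnit.ne_zero (Matrix.ext hc)
        have hrat : ∀ j : ι, ∀ k, (Pi.single j (1 : F) : ι → F) k ∈ F₁ := fun j k => by
          rw [Pi.single_apply]; split_ifs; exacts [one_mem _, zero_mem _]
        have hcol : ∀ j : ι, ∀ k, mv G₀ (Pi.single j 1) k ∈ F₁ := fun j k => by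
          rw [mv, Matrix.mulVec_single_one]; exact hG₀F k j
        have hpol : ∀ u v, pol Q (mv g u) (mv g v) = pol Q u v :=
          fun u v => pol_mv hQ (mem_isometry.2 (hiso g hg)) u v
        have h1 := hpol (mv P (Pi.single i 1)) (mv P (Pi.single j 1))
        rw [hact, hact, pol_smul_left hQ, pol_smul_right hQ] at h1
        have hGij : ζ * pol Q (mv P (Pi.single i 1)) (mv P (Pi.single j 1)) = G i j := by
          rw [hG.eq, sesqOf_single]
        have hl2 : (l : F) ^ 2 * (ζ * pol Q (mv P (mv G₀ (Pi.single i 1))) (mv P (mv G₀ (Pi.single j 1)))) =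
            G i j := by rw [← hGij, ← h1]; ring
        have hmem := hpr _ _ (hcol i) (hcol j)
        change ζ * pol Q (mv P (mv G₀ (Pi.single i 1))) (mv P (mv G₀ (Pi.single j 1))) ∈ F₁ at hmem
        have hl2F : (l : F) ^ 2 ∈ F₁ := by
          rw [eq_div_of_mul_eq (fun h0 => hij (by rw [← hl2, h0, mul_zero])) hl2]
          exact div_mem (hG.entries i j) hmem
        obtain ⟨r, hr⟩ := exists_sqrt (F := F₁) (by exact_mod_cast Subtype.ext h2) ⟨_, hl2F⟩
        rw [← sq_inj_of_two h2 (a := (r : F)) (b := (l : F)) (by have hr' := congrArg Subtype.val hr; push_cast at hr'; exact hr')]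
        exact r.2
      refine ⟨(l : F) • (G₀ : Matrix ι ι F), fun i j => mul_mem hlF (hG₀F i j), fun x => ?_⟩
      rw [hact, mv_smul, mv_inv_mv, Matrix.smul_mulVec]
    -- the covector is fixed on the columns
    have hcol : ∀ j, ∑ i, (s i : F) * M i j = (s j : F) := by
      intro j
      have hu : ∀ i, M i j ∈ F₁ := fun i => hM i j
      have hval : ζ * Q ((P : Matrix ι ι F) *ᵥ fun i => M i j) = c j := by
        have h := hgM (Pi.single j 1)
        rw [Matrix.mulVec_single_one] at h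
        have e : mv g (mv P (Pi.single j 1)) = mv P (fun i => M i j) := by
          rw [show (fun i => M i j) = M.col j from rfl, ← h, mv_mv_inv]
        show ζ * Q (mv P fun i => M i j) = _
        rw [← e, hiso g hg]
      have hk := hφ1 _ (key _ hu)
      rw [hval, map_sub, sub_eq_zero, map_sum] at hk
      refine sq_inj_of_two h2 ?_
      have hsum : (∑ i, (s i : F) * M i j) ^ 2 = ∑ i, ((s i : F) * M i j) ^ 2 := by
        haveI : CharP F 2 := CharTwo.of_one_ne_zero_of_two_eq_zero one_ne_zero h2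
        exact CharTwo.sum_sq _ _
      rw [hsum]
      have hterm : ∀ i, φ (M i j ^ 2 * c i) = ⟨M i j ^ 2, pow_mem (hu i) 2⟩ * φ (c i) := fun i => by
        rw [show M i j ^ 2 * c i = (⟨M i j ^ 2, pow_mem (hu i) 2⟩ : F₁) • c i from rfl, map_smul, smul_eq_mul]
      have hk' := congrArg (Subtype.val) hk
      simp only [hterm, AddSubmonoidClass.coe_finsetSum, MulMemClass.coe_mul] at hk'
      rw [show (s j : F) ^ 2 = ((φ (c j) : F₁) : F) by rw [← hs j]; rfl, hk']
      refine Finset.sum_congr rfl fun i _ => ?_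
      rw [mul_pow, ← hs i]
      push_cast
      ring
    rw [hψv, hψv, show mv P⁻¹ (mv g v) = M *ᵥ mv P⁻¹ v by rw [← hgM, mv_mv_inv]]
    simp only [Matrix.mulVec, dotProduct, Finset.mul_sum]
    rw [Finset.sum_comm]
    refine Finset.sum_congr rfl fun j _ => ?_
    simp only [← hcol j, Finset.sum_mul, Finset.mul_sum]
    rw [Finset.sum_comm]
    exact Finset.sum_congr rfl fun i _ => Finset.sum_congr rfl fun l _ => by ring
  have h0 := LinearMap.congr_fun hψ (mv P (Pi.single i₀ 1))
  rw [hψv, mv_inv_mv, LinearMap.zero_apply, Finset.sum_eq_single i₀ (fun j _ hj => by simp [hj]) (by simp),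
    Pi.single_eq_same, mul_one] at h0
  apply hφi
  rw [← hs i₀, show s i₀ = 0 from Subtype.ext h0]
  exact zero_pow two_ne_zero

end Cfsg.Agent.OrthEvenMax
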