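/-
Tensor decompositions for a quadratic form: pure tensors are singular when both factors are alternating, and the
wreath case in dimension eight forces plus type.
-/
import Cfsg.Agent.Lib.OrthEvenMax.Invariant
import Cfsg.Agent.Lib.Aschbacher.FormTensorCases

set_option autoImplicit false
set_option linter.style.haveILetI false

namespace Cfsg.Agent.OrthEvenMax

open scoped Matrix Kronecker
open Matrix Cfsg.Agent.Transvec Cfsg.Agent.Transvec.Orth Cfsg.Agent.Aschbacher

variable {ι : Type} [Fintype ι] [DecidableEq ι] {F : Type*} [Field F] [Fintype F] {Q : (ι → F) → F}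
variable {H : Subgroup (GL ι F)}

omit [Fintype ι] [DecidableEq ι] [Fintype F] in
/-- An alternating matrix gives an alternating form. -/
theorem alt_zero {κ : Type} [Fintype κ] {A : Matrix κ κ F} (hA : Aᵀ = -A) (hd : ∀ i, A i i = 0) (x : κ → F) :
    x ⬝ᵥ A *ᵥ x = 0 := by
  classical
  simp only [dotProduct, Matrix.mulVec, Finset.mul_sum]
  rw [← Finset.sum_product']
  refine Finset.sum_involution (fun p _ => (p.2, p.1)) (fun p _ => ?_) (fun p _ hp => ?_)
    (fun p _ => Finset.mem_product.2 ⟨Finset.mem_univ _, Finset.mem_univ _⟩) (fun p _ => rfl)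
  · have h : A p.2 p.1 = -A p.1 p.2 := congrFun (congrFun hA p.1) p.2
    show x p.1 * (A p.1 p.2 * x p.2) + x p.2 * (A p.2 p.1 * x p.1) = 0
    rw [h]; ring
  · intro h
    apply hp
    rw [Prod.ext_iff] at h
    have : p.1 = p.2 := h.2
    rw [this, hd]; simp

omit [Fintype ι] [DecidableEq ι] [Fintype F] in
theorem pure_form {a b : ℕ} (U : Matrix (Fin a) (Fin a) F) (B : Matrix (Fin b) (Fin b) F) (x₁ : Fin a → F)
    (x₂ : Fin b → F) :
    formOf (U ⊗ₖ B) (fun p => x₁ p.1 * x₂ p.2) (fun p => x₁ p.1 * x₂ p.2) =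
      (x₁ ⬝ᵥ U *ᵥ x₁) * (x₂ ⬝ᵥ B *ᵥ x₂) := by
  have hmv : (U ⊗ₖ B) *ᵥ (fun p => x₁ p.1 * x₂ p.2) = fun p => (U *ᵥ x₁) p.1 * (B *ᵥ x₂) p.2 := by
    funext p
    simp only [Matrix.mulVec, dotProduct, Fintype.sum_prod_type, Matrix.kroneckerMap_apply]
    rw [Finset.sum_mul_sum]
    exact Finset.sum_congr rfl fun i _ => Finset.sum_congr rfl fun j _ => by ring
  rw [formOf, hmv]
  simp only [dotProduct, Fintype.sum_prod_type]
  rw [Finset.sum_mul_sum]
  exact Finset.sum_congr rfl fun i _ => Finset.sum_congr rfl fun j _ => by ring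

variable (hQ : Geo.IsNondegenerateQuadraticForm Q) (hiso : ∀ g ∈ H, ∀ v, Q (mv g v) = Q v)
include hQ hiso

omit hiso [Fintype F] in
theorem symplectic_of_two (h2 : (2 : F) = 0) : Geo.IsSymplecticForm (QuadraticMap.polar Q) where
  bilinear := hQ.polar_bilinear
  skew u v := by
    rw [QuadraticMap.polar_comm]
    linear_combination (QuadraticMap.polar Q v u) * h2
  alternating v := by
    show pol Q v v = 0
    rw [pol_self hQ, h2, zero_mul]
  nondegenerate := hQ.nondegenerate

/-- A form singular on a basis moved by the group is the quadratic form. -/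
theorem quad_eq_quadOf (h2 : (2 : F) = 0) (hirr : Geo.ActsIrreducibly (Geo.matrixSet H))
    (hn : 2 ≤ Fintype.card ι) {κ : Type} [Fintype κ] [DecidableEq κ] (eq : ι ≃ κ) (P : GL ι F)
    {U G : Matrix κ κ F} (hU : U + Uᵀ = G)
    (hG : ∀ u v, QuadraticMap.polar Q u v = formOf G (coords eq P u) (coords eq P v))
    (hU0 : ∀ a, U a a = 0)
    (hz : ∀ g ∈ H, ∃ W : Matrix κ κ F, (g : Matrix ι ι F) = cj P (W.submatrix eq eq) ∧
      ∀ a, (Wᵀ * U * W) a a = 0) : Q = quadOf eq P U := by
  obtain ⟨hQ', hp⟩ := quadOf_spec (symplectic_of_two hQ h2) eq P hU hG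
  refine quad_unique h2 hirr hn hQ hQ' (fun u v => (hp u v).symm) hiso fun g hg v => ?_
  obtain ⟨W, hW, hWd⟩ := hz g hg
  have h := quad_invariance (g := (g : Matrix ι ι F)) (μ := 1) hQ'.smul (fun x y => ?_) _ (span_coord_basis eq P)
    (fun a => ?_) v
  · rwa [one_mul] at h
  · rw [one_mul, hp, hp]
    exact pol_mv hQ (mem_isometry.2 (hiso g hg)) x y
  · rw [one_mul, quadOf, coords_mulVec eq P hW, coords_spec, formOf_mulVec, formOf_single_self, hWd, quadOf,
      coords_spec, formOf_single_self, hU0]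

/-- Pure tensors of two alternating factors are singular. -/
theorem pure_vanish (hirr : Geo.ActsIrreducibly (Geo.matrixSet H)) (hn : 2 ≤ Fintype.card ι) {a b : ℕ}
    [NeZero a] [NeZero b] {eq : ι ≃ Fin a × Fin b} {P : GL ι F} {A : GL (Fin a) F} {B : GL (Fin b) F}
    (hs : TensorSplit (RingEquiv.refl F) 1 (QuadraticMap.polar Q) eq P A B)
    (hN : Normalises H ((kemb eq P).range : Set (Matrix ι ι F)))
    (hA : (A : Matrix (Fin a) (Fin a) F)ᵀ = -(A : Matrix (Fin a) (Fin a) F))
    (hAd : ∀ i, (A : Matrix (Fin a) (Fin a) F) i i = 0)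
    (hB : (B : Matrix (Fin b) (Fin b) F)ᵀ = -(B : Matrix (Fin b) (Fin b) F))
    (hBd : ∀ i, (B : Matrix (Fin b) (Fin b) F) i i = 0) (x₁ : Fin a → F) (x₂ : Fin b → F) :
    Q (mv P ((fun p : Fin a × Fin b => x₁ p.1 * x₂ p.2) ∘ eq)) = 0 := by
  set v := mv P ((fun p : Fin a × Fin b => x₁ p.1 * x₂ p.2) ∘ eq) with hv
  have hpol : pol Q v v = (x₁ ⬝ᵥ (A : Matrix (Fin a) (Fin a) F) *ᵥ x₁) * (x₂ ⬝ᵥ (B : Matrix (Fin b) (Fin b) F) *ᵥ x₂) := by
    rw [← pure_form]
    show QuadraticMap.polar Q v v = _
    rw [hv, hs.form, sesqOf_refl]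
  by_cases h2 : (2 : F) = 0
  swap
  · rw [alt_zero hA hAd, zero_mul, pol_self hQ] at hpol
    exact (mul_eq_zero.1 hpol).resolve_left h2
  have hneg : ∀ {m : ℕ} (M : Matrix (Fin m) (Fin m) F), -M = M := fun M => Matrix.ext fun i j => by
    rw [Matrix.neg_apply]; linear_combination (-M i j) * h2
  have hA' : (A : Matrix (Fin a) (Fin a) F)ᵀ = (A : Matrix (Fin a) (Fin a) F) := hA.trans (hneg _)
  have hB' : (B : Matrix (Fin b) (Fin b) F)ᵀ = (B : Matrix (Fin b) (Fin b) F) := hB.trans (hneg _)
  have hQeq := quad_eq_quadOf hQ hiso h2 hirr hn eq P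
    (U := upperPart (A : Matrix (Fin a) (Fin a) F) ⊗ₖ (B : Matrix (Fin b) (Fin b) F))
    (G := (A : Matrix (Fin a) (Fin a) F) ⊗ₖ (B : Matrix (Fin b) (Fin b) F))
    (by rw [← Matrix.kroneckerMap_transpose, hB', ← Matrix.add_kronecker, upperPart_add hA' hAd])
    (fun u w => by
      have h' := hs.form (coords eq P u) (coords eq P w)
      rwa [mulVec_coords, mulVec_coords, sesqOf_refl] at h')
    (fun p => by simp [hBd]) fun g hg => by
      obtain ⟨u, w, c, d, -, -, hg', -, hw⟩ := hs.exists_factors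
        (show g ∈ Geo.similarityGroup (QuadraticMap.polar Q) from
          ⟨1, fun x y => by simpa using pol_mv hQ (mem_isometry.2 (hiso g hg)) x y⟩)
        fun X => hN g hg _ ⟨X, rfl⟩
      refine ⟨(u : Matrix (Fin a) (Fin a) F) ⊗ₖ (w : Matrix (Fin b) (Fin b) F),
        by rw [hg', kemb_mul_kembR], fun p => ?_⟩
      rw [show (RingEquiv.refl F).toRingHom.mapMatrix (w : Matrix (Fin b) (Fin b) F) = w from rfl] at hw
      rw [← Matrix.kroneckerMap_transpose, ← Matrix.mul_kronecker_mul, ← Matrix.mul_kronecker_mul, hw]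
      simp [hBd]
  rw [hQeq, hv, quadOf, mv, coords_spec, pure_form, alt_zero hB hBd, mul_zero]

/-- A tensor cube of planes is of plus type. -/
theorem plus_of_wreath (hirr : Geo.ActsIrreducibly (Geo.matrixSet H)) {k a : ℕ} (hk : 2 ≤ k) (ha : a = 2)
    (hk3 : k = 3)
    (hw : WreathSplit (RingEquiv.refl F) 1 (QuadraticMap.polar Q) H k a (PerfectCond (RingEquiv.refl F))) :
    Geo.IsPlusTypeOn Q ⊤ := by
  subst ha hk3
  obtain ⟨hc, hform, hd, hsymm, hε, hcond, hrep⟩ := hw
  rename_i eq P A c d
  rw [show (RingEquiv.refl F).toRingHom.mapMatrix (A : Matrix (Fin 2) (Fin 2) F) = A from rfl] at hsymm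
  have hd' : d * d = 1 := hd
  have hd1 : d = 1 := by
    have h3 : d ^ 3 * c = 1 * c := hε
    have h3' : d ^ 3 = 1 := mul_right_cancel₀ hc h3
    linear_combination h3' - d * hd'
  rw [hd1, one_smul] at hsymm
  -- the commutant forces an alternating factor
  obtain ⟨E, hEp, hEtop, hEA⟩ := hcond
  set x : Matrix (Fin 2) (Fin 2) F := ((A⁻¹ : GL (Fin 2) F) : Matrix (Fin 2) (Fin 2) F) * J2 F with hx
  have hAx : (A : Matrix (Fin 2) (Fin 2) F) * x = J2 F := by
    rw [hx, ← mul_assoc, Units.mul_inv, one_mul]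
  have hdetE : E ≤ Geo.specialLinear (Fin 2) F := by
    rw [← hEp, Subgroup.commutator_le]
    intro p _ q _
    simp only [Geo.specialLinear, MonoidHom.mem_ker, map_commutatorElement]
    exact commutatorElement_eq_one_iff_commute.2 (Commute.all _ _)
  have hcomm : ∀ g ∈ E, (g : Matrix (Fin 2) (Fin 2) F) * x = x * (g : Matrix (Fin 2) (Fin 2) F) := by
    intro g hg
    have hgA : (g : Matrix (Fin 2) (Fin 2) F)ᵀ * (A : Matrix (Fin 2) (Fin 2) F) * (g : Matrix (Fin 2) (Fin 2) F) = A :=
      hEA g hg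
    have hdet : (g : Matrix (Fin 2) (Fin 2) F).det = 1 := congrArg Units.val (hdetE hg)
    refine (((Matrix.isUnit_transpose _).2 g.isUnit).mul A.isUnit).mul_left_cancel ?_
    rw [← mul_assoc, hgA, hAx, ← mul_assoc, mul_assoc _ (A : Matrix (Fin 2) (Fin 2) F) x, hAx, J2_gram, hdet,
      one_smul]
  obtain ⟨l, hl⟩ : ∃ l : F, x = l • (1 : Matrix (Fin 2) (Fin 2) F) := by
    have hall : ∀ X : Matrix (Fin 2) (Fin 2) F, X * x = x * X := by
      intro X
      have hX : X ∈ spanAlg E := by rw [hEtop]; exact Algebra.mem_top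
      refine spanAlg_induction (p := fun Z => Z * x = x * Z) hcomm (by simp) (fun p q hp hq => by
        rw [add_mul, mul_add, hp, hq]) (fun c p hp => by rw [Matrix.smul_mul, Matrix.mul_smul, hp]) hX
    have hm : x ∈ Set.range (Matrix.scalar (Fin 2)) :=
      Matrix.mem_range_scalar_of_commute_single fun i j _ => hall _
    obtain ⟨l, hl⟩ := hm
    exact ⟨l, by rw [← hl, Matrix.scalar_apply, Matrix.smul_one_eq_diagonal]⟩
  have hJ : J2 F = l • (A : Matrix (Fin 2) (Fin 2) F) := by
    rw [← hAx, hl, Matrix.mul_smul, mul_one]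
  have h01 := congrFun (congrFun hJ 0) 1
  have h10 := congrFun (congrFun hJ 1) 0
  have h00 := congrFun (congrFun hJ 0) 0
  have h11 := congrFun (congrFun hJ 1) 1
  have hs10 : (A : Matrix (Fin 2) (Fin 2) F) 1 0 = (A : Matrix (Fin 2) (Fin 2) F) 0 1 :=
    congrFun (congrFun hsymm 0) 1
  simp only [J2, Matrix.smul_apply, smul_eq_mul, hs10] at h01 h10 h00 h11
  norm_num at h01 h10 h00 h11
  have h2 : (2 : F) = 0 := by linear_combination h01 - h10
  have hl0 : l ≠ 0 := fun h => by rw [h, zero_mul] at h01; exact one_ne_zero h01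
  have hAd : ∀ i, (A : Matrix (Fin 2) (Fin 2) F) i i = 0 := by
    intro i
    fin_cases i
    · exact h00.resolve_left hl0
    · exact h11.resolve_left hl0
  -- the quadratic form
  haveI : NeZero (2 : ℕ) := ⟨two_ne_zero⟩
  let z : Fin 3 := 0
  let A' : Fin 3 → Matrix (Fin 2) (Fin 2) F := fun _ => (A : Matrix (Fin 2) (Fin 2) F)
  let U0 : Fin 3 → Matrix (Fin 2) (Fin 2) F := Function.update A' z (upperPart (A : Matrix (Fin 2) (Fin 2) F))
  have hcard : Fintype.card ι = 8 := by
    have h := Fintype.card_congr eq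
    simpa using h
  have hU0 : ∀ p, (c • pureMat U0) p p = 0 := fun p => by
    rw [Matrix.smul_apply, smul_eq_mul]
    refine mul_eq_zero_of_right _ ?_
    show ∏ i, U0 i (p i) (p i) = 0
    refine Finset.prod_eq_zero (Finset.mem_univ (1 : Fin 3)) ?_
    simp [U0, z, A', hAd]
  have hQeq := quad_eq_quadOf hQ hiso h2 hirr (by omega) eq P (U := c • pureMat U0) (G := c • pureMat A') ?_ ?_ hU0
    (fun g hg => by
      obtain ⟨τ, gs, hg', he⟩ := hrep g hg
      refine ⟨_, hg', fun p => ?_⟩
      rw [Units.val_mul, pureGL_val, Matrix.transpose_mul, pureMat_transpose, Matrix.mul_smul,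
        Matrix.smul_mul, Matrix.smul_apply]
      rw [show ∀ M N X U : Matrix (Fin 3 → Fin 2) (Fin 3 → Fin 2) F,
          N * Mᵀ * U * (M * X) = N * (Mᵀ * U * M) * X from fun M N X U => by simp only [mul_assoc],
        perm_gram, pureMat_mul, pureMat_mul]
      refine smul_eq_zero.2 (Or.inr ?_)
      obtain ⟨i, hi⟩ := exists_ne (τ.symm z)
      have hne : τ i ≠ z := fun h => hi (by rw [← h, Equiv.symm_apply_apply])
      show ∏ l, ((gs l : Matrix (Fin 2) (Fin 2) F)ᵀ * U0 (τ l) * (gs l : Matrix (Fin 2) (Fin 2) F)) (p l) (p l) = 0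
      refine Finset.prod_eq_zero (Finset.mem_univ i) ?_
      obtain ⟨e, -, he'⟩ := he i
      rw [show (RingEquiv.refl F).toRingHom.mapMatrix (gs i : Matrix (Fin 2) (Fin 2) F) = gs i from rfl]
        at he'
      simp only [U0, Function.update_of_ne hne, A', he', Matrix.smul_apply, hAd, smul_zero])
  · -- four coordinates
    let S : Submodule F (ι → F) :=
      { carrier := {v | ∀ p, p z = 1 → coords eq P v p = 0}
        add_mem' := fun {u v} hu hv p hp => by
          have h : coords eq P (u + v) p = coords eq P u p + coords eq P v p := by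
            simp [coords, Matrix.mulVec_add]
          rw [h, hu p hp, hv p hp, add_zero]
        zero_mem' := fun p _ => by simp [coords]
        smul_mem' := fun c v hv p hp => by
          have h : coords eq P (c • v) p = c * coords eq P v p := by simp [coords, Matrix.mulVec_smul]
          rw [h, hv p hp, mul_zero] }
    have hts : Geo.IsTotallySingularQuad Q S := fun v hv => by
      rw [hQeq, quadOf, formOf, dotProduct]
      refine Finset.sum_eq_zero fun p _ => ?_
      by_cases hp : p z = 1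
      · rw [hv p hp, zero_mul]
      have hp0 : p z = 0 := by omega
      refine mul_eq_zero_of_right _ ?_
      show ∑ q, (c • pureMat U0) p q * coords eq P v q = 0
      refine Finset.sum_eq_zero fun q _ => ?_
      by_cases hq : q z = 1
      · rw [show coords eq P v q = 0 from hv q hq, mul_zero]
      have hq0 : q z = 0 := by omega
      refine mul_eq_zero_of_left ?_ _
      show c • pureMat U0 p q = 0
      refine smul_eq_zero.2 (Or.inr ?_)
      show ∏ i, U0 i (p i) (q i) = 0
      refine Finset.prod_eq_zero (Finset.mem_univ z) ?_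
      simp [U0, hp0, hq0, upperPart]
    refine ⟨S, le_top, hts, ?_⟩
    let φ : (Fin 2 × Fin 2 → F) →ₗ[F] (ι → F) := (Matrix.toLin' (P : Matrix ι ι F)).comp
      ({ toFun := fun w => (fun p : Fin 3 → Fin 2 => if p z = 1 then 0 else w (p 1, p 2)) ∘ eq
         map_add' := fun w w' => by funext i; simp only [Function.comp_apply, Pi.add_apply]; split_ifs <;> simp
         map_smul' := fun r w => by
          funext i; simp only [Function.comp_apply, Pi.smul_apply, RingHom.id_apply, smul_eq_mul]
          split_ifs <;> simp } : (Fin 2 × Fin 2 → F) →ₗ[F] (ι → F))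
    have hφ : ∀ w, coords eq P (φ w) = fun p => if p z = 1 then 0 else w (p 1, p 2) := fun w =>
      coords_spec eq P (fun p => if p z = 1 then 0 else w (p 1, p 2))
    have hinj : Function.Injective φ := fun w w' h => funext fun ⟨i, j⟩ => by
      have e := congrFun (congrArg (coords eq P) h) ![0, i, j]
      simpa [hφ, z] using e
    have h4 : 4 ≤ Module.finrank F S := by
      have h := LinearMap.finrank_le_finrank_of_injective (f := φ.codRestrict S fun w p hp => by
        rw [hφ]; simp [hp]) (fun a b h => hinj (congrArg Subtype.val h))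
      simpa using h
    have hle := finrank_totally_orth_le hQ (nondeg_top hQ) (L := S) le_top fun x hx y hy => ts_pol hQ hts hx hy
    rw [finrank_top, Module.finrank_pi] at hle ⊢
    omega
  · have hT : (fun i => (U0 i)ᵀ) =
        Function.update A' z (upperPart (A : Matrix (Fin 2) (Fin 2) F))ᵀ := by
      funext i
      by_cases hi : i = z
      · subst hi; simp [U0]
      · simp [U0, hi, A', hsymm]
    rw [Matrix.transpose_smul, pureMat_transpose, hT, ← smul_add, pureMat_update_add,
      upperPart_add hsymm hAd]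
    congr 2
    exact Function.update_eq_self z A'
  · intro u v
    have h' := hform (coords eq P u) (coords eq P v)
    rw [coordForm, mulVec_coords, mulVec_coords, sesqOf_refl] at h'
    rw [h']
    simp [formOf, A', Matrix.smul_mulVec, dotProduct_smul]

end Cfsg.Agent.OrthEvenMax
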