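/-
The subgroup theorem for the orthogonal groups of dimensions eight, ten and twelve, before sorting.
-/
import Cfsg.Agent.Lib.OrthEvenMax.Abelian
import Cfsg.Agent.Lib.OrthEvenMax.Tensor
import Cfsg.Agent.Lib.Aschbacher.OrthStructure

set_option autoImplicit false
set_option linter.style.haveILetI false

namespace Cfsg.Agent.OrthEvenMax

open scoped Matrix Kronecker
open Matrix Cfsg.Agent.Transvec Cfsg.Agent.Transvec.Orth Cfsg.Agent.Aschbacher

variable {ι : Type} [Fintype ι] [DecidableEq ι] {F : Type*} [Field F] [Fintype F]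

/-- The outcomes for a group of isometries. -/
inductive EvenCase (Q : (ι → F) → F) (H : Subgroup (GL ι F)) : Prop
  | ts {W : Submodule F (ι → F)} (h0 : W ≠ ⊥) (hW : Geo.IsTotallySingularQuad Q W)
      (h : H ≤ Geo.subspaceStabilizer W)
  | nondeg {W : Submodule F (ι → F)} (h0 : W ≠ ⊥) (h1 : W ≠ ⊤)
      (hW : Geo.IsNondegenerateOn (QuadraticMap.polar Q) W)
      (hd : 2 * Module.finrank F W ≤ Fintype.card ι) (h : H ≤ Geo.subspaceStabilizer W)
  | point {v : ι → F} (h2 : (2 : F) = 0) (hv : Q v ≠ 0)
      (h : H ≤ Geo.subspaceStabilizer (Submodule.span F {v}))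
  | ndecomp {t k : ℕ} {D : Fin t → Submodule F (ι → F)} (hirr : Geo.ActsIrreducibly (Geo.matrixSet H))
      (hD : Geo.IsOrthogonalMDecomposition Q k D)
      (htr : ∀ i j, ∃ g ∈ H, (D i).map (mvLin g) = D j) (htk : t * k = Fintype.card ι)
      (h : H ≤ Geo.decompositionStabilizer D)
  | pair {k : ℕ} {D : Fin 2 → Submodule F (ι → F)} (hirr : Geo.ActsIrreducibly (Geo.matrixSet H))
      (hk : 2 * k = Fintype.card ι) (hD : Geo.IsMDecomposition k D)
      (hts : ∀ i, Geo.IsTotallySingularQuad Q (D i)) (h : H ≤ Geo.decompositionStabilizer D)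
  | field {r : ℕ} {K : Subalgebra F (Matrix ι ι F)} (hirr : Geo.ActsIrreducibly (Geo.matrixSet H))
      (hr : r.Prime) (hdvd : r ∣ Fintype.card ι) (hK : Geo.IsFieldSubalgebra r K)
      (hadj : Geo.IsAdjointClosedFor (QuadraticMap.polar Q) K) (h : H ≤ Geo.subalgebraNormalizer K)
  | symTensor {a b : ℕ} {eq : ι ≃ Fin a × Fin b} {P : GL ι F} {A : GL (Fin a) F} {B : GL (Fin b) F}
      (hirr : Geo.ActsIrreducibly (Geo.matrixSet H)) (h2 : (2 : F) ≠ 0) (ha : 3 ≤ a) (hb : 3 ≤ b)
      (hs : TensorSplit (RingEquiv.refl F) 1 (QuadraticMap.polar Q) eq P A B)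
      (hA : (A : Matrix (Fin a) (Fin a) F)ᵀ = A) (hB : (B : Matrix (Fin b) (Fin b) F)ᵀ = B)
      (hN : Normalises H ((kemb eq P).range : Set (Matrix ι ι F)))
  | altTensor {a b : ℕ} {eq : ι ≃ Fin a × Fin b} {P : GL ι F} {A : GL (Fin a) F} {B : GL (Fin b) F}
      (hirr : Geo.ActsIrreducibly (Geo.matrixSet H)) (ha : 2 ≤ a) (hb : 2 ≤ b) (hae : Even a) (hbe : Even b)
      (hs : TensorSplit (RingEquiv.refl F) 1 (QuadraticMap.polar Q) eq P A B)
      (hA : Geo.IsSymplecticForm (formOf (A : Matrix (Fin a) (Fin a) F)))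
      (hB : Geo.IsSymplecticForm (formOf (B : Matrix (Fin b) (Fin b) F)))
      (hpure : ∀ (x₁ : Fin a → F) (x₂ : Fin b → F),
        Q (mv P ((fun p : Fin a × Fin b => x₁ p.1 * x₂ p.2) ∘ eq)) = 0)
      (hN : Normalises H ((kemb eq P).range : Set (Matrix ι ι F)))
  | plusEight (h8 : Fintype.card ι = 8) (h : Geo.IsPlusTypeOn Q ⊤)
  | subfield {F₁ : Subfield F} {r : ℕ} {P : GL ι F} {ζ : F} (hr : r.Prime)
      (hcard : Fintype.card F = Nat.card F₁ ^ r) (hζ : ζ ≠ 0)
      (hrat : Geo.IsQuadFormRationalStructure (fun v => ζ * Q v) F₁ P)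
      (h : H ≤ Geo.subfieldSubgroup F₁ P)
  | residual (h : Geo.InOrthogonalResidualClass H)

variable {Q : (ι → F) → F}

/-- A skew matrix with zero diagonal has even size. -/
theorem even_of_alt {a : ℕ} {A : GL (Fin a) F} (hA : Geo.IsSymplecticForm (formOf (A : Matrix (Fin a) (Fin a) F))) :
    Even a := by
  simpa using even_card_of_symplectic hA

/-- The subgroup theorem for groups of isometries in even dimension eight, ten or twelve. -/
theorem evenStructure (hQ : Geo.IsNondegenerateQuadraticForm Q) {H : Subgroup (GL ι F)}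
    (hiso : H ≤ isometryGroup F Q)
    (hn : Fintype.card ι = 8 ∨ Fintype.card ι = 10 ∨ Fintype.card ι = 12) : EvenCase Q H := by
  classical
  haveI : Nonempty ι := Fintype.card_pos_iff.1 (by omega)
  set f := QuadraticMap.polar Q with hfdef
  have hf : IsHermLike (RingEquiv.refl F) 1 f := IsHermLike.of_symmetric
    ⟨hQ.polar_bilinear, QuadraticMap.polar_comm _, hQ.nondegenerate⟩
  have hisoQ : ∀ g ∈ H, ∀ v, Q (mv g v) = Q v := fun g hg => mem_isometry.1 (hiso hg)
  have hHf : H ≤ Geo.similarityGroup f := fun g hg => ⟨1, fun u v => by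
    simpa [hfdef] using pol_mv hQ (hiso hg) u v⟩
  by_cases hirr : Geo.ActsIrreducibly (Geo.matrixSet H)
  swap
  · -- reducible
    obtain ⟨W₀, hW₀, h0, h1⟩ : ∃ W : Submodule F (ι → F),
        (∀ s ∈ Geo.matrixSet H, W.map (Matrix.toLin' s) ≤ W) ∧ W ≠ ⊥ ∧ W ≠ ⊤ := by
      simpa [Geo.ActsIrreducibly, not_or] using hirr
    have hst : H ≤ Geo.subspaceStabilizer W₀ := fun g hg => mem_subspaceStabilizer_of_le fun v hv =>
      hW₀ _ ⟨g, hg, rfl⟩ ⟨v, hv, Matrix.toLin'_apply _ _⟩
    have hsto : H ≤ Geo.subspaceStabilizer (orth hQ W₀) := fun g hg => mem_stab_orth hQ (hiso hg) (hst hg)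
    by_cases hr : W₀ ⊓ orth hQ W₀ = ⊥
    · have hnd : Nondeg Q W₀ := fun u hu h => (Submodule.mem_bot F).1 (hr ▸ ⟨hu, fun w hw => h w hw⟩)
      obtain ⟨hno, hsum⟩ := orth_nondeg hQ hnd
      have hon : ∀ {U : Submodule F (ι → F)}, Nondeg Q U → Geo.IsNondegenerateOn f U := fun {U} hU w hw hw0 => by
        by_contra hc
        refine hw0 (hU w hw fun x hx => ?_)
        by_contra hxw
        exact hc ⟨⟨x, hx, hxw⟩, x, hx, by rwa [hfdef, QuadraticMap.polar_comm]⟩
      by_cases hhalf : 2 * Module.finrank F W₀ ≤ Fintype.card ι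
      · exact .nondeg h0 h1 (hon hnd) hhalf hst
      · refine .nondeg (fun h => ?_) (fun h => ?_) (hon hno) (by omega) hsto
        · rw [h, finrank_bot] at hsum
          exact h1 (Submodule.eq_top_of_finrank_eq (by rw [Module.finrank_pi]; omega))
        · rw [h, finrank_top, Module.finrank_pi] at hsum
          exact h0 (Submodule.finrank_eq_zero.1 (by omega))
    · set W := W₀ ⊓ orth hQ W₀ with hW
      have hti : ∀ x ∈ W, ∀ y ∈ W, pol Q x y = 0 := fun x hx y hy => hy.2 x hx.1
      have hstW : H ≤ Geo.subspaceStabilizer W := fun g hg => mem_subspaceStabilizer_of_le fun v hv =>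
        ⟨mv_mem_of_mem_stab (hst hg) hv.1, mv_mem_of_mem_stab (hsto hg) hv.2⟩
      by_cases h2 : (2 : F) = 0
      swap
      · refine .ts hr (fun w hw => ?_) hstW
        have h := hti w hw w hw
        rw [pol_self hQ] at h
        exact (mul_eq_zero.1 h).resolve_left h2
      set S := singPart hQ W hti with hS
      have hstS : H ≤ Geo.subspaceStabilizer S := fun g hg => mem_subspaceStabilizer_of_le fun v hv =>
        ⟨mv_mem_of_mem_stab (hstW hg) hv.1, by rw [hisoQ g hg]; exact hv.2⟩
      by_cases hS0 : S = ⊥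
      swap
      · exact .ts hS0 (fun w hw => hw.2) hstS
      obtain ⟨v, hv, hv0⟩ := W.ne_bot_iff.1 hr
      have hd : Module.finrank F W ≤ 1 := by
        by_contra hc
        exact singPart_ne_bot hQ h2 hti (by omega) hS0
      have hspan : Submodule.span F {v} = W := Submodule.eq_of_le_of_finrank_le
        ((Submodule.span_singleton_le_iff_mem _ _).2 hv) (by rw [finrank_span_singleton hv0]; exact hd)
      exact .point h2 (fun h => hv0 ((Submodule.mem_bot F).1 (hS0 ▸ ⟨hv, h⟩))) (hspan.symm ▸ hstW)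
  -- irreducible
  set H' := H ⊔ Geo.scalars ι F with hH'
  have hle : H ≤ H' := le_sup_left
  have hsim : H' ≤ Geo.similarityGroup f := sup_scalars_le_sim hf hHf
  have hmem : ∀ {g : GL ι F}, g ∈ H' → ∃ h ∈ H, ∀ W : Submodule F (ι → F),
      W.map (Matrix.toLin' (g : Matrix ι ι F)) = W.map (mvLin h) := by
    intro g hg
    obtain ⟨x, hx, z, hz, rfl⟩ := Subgroup.mem_sup_of_normal_right.1 hg
    obtain ⟨c, hc⟩ := (Geo.mem_scalars_iff z).1 hz
    refine ⟨x, hx, fun W => ?_⟩
    rw [Units.val_mul, hc, Matrix.mul_smul, mul_one, map_smul, Submodule.map_smul _ _ _ c.ne_zero]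
  have comm : CommCase f H' → EvenCase Q H := by
    rintro (⟨hD, h, htr⟩ | ⟨hk, hD, hts, h⟩ | ⟨hr, hdvd, hK, hadj, h⟩)
    · rename_i t k D
      have htrH : ∀ i j, ∃ g ∈ H, (D i).map (mvLin g) = D j := fun i j => by
        obtain ⟨g, hg, hgi⟩ := htr i j
        obtain ⟨x, hx, hxg⟩ := hmem hg
        exact ⟨x, hx, by rw [← hxg, hgi]⟩
      exact .ndecomp hirr ⟨hD, fun i j => by
        obtain ⟨g, hg, hgi⟩ := htrH i j
        exact areIsometric_map (hiso hg) hgi⟩ htrH (mdecomp_card hD.decomp) (hle.trans h)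
    · rename_i k D
      refine .pair hirr hk hD (fun i => ?_) (hle.trans h)
      by_cases h2 : (2 : F) = 0
      swap
      · intro w hw
        have h' := hts i w hw w hw
        rw [hfdef, show QuadraticMap.polar Q w w = 2 * Q w from pol_self hQ w] at h'
        exact (mul_eq_zero.1 h').resolve_left h2
      set S : Fin 2 → Submodule F (ι → F) := fun j => singPart hQ (D j) (hts j) with hS
      have hSD : ∀ j, S j ≤ D j := fun j v hv => hv.1
      have hinv : ∀ s ∈ Geo.matrixSet H, (S 0 ⊔ S 1).map (Matrix.toLin' s) ≤ S 0 ⊔ S 1 := by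
        rintro _ ⟨g, hg, rfl⟩
        obtain ⟨τ, hτ⟩ := hle.trans h hg
        have hSj : ∀ j, (S j).map (Matrix.toLin' (g : Matrix ι ι F)) ≤ S (τ j) := fun j => by
          rintro _ ⟨v, hv, rfl⟩
          refine ⟨(hτ j).le ⟨v, hv.1, rfl⟩, ?_⟩
          rw [Matrix.toLin'_apply]
          exact (hisoQ g hg v).trans hv.2
        have hle2 : ∀ j, S j ≤ S 0 ⊔ S 1 := fun j => by
          fin_cases j
          · exact le_sup_left
          · exact le_sup_right
        rw [Submodule.map_sup]
        exact sup_le ((hSj 0).trans (hle2 _)) ((hSj 1).trans (hle2 _))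
      have hne : S 0 ⊔ S 1 ≠ ⊥ := fun hb => singPart_ne_bot hQ h2 (hts 0)
        (by rw [hD.finrank_eq]; omega) (le_bot_iff.1 (le_sup_left.trans hb.le) : S 0 = ⊥)
      have htop := (hirr _ hinv).resolve_left hne
      have h' := Submodule.finrank_add_le_finrank_add_finrank (S 0) (S 1)
      rw [htop, finrank_top, Module.finrank_pi] at h'
      have hd : ∀ j, Module.finrank F (S j) ≤ k := fun j => (Submodule.finrank_mono (hSD j)).trans_eq (hD.finrank_eq j)
      have hd0 := hd 0
      have hd1 := hd 1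
      have hfull : S i = D i := by
        refine Submodule.eq_of_le_of_finrank_le (hSD i) ?_
        rw [hD.finrank_eq]
        fin_cases i
        · show k ≤ Module.finrank F (S 0); omega
        · show k ≤ Module.finrank F (S 1); omega
      intro w hw
      exact (hfull.ge hw).2
    · exact .field hirr hr hdvd hK hadj (hle.trans h)
  cases formAsch hf le_sup_right hsim (by omega) with
  | red h =>
    by_cases hswap : ∃ (k : ℕ) (D : Fin 2 → Submodule F (ι → F)), Geo.IsNondegenerateMDecomposition f k D ∧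
        H' ≤ Geo.decompositionStabilizer D ∧ ∃ g ∈ H, (D 0).map (mvLin g) = D 1
    · obtain ⟨k, D, hD, hst, g, hg, hg01⟩ := hswap
      have hg10 : (D 1).map (mvLin g) = D 0 := by
        obtain ⟨τ, hτ⟩ := hst (hle hg)
        have hinj : Function.Injective (Submodule.map (mvLin g)) :=
          Submodule.map_injective_of_injective (f := mvLin g) fun a b hab => mv_inj g (by simpa using hab)
        have hdne : D 0 ≠ D 1 := fun e => by
          have hdis : Disjoint (D 0) (D 1) := hD.decomp.indep.pairwiseDisjoint (by decide)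
          rw [← e, disjoint_self] at hdis
          have := hD.decomp.finrank_eq 0
          rw [hdis, finrank_bot] at this
          have := hD.decomp.pos
          omega
        have h1 : (D 1).map (mvLin g) = D (τ 1) := hτ 1
        rcases (show τ 1 = 0 ∨ τ 1 = 1 by omega) with e | e
        · rw [h1, e]
        · exact absurd (hinj (hg01.trans (by rw [h1, e]))) hdne
      have hid : ∀ W : Submodule F (ι → F), W.map (mvLin (1 : GL ι F)) = W := fun W => by
        rw [show mvLin (1 : GL ι F) = LinearMap.id by simp [mvLin], Submodule.map_id]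
      have htr : ∀ i j, ∃ h ∈ H, (D i).map (mvLin h) = D j := by
        intro i j
        fin_cases i <;> fin_cases j
        · exact ⟨1, Subgroup.one_mem _, hid _⟩
        · exact ⟨g, hg, hg01⟩
        · exact ⟨g, hg, hg10⟩
        · exact ⟨1, Subgroup.one_mem _, hid _⟩
      exact .ndecomp hirr ⟨hD, fun i j => by
        obtain ⟨x, hx, hxi⟩ := htr i j
        exact areIsometric_map (hiso hx) hxi⟩ htr (mdecomp_card hD.decomp) (hle.trans hst)
    exfalso
    have hfix : ∀ (k : ℕ) (D : Fin 2 → Submodule F (ι → F)), Geo.IsNondegenerateMDecomposition f k D →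
        H' ≤ Geo.decompositionStabilizer D → H' ≤ Geo.subspaceStabilizer (D 0) := by
      intro k D hD hst g hg
      obtain ⟨τ, hτ⟩ := hst hg
      have h0 := hτ 0
      rcases (show τ 0 = 0 ∨ τ 0 = 1 by omega) with e | e
      · rw [e] at h0
        exact mem_subspaceStabilizer_of_le fun v hv => h0.le ⟨v, hv, Matrix.toLin'_apply _ _⟩
      · obtain ⟨x, hx, hxW⟩ := hmem hg
        exact absurd ⟨k, D, hD, hst, x, hx, by rw [← hxW, h0, e]⟩ hswap
    have hx : ∀ (W : Submodule F (ι → F)), W ≠ ⊥ → W ≠ ⊤ → H' ≤ Geo.subspaceStabilizer W → False :=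
      fun W h0 h1 hW => (hirr W (by
        rintro _ ⟨g, hg, rfl⟩ _ ⟨v, hv, rfl⟩
        rw [Matrix.toLin'_apply]
        exact mv_mem_of_mem_stab (hW (hle hg)) hv)).elim h0 h1
    cases h with
    | singular h0 hW h =>
      refine hx _ h0 (fun ht => ?_) h
      obtain ⟨u, v, huv⟩ := hf.exists_ne_zero
      exact huv (hW u (ht ▸ Submodule.mem_top) v (ht ▸ Submodule.mem_top))
    | nondeg h0 hW hd h =>
      refine hx _ h0 (fun ht => ?_) h
      rw [ht, finrank_top, Module.finrank_pi] at hd
      omega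
    | half hk hD h =>
      rename_i k D
      refine hx (D 0) (fun h0 => ?_) (fun h1 => ?_) ?_
      · have := hD.decomp.finrank_eq 0
        rw [h0, finrank_bot] at this
        omega
      · have := hD.decomp.finrank_eq 0
        rw [h1, finrank_top, Module.finrank_pi] at this
        omega
      · exact hfix k D hD h
  | comm _ h => exact comm h
  | tensor hirr' ha hb hs hN =>
    rename_i a b eq P A B
    haveI : NeZero a := ⟨by omega⟩
    haveI : NeZero b := ⟨by omega⟩
    have hab : a * b = Fintype.card ι := by simp [Fintype.card_congr eq]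
    obtain ⟨c, d, hcd, hc, hd, hA, hB⟩ := hs.symm
    have hmap : ∀ {κ : Type} [Fintype κ] [DecidableEq κ] (M : Matrix κ κ F),
        (RingEquiv.refl F).toRingHom.mapMatrix M = M := fun M => rfl
    rw [hmap] at hA hB
    replace hc : c * c = 1 := hc
    replace hd : d * d = 1 := hd
    have hNH : Normalises H ((kemb eq P).range : Set (Matrix ι ι F)) := fun g hg => hN g (hle hg)
    have alt : (A : Matrix (Fin a) (Fin a) F)ᵀ = -(A : Matrix (Fin a) (Fin a) F) →
        (∀ i, (A : Matrix (Fin a) (Fin a) F) i i = 0) →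
        (B : Matrix (Fin b) (Fin b) F)ᵀ = -(B : Matrix (Fin b) (Fin b) F) →
        (∀ i, (B : Matrix (Fin b) (Fin b) F) i i = 0) → EvenCase Q H := fun h1 h2' h3 h4 =>
      have sA := formOf_symplectic A.isUnit h1 h2'
      have sB := formOf_symplectic B.isUnit h3 h4
      .altTensor hirr ha hb (even_of_alt sA) (even_of_alt sB) hs sA sB
        (pure_vanish hQ hisoQ hirr (by omega) hs hNH h1 h2' h3 h4) hNH
    by_cases h2 : (2 : F) = 0
    · have hone : ∀ e : F, e * e = 1 → e = 1 := fun e he => by
        have : (e - 1) * (e - 1) = 0 := by linear_combination he + (1 - e) * h2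
        exact sub_eq_zero.1 (mul_self_eq_zero.1 this)
      rw [hone c hc, one_smul] at hA
      rw [hone d hd, one_smul] at hB
      have hneg : ∀ {m : ℕ} (M : Matrix (Fin m) (Fin m) F), -M = M := fun M => Matrix.ext fun i j => by
        rw [Matrix.neg_apply]; linear_combination (-M i j) * h2
      refine alt (hA.trans (hneg _).symm) ?_ (hB.trans (hneg _).symm) ?_
      · refine fun i => diag_eq_zero_of_irred h2 (by rw [Fintype.card_fin]; omega)
          (factor_irred (eq := eq) (P := P) hirr' fun g hg => ?_) hA le_rfl i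
        obtain ⟨u, w, e, he, hg', hu⟩ := exists_factor_reps hs hsim hN g hg
        exact ⟨u, mem_similarity_of_gram he hu, w, hg'⟩
      · refine fun i => diag_eq_zero_of_irred h2 (by rw [Fintype.card_fin]; omega)
          (factor_irred (eq := eq.trans (Equiv.prodComm _ _)) (P := P) hirr' fun g hg => ?_) hB le_rfl i
        obtain ⟨u, w, e, he, hg', hu⟩ := exists_factor_reps hs.swap hsim (normalises_swap hN) g hg
        exact ⟨u, mem_similarity_of_gram he hu, w, hg'⟩
    rcases mul_self_eq_one_iff.1 hc with h1 | h1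
    · subst h1
      rw [one_mul] at hcd
      subst hcd
      rw [one_smul] at hA hB
      rcases Nat.lt_or_ge a 3 with ha3 | ha3
      · obtain rfl : a = 2 := by omega
        exact comm (commCase_of_symm_two hf hs h2 hA hsim hirr' hN)
      rcases Nat.lt_or_ge b 3 with hb3 | hb3
      · obtain rfl : b = 2 := by omega
        exact comm (commCase_of_symm_two hf hs.swap h2 hB hsim hirr' (normalises_swap hN))
      exact .symTensor hirr h2 ha3 hb3 hs hA hB hNH
    · subst h1
      have hd1 : d = -1 := by linear_combination -hcd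
      subst hd1
      rw [neg_one_smul] at hA hB
      exact alt hA (diag_zero_of_skew h2 hA) hB (diag_zero_of_skew h2 hB)
  | abelian _ S =>
    have h8 : Fintype.card ι = 8 := by
      obtain ⟨r, hr, hexp⟩ := S.exists_prime_exponent
      obtain ⟨rfl, -⟩ := S.two_of_bilinear hf hsim hr hexp
      obtain ⟨k, -, hk⟩ := S.dim_prime_pow hr hexp
      rcases Nat.lt_or_ge k 4 with h | h
      · interval_cases k <;> omega
      · have := Nat.pow_le_pow_right (show 1 ≤ 2 by norm_num) h
        omega
    exact .plusEight h8 (plus_of_abelian hQ hiso (by omega) S)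
  | wreath hirr' hk ha hw =>
    rename_i k a
    obtain ⟨eq⟩ : Nonempty (ι ≃ (Fin k → Fin a)) := by
      cases hw with
      | @mk eq P A c d hc hform hd hsymm hε hcond hrep => exact ⟨eq⟩
    have hak : a ^ k = Fintype.card ι := by simp [Fintype.card_congr eq]
    have hk4 : k < 4 := by
      by_contra hc
      have h1 := Nat.pow_le_pow_left ha k
      have h2 := Nat.pow_le_pow_right (show 1 ≤ 2 by norm_num) (Nat.le_of_not_lt hc)
      omega
    have ha4 : a < 4 := by
      by_contra hc
      have h1 := Nat.pow_le_pow_right (show 1 ≤ a by omega) hk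
      have h2 := Nat.pow_le_pow_left (Nat.le_of_not_lt hc) 2
      omega
    obtain ⟨rfl, rfl⟩ : k = 3 ∧ a = 2 := by interval_cases k <;> interval_cases a <;> omega
    refine .plusEight (by omega) (plus_of_wreath hQ hisoQ hirr hk rfl rfl ?_)
    cases hw with
    | mk hc hform hd hsymm hε hcond hrep =>
      exact .mk hc hform hd hsymm hε hcond fun g hg => hrep g (hle hg)
  | core le normal perfect simple nonab centralizer top fix =>
    rename_i L
    by_cases hreal : ∃ F₀ : Subfield F, F₀ ≠ ⊤ ∧ Geo.RealisableOver F₀ (Geo.matrixSet L)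
    · obtain ⟨F₀, hne, hreal⟩ := hreal
      obtain ⟨F₁, r, P, ζ, G, hr, hc, hG, hh, -⟩ :=
        (subfieldCase_of_core (by omega) hf normal top fix hne hreal).exists_prime
      exact .subfield hr hc hG.ne_zero (rat_quad hQ hirr (by omega) hisoQ hG (hle.trans hh)) (hle.trans hh)
    push Not at hreal
    refine .residual ⟨L, residualCore_of le normal perfect simple nonab centralizer top hreal, ?_⟩
    rintro ⟨τ, g, hg, hfix⟩
    obtain ⟨h1, h3⟩ := realisable_of_two_forms top hf (IsHermLike.of_unitary hg) hg.ne_refl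
      (fixesForm_of_le_iso fix) hfix
    exact hreal _ h3 h1

end Cfsg.Agent.OrthEvenMax
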