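/-
Shared steps for sorting a maximal subgroup: non-degenerate subspaces, small planes, and cutting out by a structure.
-/
import Cfsg.Agent.Lib.OrthEvenMax.NotLe
import Cfsg.Agent.Lib.OrthEvenMax.Structure

set_option autoImplicit false
set_option linter.style.haveILetI false

namespace Cfsg.Agent.OrthEvenMax

open scoped Matrix
open Matrix Cfsg.Agent.Transvec Cfsg.Agent.Transvec.Orth

variable {ι : Type} [Fintype ι] [DecidableEq ι] {F : Type*} [Field F] [Fintype F] {Q : (ι → F) → F}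
variable (hQ : Geo.IsNondegenerateQuadraticForm Q)
include hQ

omit hQ in
theorem odd_card_iff : Odd (Fintype.card F) ↔ (2 : F) ≠ 0 := by
  refine ⟨fun h => two_ne_zero_of_odd_card (F := F) h, fun h2 => ?_⟩
  refine Nat.odd_iff.2 (FiniteField.odd_card_of_char_ne_two (F := F) fun hc => h2 ?_)
  haveI : CharP F 2 := hc ▸ ringChar.charP F
  exact_mod_cast CharP.cast_eq_zero F 2

/-- Non-degenerate subspaces are even-dimensional in characteristic two. -/
theorem even_finrank_nondeg (h2 : (2 : F) = 0) {W : Submodule F (ι → F)}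
    (hW : Geo.IsNondegenerateOn (QuadraticMap.polar Q) W) : Even (Module.finrank F W) := by
  let C : W →ₗ[F] W →ₗ[F] F := LinearMap.mk₂ F (fun x y => pol Q (x : ι → F) (y : ι → F))
    (fun x x' y => pol_add_left hQ _ _ _) (fun c x y => pol_smul_left hQ c _ _)
    (fun x y y' => pol_add_right hQ _ _ _) (fun c x y => pol_smul_right hQ c _ _)
  have h := even_finrank_range_alt C fun x => by
    show pol Q (x : ι → F) (x : ι → F) = 0
    rw [pol_self hQ, h2, zero_mul]
  rwa [LinearMap.finrank_range_of_inj ((LinearMap.ker_eq_bot.1) ((LinearMap.ker_eq_bot').2 fun x hx => by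
    by_contra hx0
    obtain ⟨-, y, hy, hxy⟩ := hW x x.2 fun h => hx0 (Subtype.ext h)
    exact hxy (LinearMap.congr_fun hx ⟨y, hy⟩)))] at h

/-- A hyperbolic plane over at most three elements has a distinguished anisotropic line. -/
theorem plane_refine {W : Submodule F (ι → F)} (hdim : Module.finrank F W = 2)
    (hW : Geo.IsNondegenerateOn (QuadraticMap.polar Q) W) (hWp : Geo.IsPlusTypeOn Q W)
    (hq : Fintype.card F ≤ 3) :
    ∃ v : ι → F, Q v = 1 ∧ ∀ g ∈ Geo.subspaceStabilizer W, g ∈ isometryGroup F Q →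
      g ∈ Geo.subspaceStabilizer (Submodule.span F {v}) := by
  have hWn : Nondeg Q W := fun u hu h => by
    by_contra hu0
    obtain ⟨x, hx, hxu⟩ := (hW u hu hu0).1
    exact hxu (h x hx)
  obtain ⟨L, hLW, hL, hL2⟩ := hWp
  obtain ⟨e, heL, he0⟩ := L.ne_bot_iff.1 (fun h => by rw [h, finrank_bot] at hL2; omega)
  have hee : Q e = 0 := hL e heL
  obtain ⟨f, hf, hff, hef⟩ := exists_partner hQ hWn (hLW heL) he0 hee
  obtain ⟨-, hP2⟩ := nondeg_pair hQ hee hff hef
  have hWeq : Submodule.span F ({e, f} : Set (ι → F)) = W :=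
    Submodule.eq_of_le_of_finrank_le (Submodule.span_le.2 (by rintro x (rfl | rfl); exacts [hLW heL, hf]))
      (by rw [hP2, hdim])
  have hqa : Q (e + f) = 1 := by rw [q_add hQ, hee, hff, hef]; ring
  have haW : e + f ∈ W := W.add_mem (hLW heL) hf
  refine ⟨e + f, hqa, fun g hg hgI => mem_subspaceStabilizer_of_le fun z hz => ?_⟩
  obtain ⟨c, rfl⟩ := Submodule.mem_span_singleton.1 hz
  obtain ⟨s, t, hst⟩ := Submodule.mem_span_pair.1 (hWeq.ge (mv_mem_of_mem_stab hg haW))
  have hval : s * t = 1 := by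
    have h := congrArg Q hst
    rw [mem_isometry.1 hgI, hqa, q_add hQ, q_smul hQ, q_smul hQ, hee, hff, pol_smul_left hQ, pol_smul_right hQ,
      hef] at h
    linear_combination h
  have hs : s ≠ 0 := fun h => by rw [h, zero_mul] at hval; exact zero_ne_one hval
  have hs1 : s * s = 1 := by
    have h1 := FiniteField.pow_card_sub_one_eq_one s hs
    obtain h | h : Fintype.card F = 2 ∨ Fintype.card F = 3 := by
      have := Fintype.one_lt_card (α := F); omega
    · rw [h, pow_one] at h1; rw [h1, one_mul]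
    · rw [h, pow_two] at h1; exact h1
  have hts : t = s := mul_left_cancel₀ hs (hval.trans hs1.symm)
  rw [mv_smul, ← hst, hts, ← smul_add, smul_smul]
  exact Submodule.smul_mem _ _ (Submodule.mem_span_singleton_self _)

/-- The possible ways a maximal subgroup is cut out by a subspace. -/
def SubspaceMember (Q : (ι → F) → F) (H : Subgroup (GL ι F)) : Prop :=
  (∃ W : Submodule F (ι → F), W ≠ ⊥ ∧ Geo.IsTotallySingularQuad Q W ∧
      H = Geo.subspaceStabilizer W ⊓ Geo.omegaGL Q) ∨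
  (Odd (Fintype.card F) ∧ ∃ W : Submodule F (ι → F), W ≠ ⊥ ∧ W ≠ ⊤ ∧ Odd (Module.finrank F W) ∧
      2 * Module.finrank F W ≤ Fintype.card ι ∧ Geo.IsNondegenerateOn (QuadraticMap.polar Q) W ∧
      H = Geo.subspaceStabilizer W ⊓ Geo.omegaGL Q) ∨
  (∃ W : Submodule F (ι → F), Module.finrank F W = 2 ∧ Geo.IsNondegenerateOn (QuadraticMap.polar Q) W ∧
      ¬ Geo.IsPlusTypeOn Q W ∧ H = Geo.subspaceStabilizer W ⊓ Geo.omegaGL Q) ∨
  (4 ≤ Fintype.card F ∧ ∃ W : Submodule F (ι → F), Module.finrank F W = 2 ∧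
      Geo.IsNondegenerateOn (QuadraticMap.polar Q) W ∧ Geo.IsPlusTypeOn Q W ∧
      H = Geo.subspaceStabilizer W ⊓ Geo.omegaGL Q) ∨
  (∃ W : Submodule F (ι → F), 4 ≤ Module.finrank F W ∧ Even (Module.finrank F W) ∧
      2 * Module.finrank F W ≤ Fintype.card ι ∧ Geo.IsNondegenerateOn (QuadraticMap.polar Q) W ∧
      H = Geo.subspaceStabilizer W ⊓ Geo.omegaGL Q) ∨
  (¬ Odd (Fintype.card F) ∧ ∃ v : ι → F, Q v ≠ 0 ∧
      H = Geo.subspaceStabilizer (Submodule.span F {v}) ⊓ Geo.omegaGL Q)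

variable {H : Subgroup (GL ι F)}

/-- Cutting out by a subspace. -/
theorem eq_inf_subspace (hn : 5 ≤ Fintype.card ι) (hH : Geo.IsMaximalIn (Geo.omegaGL Q) H)
    {W : Submodule F (ι → F)} (h0 : W ≠ ⊥) (h1 : W ≠ ⊤) (hle : H ≤ Geo.subspaceStabilizer W) :
    H = Geo.subspaceStabilizer W ⊓ Geo.omegaGL Q :=
  eq_inf hQ hn hH hle (not_allSiegel_subspace hQ (by omega) h0 h1)

theorem subspace_ts (hn : 5 ≤ Fintype.card ι) (hH : Geo.IsMaximalIn (Geo.omegaGL Q) H)
    {W : Submodule F (ι → F)} (h0 : W ≠ ⊥) (hW : Geo.IsTotallySingularQuad Q W)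
    (hle : H ≤ Geo.subspaceStabilizer W) : SubspaceMember Q H :=
  Or.inl ⟨W, h0, hW, eq_inf_subspace hQ hn hH h0 (fun h => by
    have h' := finrank_totally_orth_le hQ (nondeg_top hQ) (L := W) le_top fun x hx y hy => ts_pol hQ hW hx hy
    rw [h, finrank_top, Module.finrank_pi] at h'
    omega) hle⟩

theorem subspace_point (hn : 5 ≤ Fintype.card ι) (hH : Geo.IsMaximalIn (Geo.omegaGL Q) H) (h2 : (2 : F) = 0)
    {v : ι → F} (hv : Q v ≠ 0) (hle : H ≤ Geo.subspaceStabilizer (Submodule.span F {v})) :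
    SubspaceMember Q H := by
  have hv0 : v ≠ 0 := fun h => hv (by rw [h, q_zero hQ])
  refine Or.inr (Or.inr (Or.inr (Or.inr (Or.inr ⟨fun h => (odd_card_iff).1 h h2, v, hv,
    eq_inf_subspace hQ hn hH (by simpa [Submodule.span_singleton_eq_bot] using hv0) (fun h => ?_) hle⟩))))
  have h' := finrank_span_singleton (K := F) hv0
  rw [h, finrank_top, Module.finrank_pi] at h'
  omega

theorem subspace_nondeg (hn : 5 ≤ Fintype.card ι) (hH : Geo.IsMaximalIn (Geo.omegaGL Q) H)
    {W : Submodule F (ι → F)} (h0 : W ≠ ⊥) (h1 : W ≠ ⊤) (hW : Geo.IsNondegenerateOn (QuadraticMap.polar Q) W)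
    (hd : 2 * Module.finrank F W ≤ Fintype.card ι) (hle : H ≤ Geo.subspaceStabilizer W) :
    SubspaceMember Q H := by
  have heq := eq_inf_subspace hQ hn hH h0 h1 hle
  rcases Nat.even_or_odd (Module.finrank F W) with he | ho
  swap
  · exact Or.inr (Or.inl ⟨odd_card_iff.2 fun h2 => Nat.not_even_iff_odd.2 ho (even_finrank_nondeg hQ h2 hW),
      W, h0, h1, ho, hd, hW, heq⟩)
  by_cases hd2 : Module.finrank F W = 2
  swap
  · refine Or.inr (Or.inr (Or.inr (Or.inr (Or.inl ⟨W, ?_, he, hd, hW, heq⟩))))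
    have : Module.finrank F W ≠ 0 := fun h => h0 (Submodule.finrank_eq_zero.1 h)
    obtain ⟨j, hj⟩ := he
    omega
  by_cases hp : Geo.IsPlusTypeOn Q W
  swap
  · exact Or.inr (Or.inr (Or.inl ⟨W, hd2, hW, hp, heq⟩))
  by_cases hq : 4 ≤ Fintype.card F
  · exact Or.inr (Or.inr (Or.inr (Or.inl ⟨hq, W, hd2, hW, hp, heq⟩)))
  obtain ⟨v, hv, hvst⟩ := plane_refine hQ hd2 hW hp (by omega)
  have hv0 : v ≠ 0 := fun h => by rw [h, q_zero hQ] at hv; exact zero_ne_one hv
  have hle' : H ≤ Geo.subspaceStabilizer (Submodule.span F {v}) := fun g hg =>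
    hvst g (hle hg) (omega_le_isometry hQ (hH.1.le hg))
  by_cases h2 : (2 : F) = 0
  · exact subspace_point hQ hn hH h2 (by rw [hv]; exact one_ne_zero) hle'
  have hne : Submodule.span F ({v} : Set (ι → F)) ≠ ⊥ := by simpa [Submodule.span_singleton_eq_bot] using hv0
  have h1' : Module.finrank F (Submodule.span F ({v} : Set (ι → F))) = 1 := finrank_span_singleton hv0
  have hnt : Submodule.span F ({v} : Set (ι → F)) ≠ ⊤ := fun h => by
    rw [h, finrank_top, Module.finrank_pi] at h1'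
    omega
  refine Or.inr (Or.inl ⟨odd_card_iff.2 h2, _, hne, hnt, by rw [h1']; exact odd_one, by omega, ?_,
    eq_inf_subspace hQ hn hH hne hnt hle'⟩)
  intro w hw hw0
  obtain ⟨c, rfl⟩ := Submodule.mem_span_singleton.1 hw
  have hc : c ≠ 0 := fun h => hw0 (by rw [h, zero_smul])
  have hvv : pol Q v (c • v) ≠ 0 := by
    rw [pol_smul_right hQ, pol_self hQ, hv, mul_one]
    exact mul_ne_zero hc h2
  exact ⟨⟨v, Submodule.mem_span_singleton_self v, hvv⟩, v, Submodule.mem_span_singleton_self v, by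
    show pol Q (c • v) v ≠ 0
    rwa [pol_comm]⟩

/-- Cutting out by a field normaliser. -/
theorem eq_inf_field (hn : 5 ≤ Fintype.card ι) (hH : Geo.IsMaximalIn (Geo.omegaGL Q) H) {r : ℕ} (hr : 2 ≤ r)
    {K : Subalgebra F (Matrix ι ι F)} (hK : Geo.IsFieldSubalgebra r K) (hle : H ≤ Geo.subalgebraNormalizer K) :
    H = Geo.subalgebraNormalizer K ⊓ Geo.omegaGL Q :=
  eq_inf hQ hn hH hle (not_allSiegel_field hQ hn hr hK)

/-- Cutting out by a subfield group. -/
theorem eq_inf_subfield (hn : 5 ≤ Fintype.card ι) (hH : Geo.IsMaximalIn (Geo.omegaGL Q) H) {F₁ : Subfield F}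
    {r : ℕ} (hr : r.Prime) (hcard : Fintype.card F = Nat.card F₁ ^ r) {P : GL ι F}
    (hle : H ≤ Geo.subfieldSubgroup F₁ P) : H = Geo.subfieldSubgroup F₁ P ⊓ Geo.omegaGL Q := by
  refine eq_inf hQ hn hH hle (not_allSiegel_subfield hQ hn (fun h => ?_) P)
  have e : Nat.card F₁ = Fintype.card F := by
    rw [h, Nat.card_congr Subfield.topEquiv.toEquiv, Nat.card_eq_fintype_card]
  rw [e] at hcard
  have h1 := Fintype.one_lt_card (α := F)
  have h2 := Nat.pow_le_pow_right h1.le hr.two_le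
  rw [← hcard, pow_two] at h2
  nlinarith

omit hQ in
/-- The mapping of blocks by isometries. -/
theorem blocks_trans {t : ℕ} {D : Fin t → Submodule F (ι → F)} (hiso : H ≤ isometryGroup F Q)
    (htr : ∀ i j, ∃ g ∈ H, (D i).map (mvLin g) = D j) :
    ∀ i j, ∃ g ∈ isometryGroup F Q, (D i).map (mvLin g) = D j := fun i j => by
  obtain ⟨g, hg, h⟩ := htr i j
  exact ⟨g, hiso hg, h⟩

omit [Fintype F] in
/-- An alternating tensor factor of complementary half dimension gives plus type. -/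
theorem plus_of_pure {a b : ℕ} {eq : ι ≃ Fin a × Fin b} {P : GL ι F} (ha : a = 2)
    (hpure : ∀ (x₁ : Fin a → F) (x₂ : Fin b → F),
      Q (mv P ((fun p : Fin a × Fin b => x₁ p.1 * x₂ p.2) ∘ eq)) = 0) : Geo.IsPlusTypeOn Q ⊤ := by
  subst ha
  let φ : (Fin b → F) →ₗ[F] (ι → F) := (mvLin P).comp
    ({ toFun := fun z => (fun p : Fin 2 × Fin b => (Pi.single 0 1 : Fin 2 → F) p.1 * z p.2) ∘ eq
       map_add' := fun z z' => by funext i; simp [mul_add]
       map_smul' := fun c z => by funext i; simp [mul_left_comm] } : (Fin b → F) →ₗ[F] (ι → F))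
  refine ⟨LinearMap.range φ, le_top, ?_, ?_⟩
  · rintro _ ⟨z, rfl⟩
    exact hpure _ z
  · rw [LinearMap.finrank_range_of_inj, Module.finrank_pi, Fintype.card_fin, finrank_top, Module.finrank_pi,
      Fintype.card_congr eq, Fintype.card_prod, Fintype.card_fin, Fintype.card_fin]
    intro z z' h
    funext j
    have e : ((fun p : Fin 2 × Fin b => (Pi.single 0 1 : Fin 2 → F) p.1 * z p.2) ∘ eq) =
        ((fun p : Fin 2 × Fin b => (Pi.single 0 1 : Fin 2 → F) p.1 * z' p.2) ∘ eq) :=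
      mv_inj P (by simpa [φ] using h)
    simpa using congrFun e (eq.symm (0, j))

end Cfsg.Agent.OrthEvenMax
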