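/-
Complementary halves of a space of plus type, and isometry from equality of types.
-/
import Cfsg.Agent.Lib.OrthEvenMax.Members
import Cfsg.Agent.Lib.LinearBlock.EvenForms
import Cfsg.Agent.Lib.Orthogonal.PlusFamilies

set_option autoImplicit false
set_option linter.style.haveILetI false

namespace Cfsg.Agent.OrthEvenMax

open scoped Matrix
open Matrix Cfsg.Agent.Transvec Cfsg.Agent.Transvec.Orth

variable {ι : Type} [Fintype ι] [DecidableEq ι] {F : Type*} [Field F] [Fintype F] {Q : (ι → F) → F}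
variable (hQ : Geo.IsNondegenerateQuadraticForm Q)
include hQ

omit [Fintype F] in
/-- Non-degenerate subspaces in the sense of the statements. -/
theorem nondegOn_of {W : Submodule F (ι → F)} (hW : Nondeg Q W) :
    Geo.IsNondegenerateOn (QuadraticMap.polar Q) W := fun w hw hw0 => by
  by_contra hc
  refine hw0 (hW w hw fun x hx => ?_)
  by_contra hxw
  exact hc ⟨⟨x, hx, hxw⟩, x, hx, by rwa [show QuadraticMap.polar Q w x = QuadraticMap.polar Q x w from pol_comm w x]⟩

omit [Fintype F] in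
/-- In plus type the orthogonal complement of a subspace of plus type is of plus type. -/
theorem orth_plus (hplus : Geo.IsPlusTypeOn Q ⊤) {W : Submodule F (ι → F)} (hW : Nondeg Q W)
    (hWp : Geo.IsPlusTypeOn Q W) : Geo.IsPlusTypeOn Q (orth hQ W) := by
  obtain ⟨U, hUW, hU, hUd⟩ := hWp
  obtain ⟨S, hUS, hS, hSd⟩ := exists_max_over hQ hplus hU
  obtain ⟨-, hsum⟩ := orth_nondeg hQ hW
  have hdis : ∀ {x : ι → F}, x ∈ W → x ∈ orth hQ W → x = 0 := fun {x} hx hx' => hW x hx fun w hw => hx' w hw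
  have hle : U ⊔ orth hQ W ≤ orth hQ U := sup_le (fun x hx u hu => ts_pol hQ hU hu hx) fun x hx u hu => hx u (hUW hu)
  have hi : U ⊓ orth hQ W = ⊥ := (Submodule.eq_bot_iff _).2 fun x hx => hdis (hUW hx.1) hx.2
  have h1 := Submodule.finrank_sup_add_finrank_inf_eq U (orth hQ W)
  rw [hi, finrank_bot] at h1
  have h2 := finrank_orth hQ U
  have heq : U ⊔ orth hQ W = orth hQ U := Submodule.eq_of_le_of_finrank_le hle (by omega)
  have hS' : U ⊔ (S ⊓ orth hQ W) = S := by
    refine le_antisymm (sup_le hUS inf_le_left) fun s hs => ?_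
    obtain ⟨u, hu, z, hz, rfl⟩ := Submodule.mem_sup.1
      (heq.ge (fun x hx => ts_pol hQ hS (hUS hx) hs : s ∈ orth hQ U))
    exact Submodule.add_mem_sup hu ⟨by simpa using S.sub_mem hs (hUS hu), hz⟩
  have h3 := Submodule.finrank_sup_add_finrank_inf_eq U (S ⊓ orth hQ W)
  rw [hS', show U ⊓ (S ⊓ orth hQ W) = ⊥ from eq_bot_iff.2 fun x hx =>
    (Submodule.mem_bot F).2 (hdis (hUW hx.1) hx.2.2), finrank_bot] at h3
  exact ⟨S ⊓ orth hQ W, inf_le_right, fun x hx => hS x hx.1, by omega⟩

omit [Fintype F] in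
theorem restr_nondeg {W : Submodule F (ι → F)} (hW : Nondeg Q W) :
    (QuadraticMap.polarBilin ((qMap hQ).comp W.subtype)).Nondegenerate := by
  refine Cfsg.Agent.Orth.nondeg_of fun x hx => Subtype.ext (hW x x.2 fun w hw => ?_)
  show pol Q w (x : ι → F) = 0
  rw [pol_comm]
  exact hx ⟨w, hw⟩

/-- The two notions of plus type agree. -/
theorem isPlus_iff {W : Submodule F (ι → F)} (hW : Nondeg Q W) {m : ℕ} (hd : Module.finrank F W = 2 * m) :
    LBEven.IsPlus m ((qMap hQ).comp W.subtype) ↔ Geo.IsPlusTypeOn Q W := by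
  constructor
  · rintro ⟨g, hg⟩
    let φ : (Fin m → F) →ₗ[F] (ι → F) := W.subtype.comp
      (g.symm.toLinearMap.comp (Cfsg.Agent.Orth.leftEmb F m))
    have hφ : Function.Injective φ :=
      W.injective_subtype.comp (g.symm.injective.comp Cfsg.Agent.Orth.leftEmb_injective)
    refine ⟨LinearMap.range φ, ?_, ?_, ?_⟩
    · rintro _ ⟨x, rfl⟩
      exact SetLike.coe_mem _
    · rintro _ ⟨x, rfl⟩
      exact (hg _).trans (by
        show Cfsg.Agent.Orth.qPlus F m (g (g.symm _)) = 0
        rw [LinearEquiv.apply_symm_apply]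
        exact (Cfsg.Agent.Orth.isMaxSing_left).2 _ ⟨x, rfl⟩)
    · rw [LinearMap.finrank_range_of_inj hφ, Module.finrank_pi, Fintype.card_fin, hd]
  · rintro ⟨U, hUW, hU, hUd⟩
    refine (LBQuad.classify_even (restr_nondeg hQ hW) hd).resolve_right ?_
    rintro ⟨ζ, hζ, g, hg⟩
    rcases Nat.eq_zero_or_pos m with rfl | hm
    · exact absurd (LinearEquiv.finrank_eq g) (by rw [hd]; simp)
    let φ : U →ₗ[F] _ := g.toLinearMap.comp (Submodule.inclusion hUW)
    have hφ : Function.Injective φ := g.injective.comp (Submodule.inclusion_injective hUW)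
    have hb : Module.finrank F (LinearMap.range φ) ≤ m - 1 := by
      refine (LBQuad.singular_bound (Cfsg.Agent.Orth.qBin_nondeg (LBQuad.bin_aniso hζ))
        (fun w hw => LBQuad.qBin_eq_zero (LBQuad.bin_aniso hζ) hw) (m - 1)).2 _ ?_
      rintro _ ⟨u, rfl⟩
      exact (hg (Submodule.inclusion hUW u)).symm.trans (hU u u.2)
    rw [LinearMap.finrank_range_of_inj hφ] at hb
    omega

/-- Non-degenerate subspaces of equal even dimension and equal type are isometric. -/
theorem iso_of_type {X Y : Submodule F (ι → F)} (hX : Nondeg Q X) (hY : Nondeg Q Y) {m : ℕ}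
    (hXd : Module.finrank F X = 2 * m) (hYd : Module.finrank F Y = 2 * m)
    (h : Geo.IsPlusTypeOn Q X ↔ Geo.IsPlusTypeOn Q Y) : Geo.AreIsometricFor Q X Y := by
  obtain ⟨g, hg⟩ := LBEven.exists_iso (restr_nondeg hQ hX) (restr_nondeg hQ hY) hXd hYd
    (by rw [isPlus_iff hQ hX hXd, isPlus_iff hQ hY hYd, h])
  exact ⟨g, fun w => (hg w).symm⟩

/-- In plus type a subspace of half dimension and its complement form an isometric decomposition. -/
theorem decomp_of_half (hplus : Geo.IsPlusTypeOn Q ⊤) {W : Submodule F (ι → F)} (hW : Nondeg Q W) {m : ℕ}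
    (hm : 1 ≤ m) (hd : Module.finrank F W = 2 * m) (hn : Fintype.card ι = 4 * m) :
    Geo.IsOrthogonalMDecomposition Q (2 * m) ![W, orth hQ W] ∧
      ∀ g ∈ isometryGroup F Q, g ∈ Geo.subspaceStabilizer W → g ∈ Geo.decompositionStabilizer ![W, orth hQ W] := by
  obtain ⟨hW', hsum⟩ := orth_nondeg hQ hW
  have hd' : Module.finrank F ↥(orth hQ W) = 2 * m := by omega
  have hiso : Geo.AreIsometricFor Q W (orth hQ W) := iso_of_type hQ hW hW' hd hd'
    ⟨orth_plus hQ hplus hW, fun h => by simpa [orth_orth_eq hQ hW] using orth_plus hQ hplus hW' h⟩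
  have hdis : Disjoint W (orth hQ W) := Submodule.disjoint_def.2 fun x hx hx' => hW x hx fun w hw => hx' w hw
  have hcompl : IsCompl W (orth hQ W) := ⟨hdis, codisjoint_iff.2 (Submodule.eq_top_of_disjoint W (orth hQ W)
    (by rw [Module.finrank_pi]; omega) hdis)⟩
  have horth : ∀ u ∈ W, ∀ v ∈ orth hQ W, pol Q u v = 0 := fun u hu v hv => hv u hu
  refine ⟨⟨⟨⟨le_rfl, by omega, fun i => ?_, ?_, ?_⟩, fun i => ?_, fun i j hij => ?_⟩, fun i j => ?_⟩,
    fun g hg hgW => ⟨1, fun i => ?_⟩⟩
  · fin_cases i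
    · exact hd
    · exact hd'
  · rw [iSupIndep_pair (show (0 : Fin 2) ≠ 1 by decide) (fun k => by fin_cases k <;> simp)]
    exact hdis
  · refine eq_top_iff.2 (hcompl.sup_eq_top.ge.trans (sup_le ?_ ?_))
    · exact le_iSup ![W, orth hQ W] 0
    · exact le_iSup ![W, orth hQ W] 1
  · fin_cases i
    · exact nondegOn_of hQ hW
    · exact nondegOn_of hQ hW'
  · fin_cases i <;> fin_cases j
    · exact absurd rfl hij
    · exact horth
    · exact fun u hu v hv => (pol_comm u v).trans (horth v hv u hu)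
    · exact absurd rfl hij
  · obtain ⟨e, he⟩ := hiso
    fin_cases i <;> fin_cases j
    · exact ⟨LinearEquiv.refl F _, fun w => rfl⟩
    · exact ⟨e, he⟩
    · refine ⟨e.symm, fun (w : orth hQ W) => ?_⟩
      show Q ((e.symm w : W) : ι → F) = Q ((w : orth hQ W) : ι → F)
      rw [← he (e.symm w), LinearEquiv.apply_symm_apply]
    · exact ⟨LinearEquiv.refl F _, fun w => rfl⟩
  · have hst : g ∈ Geo.subspaceStabilizer (![W, orth hQ W] i) := by
      fin_cases i
      · exact hgW
      · exact mem_stab_orth hQ hg hgW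
    refine Submodule.eq_of_le_of_finrank_eq ?_ (LinearEquiv.finrank_eq (Submodule.equivMapOfInjective _
      (Matrix.mulVec_injective_of_isUnit g.isUnit) _)).symm
    rintro _ ⟨x, hx, rfl⟩
    simpa [mv] using mv_mem_of_mem_stab hst hx

end Cfsg.Agent.OrthEvenMax
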