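/-
Imposing a structure on every block of an orthogonal decomposition from one on a single block.
-/
import Cfsg.Agent.Lib.OrthEvenMax.Halves
import Cfsg.Agent.Lib.Aschbacher.FormTensorCases

set_option autoImplicit false
set_option linter.style.haveILetI false

namespace Cfsg.Agent.OrthEvenMax

open scoped Matrix
open Matrix Cfsg.Agent.Transvec Cfsg.Agent.Transvec.Orth

variable {ι : Type} [Fintype ι] [DecidableEq ι] {F : Type*} [Field F] {Q : (ι → F) → F}
variable {H : Subgroup (GL ι F)} {t k : ℕ} {D : Fin t → Submodule F (ι → F)}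
variable (hQ : Geo.IsNondegenerateQuadraticForm Q) (hiso : H ≤ isometryGroup F Q)

theorem map_one_eq (W : Submodule F (ι → F)) : W.map (mvLin (1 : GL ι F)) = W := by
  rw [mvLin, Units.val_one, Matrix.toLin'_one]
  exact Submodule.map_id W

theorem map_mul_eq (a b : GL ι F) (W : Submodule F (ι → F)) :
    W.map (mvLin (a * b)) = (W.map (mvLin b)).map (mvLin a) := by
  rw [← Submodule.map_comp]
  congr 1
  simp only [mvLin, Units.val_mul, Matrix.toLin'_mul]

theorem finrank_map_mv (g : GL ι F) (W : Submodule F (ι → F)) :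
    Module.finrank F (W.map (mvLin g)) = Module.finrank F W :=
  (LinearEquiv.finrank_eq (Submodule.equivMapOfInjective _ (Matrix.mulVec_injective_of_isUnit g.isUnit) W)).symm

include hQ

/-- Pairwise orthogonal non-degenerate subspaces are independent. -/
theorem indep_of_orth {κ : Type} {U : κ → Submodule F (ι → F)} (hnd : ∀ i, Nondeg Q (U i))
    (ho : ∀ i j, i ≠ j → ∀ u ∈ U i, ∀ v ∈ U j, pol Q u v = 0) : iSupIndep U := fun i => by
  rw [Submodule.disjoint_def]
  intro x hx hx'
  refine hnd i x hx fun w hw => ?_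
  have hle : (⨆ j, ⨆ (_ : j ≠ i), U j) ≤ LinearMap.ker (formQ hQ w) :=
    iSup₂_le fun j hj u hu => ho j i hj u hu w hw
  exact (pol_comm w x).trans (hle hx')

/-- An isometry carries non-degenerate subspaces to non-degenerate subspaces. -/
theorem nondeg_map {g : GL ι F} (hg : g ∈ isometryGroup F Q) {W : Submodule F (ι → F)} (hW : Nondeg Q W) :
    Nondeg Q (W.map (mvLin g)) := by
  rintro _ ⟨x, hx, rfl⟩ h
  rw [hW x hx fun w hw => by rw [← pol_mv hQ hg]; exact h _ ⟨w, hw, Matrix.toLin'_apply _ _⟩, map_zero]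

omit hQ in
/-- Transporters from one block, through which the group acts by isometries of that block. -/
theorem exists_transport (hiso : H ≤ isometryGroup F Q) (htr : ∀ i j, ∃ g ∈ H, (D i).map (mvLin g) = D j)
    (i₀ : Fin t) (hle : H ≤ Geo.decompositionStabilizer D) :
    ∃ h : Fin t → GL ι F, (∀ i, h i ∈ isometryGroup F Q) ∧ (∀ i, (D i₀).map (mvLin (h i)) = D i) ∧
      ∀ g ∈ H, ∀ i, ∃ j, ∃ u ∈ isometryGroup F Q, (D i₀).map (mvLin u) = D i₀ ∧ g * h i = h j * u := by
  choose h hh hmap using fun i => htr i₀ i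
  refine ⟨h, fun i => hiso (hh i), hmap, fun g hg i => ?_⟩
  obtain ⟨σ, hσ⟩ := hle hg
  refine ⟨σ i, (h (σ i))⁻¹ * (g * h i),
    hiso (H.mul_mem (H.inv_mem (hh _)) (H.mul_mem hg (hh _))), ?_, by rw [mul_inv_cancel_left]⟩
  rw [map_mul_eq, map_mul_eq, hmap, hσ]
  conv_lhs => rw [← hmap (σ i)]
  rw [← map_mul_eq, inv_mul_cancel, map_one_eq]

include hiso

/-- Refining every block as one block is refined. -/
theorem refine_decomp (hD : Geo.IsOrthogonalMDecomposition Q k D)
    (htr : ∀ i j, ∃ g ∈ H, (D i).map (mvLin g) = D j) (hle : H ≤ Geo.decompositionStabilizer D) (i₀ : Fin t)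
    {s k' : ℕ} (U : Fin s → Submodule F (ι → F)) (hs : 1 ≤ s) (hk' : 1 ≤ k')
    (hdim : ∀ a, Module.finrank F (U a) = k') (hnd : ∀ a, Nondeg Q (U a))
    (ho : ∀ a b, a ≠ b → ∀ u ∈ U a, ∀ v ∈ U b, pol Q u v = 0) (hsup : iSup U = D i₀)
    (hiso' : ∀ a b, Geo.AreIsometricFor Q (U a) (U b))
    (hperm : ∀ u ∈ isometryGroup F Q, (D i₀).map (mvLin u) = D i₀ → ∀ a, ∃ b, (U a).map (mvLin u) = U b) :
    ∃ D' : Fin (t * s) → Submodule F (ι → F), Geo.IsOrthogonalMDecomposition Q k' D' ∧
      H ≤ Geo.decompositionStabilizer D' ∧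
      ∀ x, ∃ a, ∃ h ∈ isometryGroup F Q, (U a).map (mvLin h) = D' x := by
  obtain ⟨h, hh, hmap, hact⟩ := exists_transport hiso htr i₀ hle
  let T : Fin t × Fin s → Submodule F (ι → F) := fun p => (U p.2).map (mvLin (h p.1))
  let e : Fin (t * s) ≃ Fin t × Fin s := finProdFinEquiv.symm
  have hTle : ∀ p, T p ≤ D p.1 := fun p => by
    rw [← hmap p.1]
    exact Submodule.map_mono (hsup ▸ le_iSup U p.2)
  have hTo : ∀ p r, p ≠ r → ∀ u ∈ T p, ∀ v ∈ T r, pol Q u v = 0 := by
    rintro ⟨i, a⟩ ⟨j, b⟩ hne x hx y hy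
    by_cases hij : i = j
    · subst hij
      obtain ⟨u, hu, rfl⟩ := hx
      obtain ⟨v, hv, rfl⟩ := hy
      simp only [Matrix.toLin'_apply]
      exact (pol_mv hQ (hh i) u v).trans (ho a b (fun h => hne (by rw [h])) u hu v hv)
    · exact hD.decomp.orthogonal i j hij x (hTle (i, a) hx) y (hTle (j, b) hy)
  have hTn : ∀ p, Nondeg Q (T p) := fun p => nondeg_map hQ (hh p.1) (hnd p.2)
  have hTi : iSupIndep T := indep_of_orth hQ hTn hTo
  have hTinj : Function.Injective T := fun p r hpr => by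
    by_contra hne
    have hbot : T p = ⊥ := disjoint_self.1 (by
      have := hTi.pairwiseDisjoint hne
      rw [Function.onFun, ← hpr] at this
      exact this)
    have := hdim p.2
    rw [← finrank_map_mv (h p.1), show (U p.2).map (mvLin (h p.1)) = T p from rfl, hbot, finrank_bot] at this
    omega
  refine ⟨T ∘ e, ⟨⟨⟨?_, hk', fun x => ?_, hTi.comp e.injective, ?_⟩, fun x => ?_,
    fun x y hxy => hTo (e x) (e y) (fun h => hxy (e.injective h))⟩, fun x y => ?_⟩, fun g hg => ?_, fun x => ?_⟩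
  · exact hD.decomp.decomp.two_le.trans (Nat.le_mul_of_pos_right t hs)
  · exact (finrank_map_mv _ _).trans (hdim _)
  · refine eq_top_iff.2 (hD.decomp.decomp.iSup_eq_top.ge.trans (iSup_le fun i => ?_))
    rw [← hmap i, ← hsup, Submodule.map_iSup]
    exact iSup_le fun a => (le_of_eq (by simp [T])).trans (le_iSup (T ∘ e) (e.symm (i, a)))
  · exact nondegOn_of hQ (hTn _)
  · obtain ⟨c, hc⟩ := hiso' (e x).2 (e y).2
    obtain ⟨c₁, hc₁⟩ := Aschbacher.areIsometric_map (hh (e x).1) (W := U (e x).2) rfl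
    obtain ⟨c₂, hc₂⟩ := Aschbacher.areIsometric_map (hh (e y).1) (W := U (e y).2) rfl
    refine ⟨c₁.symm.trans (c.trans c₂), fun w => ?_⟩
    obtain ⟨z, rfl⟩ := c₁.surjective w
    simp only [LinearEquiv.trans_apply, LinearEquiv.symm_apply_apply]
    exact ((hc₂ _).trans (hc z)).trans (hc₁ z).symm
  · have key : ∀ p, ∃ r, (T p).map (mvLin g) = T r := fun p => by
      obtain ⟨j, u, hu, hum, hgu⟩ := hact g hg p.1
      obtain ⟨b, hb⟩ := hperm u hu hum p.2
      exact ⟨(j, b), by rw [show T p = (U p.2).map (mvLin (h p.1)) from rfl, ← map_mul_eq, hgu, map_mul_eq, hb]⟩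
    choose f hf using key
    have hf' : Function.Injective f := fun p r hpr => hTinj (Submodule.map_injective_of_injective
      (Matrix.mulVec_injective_of_isUnit g.isUnit) ((hf p).trans (hpr ▸ (hf r).symm)))
    refine ⟨e.trans ((Equiv.ofBijective f (Finite.injective_iff_bijective.1 hf')).trans e.symm), fun x => ?_⟩
    simp [hf]
  · exact ⟨(e x).2, h (e x).1, hh _, rfl⟩

/-- A rational structure from one on a block. -/
theorem subfield_of_blocks [Fintype F] (hD : Geo.IsOrthogonalMDecomposition Q k D)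
    (htr : ∀ i j, ∃ g ∈ H, (D i).map (mvLin g) = D j) (hle : H ≤ Geo.decompositionStabilizer D) (i₀ : Fin t)
    (hn : t * k = Fintype.card ι) (F₁ : Subfield F) (w : Fin k → (ι → F))
    (hspan : Submodule.span F (Set.range w) = D i₀) {ζ : F}
    (hstab : ∀ u ∈ isometryGroup F Q, (D i₀).map (mvLin u) = D i₀ →
      ∀ a, ∃ c : Fin k → F, (∀ b, c b ∈ F₁) ∧ mv u (w a) = ∑ b, c b • w b)
    (hval : ∀ c : Fin k → F, (∀ b, c b ∈ F₁) → ζ * Q (∑ b, c b • w b) ∈ F₁) :
    ∃ P : GL ι F, Geo.IsQuadFormRationalStructure (fun v => ζ * Q v) F₁ P ∧ H ≤ Geo.subfieldSubgroup F₁ P := by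
  classical
  obtain ⟨h, hh, hmap, hact⟩ := exists_transport hiso htr i₀ hle
  let e : ι ≃ Fin t × Fin k := Fintype.equivOfCardEq (by simp [hn])
  let M : Matrix ι ι F := Matrix.of fun r i => mv (h (e i).1) (w (e i).2) r
  have hMv : ∀ x, M *ᵥ x = ∑ i, x i • mv (h (e i).1) (w (e i).2) := fun x => by
    funext r
    simp [M, Matrix.mulVec, dotProduct, mul_comm]
  have hsum : ∀ x : Fin t × Fin k → F, M *ᵥ (x ∘ e) = ∑ i, mv (h i) (∑ a, x (i, a) • w a) := fun x => by
    rw [hMv]
    simp only [Function.comp_apply, ← Matrix.toLin'_apply (h _ : Matrix ι ι F), map_sum, map_smul, mv]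
    rw [Equiv.sum_comp e fun p => x p • (Matrix.toLin' (h p.1 : Matrix ι ι F)) (w p.2), Fintype.sum_prod_type]
  have hsurj : LinearMap.range (Matrix.toLin' M) = ⊤ := by
    refine eq_top_iff.2 (hD.decomp.decomp.iSup_eq_top.ge.trans (iSup_le fun i => ?_))
    rw [← hmap i, ← hspan, Submodule.map_span, Submodule.span_le]
    rintro _ ⟨_, ⟨a, rfl⟩, rfl⟩
    refine ⟨Pi.single (e.symm (i, a)) 1, ?_⟩
    rw [Matrix.toLin'_apply, hMv, Finset.sum_eq_single (e.symm (i, a))]
    · simp [mv]
    · intro b _ hb; simp [hb]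
    · simp
  have hMu : IsUnit M := Matrix.mulVec_surjective_iff_isUnit.1 fun y => by
    obtain ⟨x, hx⟩ := hsurj.ge (Submodule.mem_top : y ∈ ⊤)
    exact ⟨x, by rw [← Matrix.toLin'_apply]; exact hx⟩
  set P := hMu.unit with hP
  have hPM : (P : Matrix ι ι F) = M := hMu.unit_spec
  have hmemD : ∀ (x : Fin k → F) i, mv (h i) (∑ a, x a • w a) ∈ D i := fun x i => by
    rw [← hmap i]
    refine ⟨_, ?_, Matrix.toLin'_apply _ _⟩
    rw [← hspan]
    exact Submodule.sum_mem _ fun a _ => Submodule.smul_mem _ _ (Submodule.subset_span ⟨a, rfl⟩)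
  have hq : ∀ s : Finset (Fin t), ∀ v : Fin t → (ι → F), (∀ i, v i ∈ D i) → Q (∑ i ∈ s, v i) = ∑ i ∈ s, Q (v i) := by
    intro s v hv
    induction s using Finset.induction_on with
    | empty => simp [q_zero hQ]
    | insert i s hi ih =>
      have h0 : pol Q (v i) (∑ j ∈ s, v j) = 0 := by
        show formQ hQ (∑ j ∈ s, v j) (v i) = 0
        show pol Q (v i) (∑ j ∈ s, v j) = 0
        rw [pol_comm, show pol Q (∑ j ∈ s, v j) (v i) = formQ hQ (v i) (∑ j ∈ s, v j) from rfl, map_sum]
        exact Finset.sum_eq_zero fun j hj =>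
          hD.decomp.orthogonal j i (fun h => hi (h ▸ hj)) _ (hv j) _ (hv i)
      rw [Finset.sum_insert hi, Finset.sum_insert hi, q_add hQ, ih, h0, add_zero]
  refine ⟨P, fun u hu => ?_, fun g hg => ?_⟩
  · rw [hPM, show u = (fun p => u (e.symm p)) ∘ e from funext fun i => by simp, hsum,
      ]
    show ζ * Q _ ∈ F₁
    rw [hq _ _ fun i => hmemD _ i, Finset.mul_sum]
    exact sum_mem fun i _ => by rw [mem_isometry.1 (hh i)]; exact hval _ fun b => hu _
  · choose j u hu hum hgu using hact g hg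
    choose c hc hcw using fun i => hstab (u i) (hu i) (hum i)
    let N : Matrix ι ι F := Matrix.of fun r i =>
      if (e r).1 = j (e i).1 then c (e i).1 (e i).2 (e r).2 else 0
    refine Aschbacher.mem_subfieldSubgroup_of_entries P (M := N) (x := 1) one_ne_zero (fun r i => ?_) ?_
    · simp only [N, Matrix.of_apply, one_mul]
      split_ifs
      · exact hc _ _ _
      · exact zero_mem _
    · have hgM : (g : Matrix ι ι F) * M = M * N := by
        refine Matrix.ext_of_mulVec_single fun i => ?_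
        rw [← Matrix.mulVec_mulVec, ← Matrix.mulVec_mulVec]
        have hN : N *ᵥ Pi.single i 1 = (fun p : Fin t × Fin k =>
            if p.1 = j (e i).1 then c (e i).1 (e i).2 p.2 else 0) ∘ e := funext fun r => by
          simp [N]
        rw [hN, hsum, hMv, Finset.sum_eq_single i (fun b _ hb => by simp [hb]) (by simp), Pi.single_eq_same,
          one_smul, Finset.sum_eq_single (j (e i).1) (fun b _ hb => by simp [hb, mv_zero]) (by simp)]
        simp only [if_true]
        rw [← hcw, ← mv_mul, ← hgu, mv_mul]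
      rw [Aschbacher.cj_apply, hPM, ← hgM, ← hPM, Units.mul_inv_cancel_right]

end Cfsg.Agent.OrthEvenMax
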