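/-
A quadratic form rational over a subfield of index two is of plus type in even dimension.
-/
import Cfsg.Agent.Lib.OrthEvenMax.Plus

set_option autoImplicit false
set_option linter.style.haveILetI false

namespace Cfsg.Agent.OrthEvenMax

open scoped Matrix
open Matrix Cfsg.Agent.Transvec Cfsg.Agent.Transvec.Orth

variable {ι : Type} [Fintype ι] [DecidableEq ι] {F : Type*} [Field F] [Fintype F]

/-- A quadratic polynomial over a subfield of index two has a root. -/
theorem exists_root_two {F₀ : Subfield F} (hcard : Fintype.card F = Nat.card F₀ ^ 2) (b c : F₀) :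
    ∃ t : F, t ^ 2 + (b : F) * t + (c : F) = 0 := by
  classical
  by_cases hr : ∃ t : F₀, t ^ 2 + b * t + c = 0
  · obtain ⟨t, ht⟩ := hr
    exact ⟨t, by exact_mod_cast congrArg Subtype.val ht⟩
  push Not at hr
  let p : Polynomial F₀ := Polynomial.X ^ 2 + Polynomial.C b * Polynomial.X + Polynomial.C c
  have hd : p.natDegree = 2 := by simp only [p]; compute_degree!
  have hirr : Irreducible p := by
    rw [Polynomial.irreducible_iff_roots_eq_zero_of_degree_le_three (by omega) (by omega),
      Multiset.eq_zero_iff_forall_notMem]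
    intro t ht
    rw [Polynomial.mem_roots'] at ht
    refine hr t ?_
    simpa [p, Polynomial.IsRoot] using ht.2
  haveI := Fact.mk hirr
  have hfin : Module.finrank F₀ (AdjoinRoot p) = 2 := by
    rw [(AdjoinRoot.powerBasis hirr.ne_zero).finrank, AdjoinRoot.powerBasis_dim, hd]
  haveI : Module.Finite F₀ (AdjoinRoot p) := Module.finite_of_finrank_eq_succ hfin
  haveI : Finite (AdjoinRoot p) := Module.finite_of_finite F₀
  have hF : Module.finrank F₀ F = 2 := by
    have h := Module.natCard_eq_pow_finrank (K := F₀) (V := F)
    rw [Nat.card_eq_fintype_card, hcard] at h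
    exact (Nat.pow_right_injective (Finite.one_lt_card (α := F₀)) h).symm
  obtain ⟨φ⟩ := FiniteField.nonempty_algHom_of_finrank_dvd (F := F₀) (K := AdjoinRoot p) (L := F)
    (by rw [hfin, hF])
  refine ⟨φ (AdjoinRoot.root p), ?_⟩
  have h := congrArg φ (AdjoinRoot.eval₂_root p)
  have hof : ∀ x : F₀, φ (AdjoinRoot.of p x) = (x : F) := fun x => φ.commutes x
  simp only [p, Polynomial.eval₂_add, Polynomial.eval₂_mul, Polynomial.eval₂_pow, Polynomial.eval₂_C,
    Polynomial.eval₂_X, map_add, map_mul, map_pow, map_zero] at h
  rw [← hof b, ← hof c]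
  exact h

variable {F₀ : Subfield F} {Q : (ι → F) → F}

/-- A rational non-degenerate subspace of dimension 2m carries an m-dimensional totally singular subspace. -/
theorem ts_rational (hQ : Geo.IsNondegenerateQuadraticForm Q) (hV : ∀ x : ι → F, RatV F₀ x → Q x ∈ F₀)
    (hcard : Fintype.card F = Nat.card F₀ ^ 2) : ∀ (m : ℕ) (X : Submodule F₀ (ι → F₀)),
    Nondeg (qDown hV) X → Module.finrank F₀ X = 2 * m →
    ∃ T : Submodule F (ι → F), Geo.IsTotallySingularQuad Q T ∧
      T ≤ Submodule.span F (up '' (X : Set (ι → F₀))) ∧ Module.finrank F T = m := by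
  have hQ₀ := qDown_nondegenerate hQ hV
  intro m
  induction m with
  | zero =>
    intro X _ _
    exact ⟨⊥, fun x hx => by rw [(Submodule.mem_bot F).1 hx, q_zero hQ], bot_le, finrank_bot F _⟩
  | succ m ih =>
    intro X hX hd
    rcases Nat.eq_zero_or_pos m with rfl | hm
    · -- a rational plane
      obtain ⟨a, ha, hQa⟩ := exists_anisotropic hQ₀ hX fun h => by rw [h, finrank_bot] at hd; omega
      obtain ⟨b, hb, hba⟩ : ∃ b ∈ X, b ∉ Submodule.span F₀ {a} := by
        by_contra hc
        push Not at hc
        have := Submodule.finrank_mono hc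
        rw [finrank_span_singleton fun h => hQa (by rw [h, q_zero hQ₀]), hd] at this
        omega
      set A := Q (up a) with hA
      have hA0 : A ≠ 0 := fun h => hQa (Subtype.ext h)
      obtain ⟨t, ht⟩ := exists_root_two hcard (pol (qDown hV) a b / qDown hV a) (qDown hV b / qDown hV a)
      have ht' : t ^ 2 * A + t * pol Q (up a) (up b) + Q (up b) = 0 := by
        push_cast at ht
        rw [qDown_pol, qDown_val, qDown_val, ← hA] at ht
        field_simp at ht
        linear_combination ht
      set v := t • up a + up b with hv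
      have hQv : Q v = 0 := by
        rw [hv, q_add hQ, q_smul hQ, pol_smul_left hQ]
        linear_combination ht'
      have hv0 : v ≠ 0 := by
        intro h0
        have hind : LinearIndependent F₀ ![a, b] := by
          refine LinearIndependent.pair_iff.2 fun s r hsr => ?_
          have hr0 : r = 0 := by
            by_contra hr
            refine hba (Submodule.mem_span_singleton.2 ⟨-(r⁻¹ * s), ?_⟩)
            rw [neg_smul, mul_smul, ← smul_neg, ← eq_neg_of_add_eq_zero_right hsr, inv_smul_smul₀ hr]
          rw [hr0, zero_smul, add_zero, smul_eq_zero] at hsr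
          exact ⟨hsr.resolve_right fun h => hQa (by rw [h, q_zero hQ₀]), hr0⟩
        have hind' : LinearIndependent F (fun i => up ((![a, b] : Fin 2 → ι → F₀) i)) :=
          (linearIndependent_algebraMap_comp_iff (R := F₀) (S := F)).2 hind
        have := Fintype.linearIndependent_iff.1 hind' ![t, 1] (by simpa [Fin.sum_univ_two] using h0) 1
        simp at this
      refine ⟨Submodule.span F {v}, ts_span hQ hQv, ?_, finrank_span_singleton hv0⟩
      rw [Submodule.span_singleton_le_iff_mem]
      exact add_mem (Submodule.smul_mem _ _ (Submodule.subset_span ⟨a, ha, rfl⟩))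
        (Submodule.subset_span ⟨b, hb, rfl⟩)
    · obtain ⟨e, he, he0, hee⟩ := exists_singular hQ₀ (X := X) (by omega)
      obtain ⟨d, hdX, hdd, hed⟩ := exists_partner hQ₀ hX he he0 hee
      obtain ⟨hP, hP2⟩ := nondeg_pair hQ₀ hee hdd hed
      set P := Submodule.span F₀ ({e, d} : Set (ι → F₀)) with hPdef
      have hPX : P ≤ X := Submodule.span_le.2 (by
        rintro z (rfl | rfl)
        · exact he
        · exact hdX)
      have hd' := finrank_inf_orth_add hQ₀ hP hPX
      obtain ⟨T, hT, hTle, hTd⟩ := ih (X ⊓ orth hQ₀ P) (nondeg_inf_orth hQ₀ hP hX hPX) (by omega)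
      have hperp : ∀ p ∈ P, ∀ z ∈ T, pol Q (up p) z = 0 := by
        intro p hp z hz
        have : Submodule.span F (up '' ((X ⊓ orth hQ₀ P : Submodule F₀ (ι → F₀)) : Set (ι → F₀))) ≤
            LinearMap.ker (formQ hQ (up p)) := Submodule.span_le.2 (by
          rintro _ ⟨w, hw, rfl⟩
          show pol Q (up w) (up p) = 0
          rw [pol_comm]
          exact up_pol_zero hV (hw.2 p hp))
        rw [pol_comm]
        exact this (hTle hz)
      have heP : e ∈ P := Submodule.subset_span (Set.mem_insert _ _)
      have hdP : d ∈ P := Submodule.subset_span (Set.mem_insert_of_mem _ rfl)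
      have hue : Q (up e) = 0 := congrArg Subtype.val hee
      refine ⟨Submodule.span F {up e} ⊔ T, ts_sup hQ (ts_span hQ hue) hT ?_, sup_le ?_ (hTle.trans ?_), ?_⟩
      · intro x hx z hz
        obtain ⟨c, rfl⟩ := Submodule.mem_span_singleton.1 hx
        rw [pol_smul_left hQ, hperp e heP z hz, mul_zero]
      · rw [Submodule.span_singleton_le_iff_mem]
        exact Submodule.subset_span ⟨e, he, rfl⟩
      · exact Submodule.span_mono (Set.image_mono inf_le_left)
      · have hdis : Submodule.span F {up e} ⊓ T = ⊥ := (Submodule.eq_bot_iff _).2 fun x hx => by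
          obtain ⟨c, rfl⟩ := Submodule.mem_span_singleton.1 hx.1
          have h := hperp d hdP _ hx.2
          rw [pol_smul_right hQ, pol_comm, ← qDown_pol hV, hed] at h
          simp only [OneMemClass.coe_one, mul_one] at h
          rw [h, zero_smul]
        have h := Submodule.finrank_sup_add_finrank_inf_eq (Submodule.span F {up e}) T
        rw [hdis, finrank_bot, add_zero, finrank_span_singleton (up_ne_zero he0), hTd] at h
        omega

/-- A rational structure over a subfield of index two gives plus type. -/
theorem plus_of_sub_two (hQ : Geo.IsNondegenerateQuadraticForm Q) (heven : Even (Fintype.card ι))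
    {F₁ : Subfield F} {P : GL ι F} {ζ : F} (hζ : ζ ≠ 0) (hcard : Fintype.card F = Nat.card F₁ ^ 2)
    (h : Geo.IsQuadFormRationalStructure (fun v => ζ * Q v) F₁ P) : Geo.IsPlusTypeOn Q ⊤ := by
  obtain ⟨m, hm⟩ := heven
  set Q' : (ι → F) → F := fun u => ζ * Q (mv P u) with hQ'def
  have hpol : ∀ u v, pol Q' u v = ζ * pol Q (mv P u) (mv P v) := fun u v => by
    simp only [pol, QuadraticMap.polar, hQ'def, mv_add]; ring
  have hQ' : Geo.IsNondegenerateQuadraticForm Q' :=
    { smul := fun c v => by simp only [hQ'def, mv_smul, q_smul hQ]; ring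
      polar_bilinear :=
        { add_left := fun x y v => by
            show pol Q' (x + y) v = pol Q' x v + pol Q' y v
            rw [hpol, hpol, hpol, mv_add, pol_add_left hQ, mul_add]
          add_right := fun v x y => by
            show pol Q' v (x + y) = pol Q' v x + pol Q' v y
            rw [hpol, hpol, hpol, mv_add, pol_add_right hQ, mul_add]
          smul_left := fun c x v => by
            show pol Q' (c • x) v = c * pol Q' x v
            rw [hpol, hpol, mv_smul, pol_smul_left hQ]; ring
          smul_right := fun c v x => by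
            show pol Q' v (c • x) = c * pol Q' v x
            rw [hpol, hpol, mv_smul, pol_smul_right hQ]; ring }
      nondegenerate := fun v hv => by
        obtain ⟨x, hx⟩ := (hQ.nondegenerate (mv P v) fun h0 => hv (mv_inj P (h0.trans (mv_zero P).symm))).1
        have h1 : pol Q' (mv P⁻¹ x) v ≠ 0 := by
          rw [hpol, mv_mv_inv]; exact mul_ne_zero hζ hx
        exact ⟨⟨_, h1⟩, mv P⁻¹ x, by
          show pol Q' v (mv P⁻¹ x) ≠ 0
          rw [pol_comm]; exact h1⟩ }
  have hV : ∀ x : ι → F, RatV F₁ x → Q' x ∈ F₁ := fun x hx => h x hx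
  obtain ⟨T, hT, -, hTd⟩ := ts_rational hQ' hV hcard m ⊤ (nondeg_top (qDown_nondegenerate hQ' hV))
    (by rw [finrank_top, Module.finrank_pi, hm, two_mul])
  refine ⟨T.map (mvLin P), le_top, ?_, ?_⟩
  · rintro _ ⟨x, hx, rfl⟩
    rw [Matrix.toLin'_apply]
    exact (mul_eq_zero.1 (hT x hx)).resolve_left hζ
  · rw [(Submodule.equivMapOfInjective (mvLin P)
      (fun x y hxy => mv_inj P (by simpa using hxy)) T).finrank_eq.symm, hTd, finrank_top, Module.finrank_pi, hm,
      two_mul]

end Cfsg.Agent.OrthEvenMax
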