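/-
Quadratic extension fields in dimension ten.
-/
import Cfsg.Agent.Lib.OrthEvenMax.Structure
import Cfsg.Agent.Lib.Aschbacher.SympRefine

set_option autoImplicit false
set_option linter.style.haveILetI false

namespace Cfsg.Agent.OrthEvenMax

open scoped Matrix
open Matrix Cfsg.Agent.Transvec Cfsg.Agent.Transvec.Orth Cfsg.Agent.Aschbacher

variable {ι : Type} [Fintype ι] [DecidableEq ι] {F : Type*} [Field F] [Fintype F] {Q : (ι → F) → F}
  {H : Subgroup (GL ι F)} {K : Subalgebra F (Matrix ι ι F)}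

variable (hQ : Geo.IsNondegenerateQuadraticForm Q)
include hQ

omit [Fintype F] in
theorem polarHerm : IsHermLike (RingEquiv.refl F) 1 (QuadraticMap.polar Q) :=
  IsHermLike.of_symmetric ⟨hQ.polar_bilinear, QuadraticMap.polar_comm _, hQ.nondegenerate⟩

/-- A self-adjoint field of degree prime to half the dimension needs odd characteristic. -/
theorem ne_two_of_selfAdjoint [Nonempty ι] {r : ℕ} (hn : ¬ 2 * r ∣ Fintype.card ι) (hK : Geo.IsFieldSubalgebra r K)
    (hsa : Geo.IsSelfAdjointFor (QuadraticMap.polar Q) K) : (2 : F) ≠ 0 := fun h2 =>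
  hn (two_mul_dvd_of_selfAdjoint (symplectic_of_two hQ h2) hK hsa fun _ hk v =>
    alternating_of_selfAdjoint (symplectic_of_two hQ h2) hK hsa hk v)

/-- A quadratic field closed under adjoints but not self-adjoint acts by similarities. -/
theorem norm_of_unitary (hirr : Geo.ActsIrreducibly (Geo.matrixSet H)) (hiso : H ≤ isometryGroup F Q)
    (hn : 2 ≤ Fintype.card ι) (hK : Geo.IsFieldSubalgebra 2 K)
    (hadj : Geo.IsAdjointClosedFor (QuadraticMap.polar Q) K)
    (hns : ¬ Geo.IsSelfAdjointFor (QuadraticMap.polar Q) K) (hN : H ≤ Geo.subalgebraNormalizer K) :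
    ∀ k ∈ K, ∃ c : F, ∀ v : ι → F, Q (k *ᵥ v) = c * Q v := by
  classical
  haveI : Nonempty ι := Fintype.card_pos_iff.1 (by omega)
  have hf' := polarHerm hQ
  obtain ⟨k₀, hk₀, hkne⟩ : ∃ k ∈ K, hf'.adj k ≠ k := by
    by_contra hc
    push Not at hc
    exact hns (hf'.selfAdjoint_of_adj hc)
  let S : Submodule F K :=
    { carrier := {x | hf'.adj x.1 = x.1}
      add_mem' := fun {a b} ha hb => by
        show hf'.adj (a.1 + b.1) = a.1 + b.1
        rw [hf'.adj_add, ha, hb]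
      zero_mem' := hf'.adj_zero
      smul_mem' := fun c a ha => by
        show hf'.adj (c • a.1) = c • a.1
        rw [hf'.adj_smul, ha]; rfl }
  have hS : ∀ x ∈ K, hf'.adj x = x → ∃ c : F, x = c • (1 : Matrix ι ι F) := by
    intro x hx hxa
    have hne : S ≠ ⊤ := fun h => hkne (h.ge (Submodule.mem_top : (⟨k₀, hk₀⟩ : K) ∈ _))
    have hlt := Submodule.finrank_lt hne
    rw [hK.finrank_eq] at hlt
    have h1 : (1 : K) ∈ S := hf'.adj_one
    have hle : Submodule.span F {(1 : K)} ≤ S := by simpa [Submodule.span_le] using h1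
    have h1ne : (1 : K) ≠ 0 := fun e => one_ne_zero (congrArg Subtype.val e)
    have heq : Submodule.span F {(1 : K)} = S := Submodule.eq_of_le_of_finrank_le hle (by
      rw [finrank_span_singleton h1ne]; omega)
    obtain ⟨c, hc⟩ := Submodule.mem_span_singleton.1 (heq.ge (show (⟨x, hx⟩ : K) ∈ S from hxa))
    exact ⟨c, (congrArg Subtype.val hc).symm⟩
  intro k hk
  obtain ⟨c, hc⟩ := hS (hf'.adj k * k) (mul_mem (hf'.adj_mem_of_closed hadj hk) hk)
    (by rw [hf'.adj_mul, hf'.adj_adj])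
  have hnorm : ∀ u v : ι → F, pol Q (k *ᵥ u) (k *ᵥ v) = c * pol Q u v := fun u v => by
    show QuadraticMap.polar Q (k *ᵥ u) (k *ᵥ v) = _
    rw [hf'.adj_spec, Matrix.mulVec_mulVec, hc, Matrix.smul_mulVec, Matrix.one_mulVec]
    exact pol_smul_right hQ c u v
  refine ⟨c, fun v => ?_⟩
  by_cases h2 : (2 : F) = 0
  swap
  · refine mul_left_cancel₀ h2 ?_
    rw [← pol_self hQ, hnorm, pol_self hQ]
    ring
  -- characteristic two
  have hneg : ∀ x : Matrix ι ι F, -x = x := fun x => Matrix.ext fun i j => by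
    rw [Matrix.neg_apply]; linear_combination (-x i j) * h2
  have halt : ∀ v : ι → F, pol Q v v = 0 := fun v => by rw [pol_self hQ, h2, zero_mul]
  obtain ⟨a, ha⟩ := hS (k₀ + hf'.adj k₀) (add_mem hk₀ (hf'.adj_mem_of_closed hadj hk₀))
    (by rw [hf'.adj_add, hf'.adj_adj, add_comm])
  have ha0 : a ≠ 0 := fun h0 => hkne (by
    rw [h0, zero_smul] at ha
    exact (eq_neg_of_add_eq_zero_right ha).trans (hneg k₀))
  set θ := a⁻¹ • k₀ with hθ
  have hθK : θ ∈ K := K.smul_mem hk₀ _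
  have hsum : θ + hf'.adj θ = 1 := by
    rw [hθ, hf'.adj_smul]
    show a⁻¹ • k₀ + a⁻¹ • hf'.adj k₀ = 1
    rw [← smul_add, ha, smul_smul, inv_mul_cancel₀ ha0, one_smul]
  let Q' : (ι → F) → F := fun v => pol Q (θ *ᵥ v) v
  have hp : ∀ u v, pol Q' u v = pol Q u v := fun u v => by
    show pol Q (θ *ᵥ (u + v)) (u + v) - pol Q (θ *ᵥ u) u - pol Q (θ *ᵥ v) v = pol Q u v
    rw [Matrix.mulVec_add, pol_add_left hQ, pol_add_right hQ, pol_add_right hQ]
    have h1 : pol Q (θ *ᵥ v) u = pol Q (hf'.adj θ *ᵥ u) v := by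
      rw [pol_comm (hf'.adj θ *ᵥ u) v]
      exact hf'.adj_spec θ v u
    rw [h1]
    have h3 : pol Q u v = pol Q (θ *ᵥ u) v + pol Q (hf'.adj θ *ᵥ u) v := by
      rw [← pol_add_left hQ, ← Matrix.add_mulVec, hsum, Matrix.one_mulVec]
    rw [h3]; ring
  have hp' : QuadraticMap.polar Q' = QuadraticMap.polar Q := funext fun u => funext fun v => hp u v
  have hQ' : Geo.IsNondegenerateQuadraticForm Q' := by
    refine ⟨fun c v => ?_, hp' ▸ hQ.polar_bilinear, hp' ▸ hQ.nondegenerate⟩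
    show pol Q (θ *ᵥ (c • v)) (c • v) = c ^ 2 * pol Q (θ *ᵥ v) v
    rw [Matrix.mulVec_smul, pol_smul_left hQ, pol_smul_right hQ]; ring
  have hsim : H ≤ Geo.similarityGroup (QuadraticMap.polar Q) := fun g hg => ⟨1, fun u v => by
    rw [Units.val_one, one_mul]
    exact pol_mv hQ (hiso hg) u v⟩
  have hinv : ∀ g ∈ H, ∀ v, Q' (mv g v) = Q' v := by
    intro g hg v
    set θ' := cj g⁻¹ θ with hθ'
    have hθ'K : θ' ∈ K := by
      rw [hθ', cj_apply]
      exact ((hN (inv_mem hg)) θ).1 hθK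
    have hsum' : θ' + hf'.adj θ' = 1 := by
      rw [hθ', hf'.adj_cj (hsim (inv_mem hg)), ← map_add, hsum, map_one]
    obtain ⟨d, hd⟩ := hS (θ' - θ) (sub_mem hθ'K hθK) (by
      rw [sub_eq_add_neg, hf'.adj_add, hf'.adj_neg, eq_sub_of_add_eq' hsum', eq_sub_of_add_eq' hsum,
        hneg, hneg, sub_eq_add_neg, sub_eq_add_neg, hneg, hneg]
      have h11 : (1 : Matrix ι ι F) + 1 = 0 := by
        nth_rw 2 [← hneg 1]; rw [add_neg_cancel]
      calc 1 + θ' + (1 + θ) = (1 + 1) + (θ' + θ) := by abel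
        _ = θ' + θ := by rw [h11, zero_add])
    have hgθ : θ *ᵥ mv g v = mv g (θ' *ᵥ v) := by
      show θ *ᵥ ((g : Matrix ι ι F) *ᵥ v) = (g : Matrix ι ι F) *ᵥ (θ' *ᵥ v)
      rw [Matrix.mulVec_mulVec, Matrix.mulVec_mulVec, hθ', cj_apply, inv_inv, ← mul_assoc,
        ← mul_assoc, Units.mul_inv, one_mul]
    show pol Q (θ *ᵥ mv g v) (mv g v) = pol Q (θ *ᵥ v) v
    rw [hgθ, pol_mv hQ (hiso hg), show θ' = θ + d • 1 by rw [← hd, add_sub_cancel], Matrix.add_mulVec,
      pol_add_left hQ, Matrix.smul_mulVec d (1 : Matrix ι ι F) v, Matrix.one_mulVec, pol_smul_left hQ, halt, mul_zero, add_zero]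
  have hQQ : Q' = Q := quad_unique h2 hirr hn hQ' hQ hp hinv fun g hg v => mem_isometry.1 (hiso hg) v
  have he : Q' (k *ᵥ v) = c * Q' v := by
    show pol Q (θ *ᵥ (k *ᵥ v)) (k *ᵥ v) = c * pol Q (θ *ᵥ v) v
    rw [← hnorm, Matrix.mulVec_mulVec v θ k, hK.comm θ hθK k hk, ← Matrix.mulVec_mulVec]
  rwa [hQQ] at he

omit [Fintype F] in
/-- Dimension ten of plus type carries no hermitian structure. -/
theorem no_unitary_plus (hplus : Geo.IsPlusTypeOn Q ⊤) (hn : Fintype.card ι = 10) (hK : Geo.IsFieldSubalgebra 2 K)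
    (hadj : Geo.IsAdjointClosedFor (QuadraticMap.polar Q) K)
    (hnorm : ∀ k ∈ K, ∃ c : F, ∀ v : ι → F, Q (k *ᵥ v) = c * Q v) : False := by
  classical
  have hgrow : ∀ j : ℕ, j ≤ 3 → ∃ X : Submodule F (ι → F), (∀ k ∈ K, ∀ x ∈ X, k *ᵥ x ∈ X) ∧
      Geo.IsTotallySingularQuad Q X ∧ Module.finrank F X = 2 * j := by
    intro j
    induction j with
    | zero =>
      exact fun _ => ⟨⊥, fun k _ x hx => by rw [(Submodule.mem_bot F).1 hx, Matrix.mulVec_zero]; exact zero_mem _,
        fun x hx => by rw [(Submodule.mem_bot F).1 hx, q_zero hQ], finrank_bot F (ι → F)⟩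
    | succ j ih =>
      intro hj
      obtain ⟨X, hst, hX, hXd⟩ := ih (by omega)
      obtain ⟨U, hXU, hU, hUd⟩ := exists_max_over hQ hplus hX
      obtain ⟨u, hu, huX⟩ := SetLike.exists_of_lt (lt_of_le_of_ne hXU fun h => by
        rw [← h, hXd] at hUd; omega)
      let L : K →ₗ[F] (ι → F) :=
        { toFun := fun k => k.1 *ᵥ u
          map_add' := fun a b => Matrix.add_mulVec _ _ _
          map_smul' := fun c a => Matrix.smul_mulVec c a.1 u }
      have hk : ∀ k : K, L k ∈ X → k = 0 := fun k hk => by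
        by_contra hne
        obtain ⟨y, hy, hky⟩ := hK.inv k.1 k.2 fun e => hne (Subtype.ext e)
        refine huX ?_
        have h := hst y hy _ hk
        rwa [show L k = k.1 *ᵥ u from rfl, Matrix.mulVec_mulVec, hK.comm y hy k.1 k.2, hky,
          Matrix.one_mulVec] at h
      have hL : Geo.IsTotallySingularQuad Q (LinearMap.range L) := by
        rintro _ ⟨k, rfl⟩
        obtain ⟨c, hc⟩ := hnorm k.1 k.2
        exact (hc u).trans (by rw [hU u hu, mul_zero])
      refine ⟨X ⊔ LinearMap.range L, ?_, ts_sup hQ hX hL ?_, ?_⟩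
      · intro k hkK x hx
        obtain ⟨a, ha, _, ⟨l, rfl⟩, rfl⟩ := Submodule.mem_sup.1 hx
        rw [Matrix.mulVec_add]
        refine add_mem (Submodule.mem_sup_left (hst k hkK a ha))
          (Submodule.mem_sup_right ⟨⟨k * l.1, mul_mem hkK l.2⟩, ?_⟩)
        exact (Matrix.mulVec_mulVec _ _ _).symm
      · rintro x hx _ ⟨k, rfl⟩
        obtain ⟨k', hk', hkk⟩ := hadj k.1 k.2
        show pol Q x (k.1 *ᵥ u) = 0
        rw [pol_comm]
        exact (hkk u x).trans (ts_pol hQ hU hu (hXU (hst k' hk' x hx)))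
      · have hcap : X ⊓ LinearMap.range L = ⊥ := (Submodule.eq_bot_iff _).2 fun x hx => by
          obtain ⟨k, rfl⟩ := hx.2
          rw [hk k hx.1, map_zero]
        have h := Submodule.finrank_sup_add_finrank_inf_eq X (LinearMap.range L)
        rw [hcap, finrank_bot, LinearMap.finrank_range_of_inj ((injective_iff_map_eq_zero L).2 fun k hk0 =>
          hk k (by rw [hk0]; exact zero_mem _)), hK.finrank_eq, hXd] at h
        omega
  obtain ⟨X, -, hX, hXd⟩ := hgrow 3 le_rfl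
  obtain ⟨U, hXU, -, hUd⟩ := exists_max_over hQ hplus hX
  have := Submodule.finrank_mono hXU
  omega

end Cfsg.Agent.OrthEvenMax
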