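/-
Quintic fields in dimension ten give quadratic hermitian structures.
-/
import Cfsg.Agent.Lib.OrthEvenMax.TenField
import Cfsg.Agent.Lib.OrthEvenMax.Blocks
import Cfsg.Agent.Lib.LinearBlock.EvenForms
import Mathlib.FieldTheory.Minpoly.Field

set_option autoImplicit false
set_option linter.style.haveILetI false

namespace Cfsg.Agent.OrthEvenMax

open scoped Matrix
open Matrix Cfsg.Agent.Transvec Cfsg.Agent.Transvec.Orth Cfsg.Agent.Aschbacher

variable {ι : Type} [Fintype ι] [DecidableEq ι] {F : Type*} [Field F] [Fintype F] {Q : (ι → F) → F}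
  {H : Subgroup (GL ι F)} {K : Subalgebra F (Matrix ι ι F)}

/-- An element with no root of t² + t + η. -/
theorem exists_no_root : ∃ η : F, ∀ t : F, t ^ 2 + t + η ≠ 0 := by
  have hni : ¬ Function.Injective (fun t : F => t ^ 2 + t) := fun h => by
    have : (-1 : F) = 0 := h (show (-1 : F) ^ 2 + -1 = 0 ^ 2 + 0 by ring)
    exact neg_ne_zero.2 one_ne_zero this
  rw [Finite.injective_iff_surjective] at hni
  simp only [Function.Surjective, not_forall, not_exists] at hni
  obtain ⟨z, hz⟩ := hni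
  exact ⟨-z, fun t e => hz t (by linear_combination e)⟩

omit [Fintype F] in
/-- No root appears in an extension of odd degree. -/
theorem no_root_ext {L : Type*} [Field L] [Algebra F L] [FiniteDimensional F L] (hodd : Odd (Module.finrank F L))
    {η : F} (hη : ∀ t : F, t ^ 2 + t + η ≠ 0) (t : L) : t ^ 2 + t + algebraMap F L η ≠ 0 := by
  intro ht
  let p : Polynomial F := Polynomial.X ^ 2 + Polynomial.X + Polynomial.C η
  have hp : Polynomial.aeval t p = 0 := by simpa [p] using ht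
  have hpd : p.natDegree = 2 := by simp only [p]; compute_degree!
  have hp0 : p ≠ 0 := fun h => by rw [h, Polynomial.natDegree_zero] at hpd; omega
  have hle : (minpoly F t).natDegree ≤ 2 := hpd ▸ Polynomial.natDegree_le_of_dvd (minpoly.dvd F t hp) hp0
  have hpos : 0 < (minpoly F t).natDegree := minpoly.natDegree_pos (IsIntegral.of_finite F t)
  have hdvd : (minpoly F t).natDegree ∣ Module.finrank F L := minpoly.degree_dvd (IsIntegral.of_finite F t)
  have h1 : (minpoly F t).natDegree = 1 := by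
    rcases (show (minpoly F t).natDegree = 1 ∨ (minpoly F t).natDegree = 2 by omega) with h | h
    · exact h
    · rw [h] at hdvd
      exact absurd (even_iff_two_dvd.2 hdvd) (Nat.not_even_iff_odd.2 hodd)
  obtain ⟨s, rfl⟩ := minpoly.natDegree_eq_one_iff.1 h1
  rw [← map_pow, ← map_add, ← map_add, map_eq_zero] at ht
  exact hη s ht

variable (hQ : Geo.IsNondegenerateQuadraticForm Q)
include hQ

/-- A quintic field in dimension ten: either an invariant singular half, or a quadratic hermitian structure. -/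
theorem quintic (hirr : Geo.ActsIrreducibly (Geo.matrixSet H)) (hH : H ≤ Geo.omegaGL Q)
    (hn : Fintype.card ι = 10) (hK : Geo.IsFieldSubalgebra 5 K)
    (hadj : Geo.IsAdjointClosedFor (QuadraticMap.polar Q) K) (hN : H ≤ Geo.subalgebraNormalizer K) :
    ∃ K₂ : Subalgebra F (Matrix ι ι F), Geo.IsFieldSubalgebra 2 K₂ ∧
      Geo.IsAdjointClosedFor (QuadraticMap.polar Q) K₂ ∧ ¬ Geo.IsSelfAdjointFor (QuadraticMap.polar Q) K₂ ∧
      H ≤ Geo.subalgebraNormalizer K₂ := by
  classical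
  haveI : Nonempty ι := Fintype.card_pos_iff.1 (by omega)
  have hiso : H ≤ isometryGroup F Q := hH.trans (omega_le_isometry hQ)
  have hisoQ : ∀ g ∈ H, ∀ v, Q (mv g v) = Q v := fun g hg => mem_isometry.1 (hiso hg)
  have hf := polarHerm hQ
  have hsa : Geo.IsSelfAdjointFor (QuadraticMap.polar Q) K :=
    hf.selfAdjoint_of_adj fun x hx => adj_eq_self_of_odd hf hK hadj (by decide) hx
  have hsa' : ∀ k ∈ K, ∀ u v : ι → F, pol Q (k *ᵥ u) v = pol Q u (k *ᵥ v) := hsa
  have hkinv : ∀ k ∈ K, k ≠ 0 → ∀ v : ι → F, k *ᵥ v = 0 → v = 0 := by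
    intro k hk hk0 v hv
    obtain ⟨y, hy, hky⟩ := hK.inv k hk hk0
    rw [← Matrix.one_mulVec v, ← hky, hK.comm k hk y hy, ← Matrix.mulVec_mulVec, hv, Matrix.mulVec_zero]
  let orbit : (ι → F) → (K →ₗ[F] (ι → F)) := fun v =>
    { toFun := fun k => k.1 *ᵥ v
      map_add' := fun a b => Matrix.add_mulVec _ _ _
      map_smul' := fun c a => Matrix.smul_mulVec c a.1 v }
  have horbit : ∀ v : ι → F, v ≠ 0 → Module.finrank F (LinearMap.range (orbit v)) = 5 := fun v hv => by
    rw [LinearMap.finrank_range_of_inj ((injective_iff_map_eq_zero (orbit v)).2 fun k hk => ?_), hK.finrank_eq]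
    by_contra hne
    exact hv (hkinv k.1 k.2 (fun e => hne (Subtype.ext e)) v hk)
  have hconj : ∀ g ∈ H, ∀ k ∈ K, ((g⁻¹ : GL ι F) : Matrix ι ι F) * k * (g : Matrix ι ι F) ∈ K := by
    intro g hg k hk
    have h := ((hN (inv_mem hg)) k).1 hk
    rwa [inv_inv] at h
  by_cases haniso : ∃ v : ι → F, v ≠ 0 ∧ ∀ k ∈ K, Q (k *ᵥ v) = 0
  · -- an invariant half
    exfalso
    obtain ⟨v, hv, hvK⟩ := haniso
    set U := LinearMap.range (orbit v) with hUdef
    have hU : Geo.IsTotallySingularQuad Q U := by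
      rintro _ ⟨k, rfl⟩
      exact hvK k.1 k.2
    have hUd : Module.finrank F U = 5 := horbit v hv
    have hinv : ∀ s ∈ Geo.matrixSet H, U.map (Matrix.toLin' s) ≤ U := by
      rintro _ ⟨g, hg, rfl⟩
      set U' := LinearMap.range (orbit (mv g v)) with hU'def
      have hsub : U.map (mvLin g) ≤ U' := by
        rintro _ ⟨_, ⟨k, rfl⟩, rfl⟩
        refine ⟨⟨_, ((hN hg) k.1).1 k.2⟩, ?_⟩
        show ((g : Matrix ι ι F) * k.1 * ((g⁻¹ : GL ι F) : Matrix ι ι F)) *ᵥ ((g : Matrix ι ι F) *ᵥ v)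
          = mv g (k.1 *ᵥ v)
        rw [Matrix.mulVec_mulVec, mul_assoc, Units.inv_mul, mul_one, ← Matrix.mulVec_mulVec]
      have hgv : mv g v ≠ 0 := fun h => hv (by simpa [h] using (mv_inv_mv g v).symm)
      have heq : U.map (mvLin g) = U' := Submodule.eq_of_le_of_finrank_le hsub (by
        rw [horbit _ hgv, finrank_map_mv, hUd])
      by_cases hcap : U ⊓ U' = ⊥
      · exact absurd heq (not_swap hQ (by omega) hU (by rw [hUd, hn]) (by rw [hUd]; decide) hcap (hH hg))
      obtain ⟨x, ⟨⟨k, hk⟩, ⟨k', hk'⟩⟩, hx0⟩ := (Submodule.ne_bot_iff _).1 hcap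
      replace hk : k.1 *ᵥ v = x := hk
      replace hk' : k'.1 *ᵥ mv g v = x := hk'
      obtain ⟨y, hy, hky⟩ := hK.inv k'.1 k'.2 fun e => hx0 (by rw [← hk', e, Matrix.zero_mulVec])
      have hgU : mv g v ∈ U := ⟨⟨y * k.1, mul_mem hy k.2⟩, by
        show (y * k.1) *ᵥ v = mv g v
        rw [← Matrix.mulVec_mulVec, hk, ← hk', Matrix.mulVec_mulVec, hK.comm y hy k'.1 k'.2, hky, Matrix.one_mulVec]⟩
      obtain ⟨k₁, hk₁⟩ := hgU
      replace hk₁ : k₁.1 *ᵥ v = mv g v := hk₁
      have hle : U' ≤ U := by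
        rintro _ ⟨l, rfl⟩
        refine ⟨l * k₁, ?_⟩
        show (l.1 * k₁.1) *ᵥ v = l.1 *ᵥ mv g v
        rw [← Matrix.mulVec_mulVec, hk₁]
      rintro _ ⟨z, hz, rfl⟩
      exact hle (heq.le ⟨z, hz, rfl⟩)
    rcases hirr U hinv with h | h
    · rw [h, finrank_bot] at hUd; omega
    · rw [h, finrank_top, Module.finrank_pi, hn] at hUd; omega
  -- the anisotropic case
  push Not at haniso
  letI := fieldOf hK
  haveI : FiniteDimensional F K := inferInstance
  obtain ⟨l, hl0⟩ : ∃ l : K →ₗ[F] F, l 1 ≠ 0 := by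
    by_contra hc
    push Not at hc
    exact one_ne_zero ((Module.forall_dual_apply_eq_zero_iff F (1 : K)).1 hc)
  let Ψ₀ : K →ₗ[F] Module.Dual F K := (LinearMap.mul F K).compr₂ l
  have hΨ₀ : ∀ a k : K, Ψ₀ a k = l (a * k) := fun a k => rfl
  have hΨinj : Function.Injective Ψ₀ := (injective_iff_map_eq_zero Ψ₀).2 fun a ha => by
    by_contra hne
    apply hl0
    rw [← mul_inv_cancel₀ hne, ← hΨ₀, ha, LinearMap.zero_apply]
  let Ψ := LinearMap.linearEquivOfInjective Ψ₀ hΨinj Subspace.dual_finrank_eq.symm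
  have hΨ : ∀ a k : K, Ψ a k = l (a * k) := fun a k => by
    rw [LinearMap.linearEquivOfInjective_apply, hΨ₀]
  have hext : ∀ a b : K, (∀ k, l (k * a) = l (k * b)) → a = b := fun a b h => hΨinj (LinearMap.ext fun k => by
    rw [hΨ₀, hΨ₀, mul_comm a, mul_comm b, h])
  -- the bilinear form over K
  let m : (ι → F) → (ι → F) → Module.Dual F K := fun u w =>
    { toFun := fun k => pol Q (k.1 *ᵥ u) w
      map_add' := fun a b => by
        show pol Q ((a.1 + b.1) *ᵥ u) w = _
        rw [Matrix.add_mulVec, pol_add_left hQ]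
      map_smul' := fun c a => by
        show pol Q ((c • a.1) *ᵥ u) w = _
        rw [Matrix.smul_mulVec, pol_smul_left hQ]; rfl }
  let φ : (ι → F) → (ι → F) → K := fun u w => Ψ.symm (m u w)
  have hφ : ∀ u w (k : K), l (k * φ u w) = pol Q (k.1 *ᵥ u) w := fun u w k => by
    rw [mul_comm, ← hΨ, LinearEquiv.apply_symm_apply]
    rfl
  have hφsymm : ∀ u w, φ u w = φ w u := fun u w => hext _ _ fun k => by
    rw [hφ, hφ, hsa' _ k.2, pol_comm]
  have hφl : ∀ (a : K) u w, φ (a.1 *ᵥ u) w = a * φ u w := fun a u w => hext _ _ fun k => by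
    rw [hφ, ← mul_assoc, hφ, Matrix.mulVec_mulVec]
    rfl
  have hφr : ∀ (a : K) u w, φ u (a.1 *ᵥ w) = a * φ u w := fun a u w => by
    rw [hφsymm, hφl, hφsymm w u]
  have hφadd : ∀ u w w', φ u (w + w') = φ u w + φ u w' := fun u w w' => hext _ _ fun k => by
    rw [hφ, mul_add, map_add, hφ, hφ, pol_add_right hQ]
  have hφnd : ∀ u, (∀ w, φ u w = 0) → u = 0 := fun u h => nondeg_top hQ u Submodule.mem_top fun w _ => by
    have h1 := hφ u w 1
    rw [h w, mul_zero, map_zero, show ((1 : K) : Matrix ι ι F) = 1 from rfl, Matrix.one_mulVec] at h1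
    rw [pol_comm, ← h1]
  have hsq : ∀ a b : K, (∀ d : K, l (d ^ 2 * a) = l (d ^ 2 * b)) → a = b := by
    intro a b h
    refine hext _ _ fun k => ?_
    by_cases h2 : (2 : F) = 0
    · haveI : CharP F 2 := CharTwo.of_one_ne_zero_of_two_eq_zero one_ne_zero h2
      haveI : CharP K 2 := charP_of_injective_algebraMap (algebraMap F K).injective 2
      haveI : Fintype K := Fintype.ofFinite K
      obtain ⟨d, hd⟩ := (bijective_frobenius K 2).surjective k
      rw [← hd, frobenius_def]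
      exact h d
    · have h' : l ((4 : F) • (k * a)) = l ((4 : F) • (k * b)) := by
        have e : ∀ c : K, (4 : F) • (k * c) = (k + 1) ^ 2 * c - (k - 1) ^ 2 * c := fun c => by
          rw [Algebra.smul_def, map_ofNat]; ring
        rw [e, e, map_sub, map_sub, h, h]
      rw [map_smul, map_smul, smul_eq_mul, smul_eq_mul] at h'
      exact mul_left_cancel₀ (by
        rw [show (4 : F) = 2 * 2 by norm_num]
        exact mul_ne_zero h2 h2) h'
  -- the quadratic form over K
  obtain ⟨θ, hθ⟩ : ∃ θ : (ι → F) → K, ∀ v (d : K), l (d ^ 2 * θ v) = Q (d.1 *ᵥ v) := by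
    by_cases h2 : (2 : F) = 0
    · haveI : CharP F 2 := CharTwo.of_one_ne_zero_of_two_eq_zero one_ne_zero h2
      haveI : CharP K 2 := charP_of_injective_algebraMap (algebraMap F K).injective 2
      haveI : Fintype K := Fintype.ofFinite K
      let e : K ≃+* K := RingEquiv.ofBijective (frobenius K 2) (bijective_frobenius K 2)
      let e' : F ≃+* F := RingEquiv.ofBijective (frobenius F 2) (bijective_frobenius F 2)
      have he : ∀ k : K, (e.symm k) ^ 2 = k := fun k => e.apply_symm_apply k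
      have he' : ∀ c : F, (e'.symm c) ^ 2 = c := fun c => e'.apply_symm_apply c
      have halt : ∀ k ∈ K, ∀ v : ι → F, pol Q (k *ᵥ v) v = 0 := fun k hk v =>
        alternating_of_selfAdjoint (symplectic_of_two hQ h2) hK hsa hk v
      let M : (ι → F) → Module.Dual F K := fun v =>
        { toFun := fun k => Q ((e.symm k).1 *ᵥ v)
          map_add' := fun a b => by
            rw [map_add]
            show Q (((e.symm a).1 + (e.symm b).1) *ᵥ v) = _
            rw [Matrix.add_mulVec, q_add hQ, hsa' _ (e.symm a).2, Matrix.mulVec_mulVec, pol_comm,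
              halt _ (mul_mem (e.symm a).2 (e.symm b).2), add_zero]
          map_smul' := fun c a => by
            have : e.symm (c • a) = e'.symm c • e.symm a := e.injective (by
              rw [RingEquiv.apply_symm_apply]
              show c • a = (e'.symm c • e.symm a) ^ 2
              rw [smul_pow, he, he'])
            rw [this]
            show Q ((e'.symm c • (e.symm a).1) *ᵥ v) = c * _
            rw [Matrix.smul_mulVec, q_smul hQ, he'] }
      refine ⟨fun v => Ψ.symm (M v), fun v d => ?_⟩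
      rw [mul_comm, ← hΨ, LinearEquiv.apply_symm_apply]
      show Q ((e.symm (d ^ 2)).1 *ᵥ v) = _
      rw [show e.symm (d ^ 2) = d from e.injective (by rw [RingEquiv.apply_symm_apply]; rfl)]
    · refine ⟨fun v => (2⁻¹ : F) • φ v v, fun v d => ?_⟩
      rw [mul_smul_comm, map_smul, hφ, smul_eq_mul, show ((d ^ 2 : K) : Matrix ι ι F) = d.1 * d.1 from sq (d.1),
        ← Matrix.mulVec_mulVec, hsa' _ d.2, pol_self hQ, ← mul_assoc, inv_mul_cancel₀ h2, one_mul]
  have hθQ : ∀ v, Q v = l (θ v) := fun v => by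
    have h := hθ v 1
    rw [one_pow, one_mul, show ((1 : K) : Matrix ι ι F) = 1 from rfl, Matrix.one_mulVec] at h
    exact h.symm
  have hθs : ∀ (a : K) v, θ (a.1 *ᵥ v) = a ^ 2 * θ v := fun a v => hsq _ _ fun d => by
    rw [hθ, ← mul_assoc, ← mul_pow, hθ, Matrix.mulVec_mulVec]
    rfl
  have hθadd : ∀ u w, θ (u + w) = θ u + θ w + φ u w := fun u w => hsq _ _ fun d => by
    rw [hθ, mul_add, mul_add, map_add, map_add, hθ, hθ, hφ, Matrix.mulVec_add, q_add hQ,
      show ((d ^ 2 : K) : Matrix ι ι F) = d.1 * d.1 from sq (d.1), ← Matrix.mulVec_mulVec, hsa' d.1 d.2 (d.1 *ᵥ u)]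
  have hθzero : ∀ v, θ v = 0 → v = 0 := fun v hv => by
    by_contra hne
    obtain ⟨k, hk, hkQ⟩ := haniso v hne
    exact hkQ (by rw [← hθ v ⟨k, hk⟩, hv, mul_zero, map_zero])
  have hφself : ∀ v, φ v v = 2 * θ v := fun v => by
    have h := hθadd v v
    have h' : θ (v + v) = (2 : K) ^ 2 * θ v := by
      rw [← hθs, show ((2 : K) : Matrix ι ι F) *ᵥ v = v + v by
        rw [show (2 : K) = 1 + 1 by norm_num]
        show ((1 : Matrix ι ι F) + 1) *ᵥ v = v + v
        rw [Matrix.add_mulVec, Matrix.one_mulVec]]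
    linear_combination h' - h
  -- coordinates
  obtain ⟨x, hx⟩ := exists_ne (0 : ι → F)
  set a := θ x with hadef
  have ha : a ≠ 0 := fun h => hx (hθzero x h)
  obtain ⟨y, hxy, hyK⟩ : ∃ y, φ x y = a ∧ ∀ k : K, y ≠ k.1 *ᵥ x := by
    by_cases h2 : (2 : K) = 0
    · obtain ⟨w, hw⟩ : ∃ w, φ x w ≠ 0 := by
        by_contra hc
        push Not at hc
        exact hx (hφnd x hc)
      refine ⟨(a / φ x w).1 *ᵥ w, by rw [hφr, div_mul_cancel₀ a hw], fun k hk => ?_⟩
      have h1 : φ x ((a / φ x w).1 *ᵥ w) = a := by rw [hφr, div_mul_cancel₀ a hw]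
      rw [hk, hφr, hφself, h2, zero_mul, mul_zero] at h1
      exact ha h1.symm
    · obtain ⟨w, -, hw⟩ := SetLike.exists_of_lt (lt_of_le_of_ne (le_top : LinearMap.range (orbit x) ≤ ⊤) fun h => by
        have h' := horbit x hx
        rw [h, finrank_top, Module.finrank_pi, hn] at h'
        omega)
      refine ⟨w + ((a - φ x w) / (2 * a)).1 *ᵥ x, ?_, fun k hk => hw ⟨k - (a - φ x w) / (2 * a), ?_⟩⟩
      · rw [hφadd, hφr, hφself, ← hadef]
        field_simp
        ring
      · show ((k.1 - ((a - φ x w) / (2 * a)).1) *ᵥ x) = w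
        rw [Matrix.sub_mulVec, ← hk, add_sub_cancel_right]
  let Φ : K × K →ₗ[F] (ι → F) := (orbit x).coprod (orbit y)
  have hΦ : ∀ z : K × K, Φ z = z.1.1 *ᵥ x + z.2.1 *ᵥ y := fun z => rfl
  have hΦinj : Function.Injective Φ := (injective_iff_map_eq_zero Φ).2 fun z hz => by
    rw [hΦ] at hz
    have h2 : z.2 = 0 := by
      by_contra hne
      refine hyK (-(z.2⁻¹ * z.1)) ?_
      show y = (-(z.2⁻¹.1 * z.1.1)) *ᵥ x
      rw [Matrix.neg_mulVec, ← Matrix.mulVec_mulVec, eq_neg_of_add_eq_zero_left hz, Matrix.mulVec_neg, neg_neg,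
        Matrix.mulVec_mulVec, show z.2⁻¹.1 * z.2.1 = 1 from congrArg Subtype.val (inv_mul_cancel₀ hne),
        Matrix.one_mulVec]
    refine Prod.ext ?_ h2
    by_contra hne
    rw [h2, show ((0 : K) : Matrix ι ι F) = 0 from rfl, Matrix.zero_mulVec, add_zero] at hz
    exact hx (hkinv _ z.1.2 (fun e => hne (Subtype.ext e)) x hz)
  set ε := θ y / a with hεdef
  have hθΦ : ∀ b c : K, θ (Φ (b, c)) = a * (b ^ 2 + b * c + ε * c ^ 2) := fun b c => by
    rw [hΦ, hθadd, hθs, hθs, hφl, hφr, hxy, hεdef, ← hadef]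
    field_simp
    ring
  have hε : ∀ t : K, t ^ 2 + t + ε ≠ 0 := fun t ht => by
    have h : Φ (t, 1) = 0 := hθzero _ (by rw [hθΦ, mul_one, one_pow, mul_one, ht, mul_zero])
    exact one_ne_zero (congrArg Prod.snd (hΦinj (h.trans (map_zero Φ).symm)))
  obtain ⟨η, hη⟩ := exists_no_root (F := F)
  have hη' : ∀ t : K, t ^ 2 + t + algebraMap F K η ≠ 0 := no_root_ext (by rw [hK.finrank_eq]; decide) hη
  set e := algebraMap F K η with hedef
  obtain ⟨g₀, hg₀⟩ := LBEven.bin_iso hε hη'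
  let Φ' : (Fin 2 → K) →ₗ[F] (ι → F) := Φ.comp
    (((LinearMap.proj 0).prod (LinearMap.proj 1)).comp (g₀.toLinearMap.restrictScalars F))
  have hΦ'a : ∀ z, Φ' z = Φ (g₀ z 0, g₀ z 1) := fun z => rfl
  have hΦ'inj : Function.Injective Φ' := (injective_iff_map_eq_zero Φ').2 fun z hz => by
    have h := (injective_iff_map_eq_zero Φ).1 hΦinj _ ((hΦ'a z).symm.trans hz)
    refine g₀.injective ?_
    rw [map_zero]
    funext i
    fin_cases i
    · exact congrArg Prod.fst h
    · exact congrArg Prod.snd h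
  have hΦ'surj : Function.Surjective Φ' := (LinearMap.injective_iff_surjective_of_finrank_eq_finrank (by
    rw [Module.finrank_pi_fintype F, Module.finrank_pi, hn]
    simp [hK.finrank_eq])).1 hΦ'inj
  let E := LinearEquiv.ofBijective Φ' ⟨hΦ'inj, hΦ'surj⟩
  have hq : ∀ z, θ (Φ' z) = a * (z 0 ^ 2 + z 0 * z 1 + e * z 1 ^ 2) := fun z => by
    rw [hΦ'a, hθΦ]
    have h := hg₀ z
    rw [Orth.qBin_apply, Orth.qBin_apply] at h
    linear_combination (-a) * h
  have hΦ's : ∀ (k : K) z, Φ' (k • z) = k.1 *ᵥ Φ' z := fun k z => by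
    rw [hΦ'a, hΦ'a, map_smul, hΦ, hΦ, Matrix.mulVec_add, Matrix.mulVec_mulVec, Matrix.mulVec_mulVec]
    rfl
  let J₀ : (Fin 2 → K) →ₗ[F] (Fin 2 → K) :=
    { toFun := fun z => ![-(e * z 1), z 0 + z 1]
      map_add' := fun z z' => by funext i; fin_cases i <;> simp <;> ring
      map_smul' := fun c z => by
        funext i
        fin_cases i <;> simp [mul_smul_comm, smul_add] }
  set J : Matrix ι ι F := LinearMap.toMatrix' (E.toLinearMap ∘ₗ J₀ ∘ₗ E.symm.toLinearMap) with hJdef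
  have hJ : ∀ z, J *ᵥ Φ' z = Φ' ![-(e * z 1), z 0 + z 1] := fun z => by
    rw [hJdef, ← Matrix.toLin'_apply, Matrix.toLin'_toMatrix']
    show E (J₀ (E.symm (E z))) = _
    rw [LinearEquiv.symm_apply_apply]
    rfl
  have heF : ∀ (v : ι → F), e.1 *ᵥ v = η • v := fun v => by
    show (algebraMap F (Matrix ι ι F) η) *ᵥ v = η • v
    rw [Algebra.algebraMap_eq_smul_one, Matrix.smul_mulVec, Matrix.one_mulVec]
  have hJK : ∀ k ∈ K, k * J = J * k := fun k hk => mulVec_ext fun v => by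
    obtain ⟨z, rfl⟩ := hΦ'surj v
    rw [← Matrix.mulVec_mulVec, ← Matrix.mulVec_mulVec, hJ, ← hΦ's ⟨k, hk⟩, ← hΦ's ⟨k, hk⟩, hJ]
    congr 1
    funext i
    fin_cases i <;> simp <;> ring
  have hJ2 : J * J = J - η • 1 := mulVec_ext fun v => by
    obtain ⟨z, rfl⟩ := hΦ'surj v
    rw [← Matrix.mulVec_mulVec, Matrix.sub_mulVec, Matrix.smul_mulVec, Matrix.one_mulVec, ← heF, hJ, hJ,
      ← hΦ's, ← map_sub]
    congr 1
    funext i
    fin_cases i <;> simp <;> ring
  have hJQ : ∀ v, Q (J *ᵥ v) = η * Q v := fun v => by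
    obtain ⟨z, rfl⟩ := hΦ'surj v
    rw [hθQ, hθQ, hJ, hq, hq]
    refine Eq.trans ?_ (l.map_smul η _)
    rw [Algebra.smul_def, ← hedef]
    congr 1
    simp
    ring
  have hη0 : η ≠ 0 := fun h => hη 0 (by rw [h]; ring)
  have hJpol : ∀ u w, pol Q (J *ᵥ u) (J *ᵥ w) = η * pol Q u w := fun u w => by
    show Q (J *ᵥ u + J *ᵥ w) - Q (J *ᵥ u) - Q (J *ᵥ w) = η * (Q (u + w) - Q u - Q w)
    rw [← Matrix.mulVec_add, hJQ, hJQ, hJQ]; ring
  have hJadj : ∀ u w, pol Q (J *ᵥ u) w = pol Q u ((1 - J) *ᵥ w) := by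
    intro u w
    have hw : J *ᵥ (η⁻¹ • ((1 - J) *ᵥ w)) = w := by
      rw [Matrix.mulVec_smul, Matrix.mulVec_mulVec, mul_sub, mul_one, hJ2, sub_sub_cancel, Matrix.smul_mulVec,
        Matrix.one_mulVec, smul_smul, inv_mul_cancel₀ hη0, one_smul]
    calc pol Q (J *ᵥ u) w = pol Q (J *ᵥ u) (J *ᵥ (η⁻¹ • ((1 - J) *ᵥ w))) := by rw [hw]
      _ = _ := by rw [hJpol, pol_smul_right hQ, ← mul_assoc, mul_inv_cancel₀ hη0, one_mul]
  have hind : ∀ p q : F, p • (1 : Matrix ι ι F) + q • J = 0 → p = 0 ∧ q = 0 := by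
    intro p q h
    have hq0 : q = 0 := by
      by_contra hq0
      have hJs : J = (-(q⁻¹ * p)) • (1 : Matrix ι ι F) := by
        rw [neg_smul, mul_smul, ← smul_neg, ← eq_neg_of_add_eq_zero_right h, smul_smul, inv_mul_cancel₀ hq0,
          one_smul]
      set s := -(q⁻¹ * p)
      have h2 := hJ2
      rw [hJs, smul_mul_assoc, one_mul, smul_smul, ← sub_smul] at h2
      have h3 : s * s = s - η := by
        obtain ⟨i⟩ := (inferInstance : Nonempty ι)
        simpa using congrFun (congrFun h2 i) i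
      exact hη (-s) (by linear_combination h3)
    refine ⟨?_, hq0⟩
    rw [hq0, zero_smul, add_zero] at h
    exact (smul_eq_zero.1 h).resolve_right one_ne_zero
  -- the quadratic subalgebra
  have hmul : ∀ p q p' q' : F, (p • (1 : Matrix ι ι F) + q • J) * (p' • 1 + q' • J)
      = (p * p' - q * q' * η) • (1 : Matrix ι ι F) + (p * q' + q * p' + q * q') • J := by
    intro p q p' q'
    simp only [mul_add, add_mul, smul_mul_assoc, mul_smul_comm, one_mul, mul_one, hJ2]
    module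
  let K₂ : Subalgebra F (Matrix ι ι F) :=
    { carrier := {X | ∃ p q : F, X = p • (1 : Matrix ι ι F) + q • J}
      mul_mem' := by
        rintro _ _ ⟨p, q, rfl⟩ ⟨p', q', rfl⟩
        exact ⟨_, _, hmul p q p' q'⟩
      add_mem' := by
        rintro _ _ ⟨p, q, rfl⟩ ⟨p', q', rfl⟩
        exact ⟨p + p', q + q', by module⟩
      algebraMap_mem' := fun c => ⟨c, 0, by rw [zero_smul, add_zero, Algebra.algebraMap_eq_smul_one]⟩ }
  have hmem : ∀ {X : Matrix ι ι F}, X ∈ K₂ ↔ ∃ p q : F, X = p • (1 : Matrix ι ι F) + q • J := Iff.rfl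
  have hJmem : J ∈ K₂ := hmem.2 ⟨0, 1, by rw [zero_smul, one_smul, zero_add]⟩
  have hK₂ : Geo.IsFieldSubalgebra 2 K₂ := by
    refine ⟨?_, ?_, ?_⟩
    · rintro _ ⟨p, q, rfl⟩ _ ⟨p', q', rfl⟩
      rw [hmul, hmul]
      congr 2 <;> ring
    · rintro _ ⟨p, q, rfl⟩ h0
      have hnz : p ^ 2 + p * q + q ^ 2 * η ≠ 0 := by
        intro h
        rcases eq_or_ne q 0 with hq0 | hq0
        · apply h0
          have hp0 : p = 0 := by
            rw [hq0] at h
            simpa using h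
          rw [hp0, hq0, zero_smul, zero_smul, add_zero]
        · refine hη (p / q) ?_
          field_simp
          linear_combination h
      set N := p ^ 2 + p * q + q ^ 2 * η with hNdef
      refine ⟨((p + q) / N) • 1 + (-q / N) • J, hmem.2 ⟨_, _, rfl⟩, ?_⟩
      rw [hmul, show p * (-q / N) + q * ((p + q) / N) + q * (-q / N) = 0 by field_simp; ring, zero_smul, add_zero,
        show p * ((p + q) / N) - q * (-q / N) * η = 1 by field_simp; rw [hNdef]; ring, one_smul]
    · let ψ : F × F →ₗ[F] Matrix ι ι F := (LinearMap.toSpanSingleton F _ (1 : Matrix ι ι F)).coprod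
        (LinearMap.toSpanSingleton F _ J)
      have hψ : Function.Injective ψ := (injective_iff_map_eq_zero ψ).2 fun z hz => by
        obtain ⟨h1, h2⟩ := hind z.1 z.2 hz
        exact Prod.ext h1 h2
      have hr : Subalgebra.toSubmodule K₂ = LinearMap.range ψ := le_antisymm
        (by rintro _ ⟨p, q, rfl⟩; exact ⟨(p, q), rfl⟩) (by rintro _ ⟨z, rfl⟩; exact hmem.2 ⟨z.1, z.2, rfl⟩)
      rw [show Module.finrank F K₂ = Module.finrank F (Subalgebra.toSubmodule K₂) from rfl, hr,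
        LinearMap.finrank_range_of_inj hψ, Module.finrank_prod, Module.finrank_self]
  have hadj₂ : Geo.IsAdjointClosedFor (QuadraticMap.polar Q) K₂ := by
    rintro _ ⟨p, q, rfl⟩
    refine ⟨(p + q) • 1 + (-q) • J, hmem.2 ⟨_, _, rfl⟩, fun u w => ?_⟩
    show pol Q _ w = pol Q u _
    rw [show ((p + q) • (1 : Matrix ι ι F) + (-q) • J) = p • 1 + q • (1 - J) by module,
      Matrix.add_mulVec, Matrix.add_mulVec, Matrix.smul_mulVec, Matrix.smul_mulVec, Matrix.smul_mulVec,
      Matrix.smul_mulVec, Matrix.one_mulVec, Matrix.one_mulVec, pol_add_left hQ, pol_add_right hQ,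
      pol_smul_left hQ, pol_smul_left hQ, pol_smul_right hQ, pol_smul_right hQ, hJadj]
  have hns₂ : ¬ Geo.IsSelfAdjointFor (QuadraticMap.polar Q) K₂ := by
    intro hs
    have h : (1 : F) • (1 : Matrix ι ι F) + (-2 : F) • J = 0 := mulVec_ext fun w => by
      rw [Matrix.zero_mulVec]
      refine nondeg_top hQ _ Submodule.mem_top fun u _ => ?_
      have h1 : pol Q (J *ᵥ u) w = pol Q u (J *ᵥ w) := hs J hJmem u w
      rw [hJadj, Matrix.sub_mulVec, Matrix.one_mulVec, pol_sub_right hQ] at h1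
      rw [Matrix.add_mulVec, Matrix.smul_mulVec, Matrix.smul_mulVec, Matrix.one_mulVec, one_smul,
        pol_add_right hQ, pol_smul_right hQ]
      linear_combination h1
    exact one_ne_zero (hind _ _ h).1
  refine ⟨K₂, hK₂, hadj₂, hns₂, ?_⟩
  -- uniqueness of the quadratic subalgebra
  have huniq : ∀ X : Matrix ι ι F, (∀ k ∈ K, k * X = X * k) → X * X = X - η • 1 →
      (∀ v, Q (X *ᵥ v) = η * Q v) → X ∈ K₂ := by
    intro X hXK hX2 hXQ
    have hXK' : ∀ (k : K) v, X *ᵥ (k.1 *ᵥ v) = k.1 *ᵥ (X *ᵥ v) := fun k v => by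
      rw [Matrix.mulVec_mulVec, Matrix.mulVec_mulVec, hXK _ k.2]
    have hθX : ∀ v, θ (X *ᵥ v) = e * θ v := fun v => hsq _ _ fun d => by
      rw [hθ, ← hXK', hXQ, ← smul_eq_mul, ← hθ v d, ← map_smul, Algebra.smul_def, ← hedef, mul_left_comm]
    have he0 : e ≠ 0 := by rw [hedef]; exact (map_ne_zero _).2 hη0
    have hθX' : ∀ v, θ ((1 - X) *ᵥ v) = e * θ v := fun v => by
      have h1 : X *ᵥ ((1 - X) *ᵥ v) = e.1 *ᵥ v := by
        rw [Matrix.mulVec_mulVec, mul_sub, mul_one, hX2, sub_sub_cancel, heF, Matrix.smul_mulVec, Matrix.one_mulVec]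
      have h2 := hθX ((1 - X) *ᵥ v)
      rw [h1, hθs] at h2
      refine mul_left_cancel₀ he0 ?_
      linear_combination -h2
    have hφX : ∀ v, φ v (X *ᵥ v) = θ v := fun v => by
      have h := hθadd (X *ᵥ v) ((1 - X) *ᵥ v)
      rw [← Matrix.add_mulVec, add_sub_cancel, Matrix.one_mulVec, hθX, hθX'] at h
      have h' : φ (X *ᵥ v) v = φ (X *ᵥ v) (X *ᵥ v) + φ (X *ᵥ v) ((1 - X) *ᵥ v) := by
        rw [← hφadd, ← Matrix.add_mulVec, add_sub_cancel, Matrix.one_mulVec]
      rw [hφsymm, h', hφself, hθX]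
      linear_combination -h
    set x' := Φ' ![1, 0] with hx'def
    have hx'θ : θ x' = a := by rw [hx'def, hq]; simp
    have hJx' : J *ᵥ x' = Φ' ![0, 1] := by rw [hx'def, hJ]; simp
    obtain ⟨z, hz⟩ := hΦ'surj (X *ᵥ x')
    have h1 : z 0 ^ 2 + z 0 * z 1 + e * z 1 ^ 2 = e := by
      refine mul_left_cancel₀ ha ?_
      rw [← hq, hz, hθX, hx'θ, mul_comm]
    have h2 : 2 * z 0 + z 1 = 1 := by
      refine mul_left_cancel₀ ha ?_
      have h := hθadd x' (Φ' z)
      rw [hz, hφX, hθX, hx'θ, ← hz, hx'def, ← map_add, hq] at h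
      simp only [Pi.add_apply, Matrix.cons_val_zero, Matrix.cons_val_one] at h
      linear_combination h - a * h1
    have h4 : (1 : K) - 4 * e ≠ 0 := by
      intro h
      by_cases hc : (2 : K) = 0
      · exact one_ne_zero (α := K) (by linear_combination h + 2 * e * hc)
      · refine hη' (-1 / 2) ?_
        field_simp
        linear_combination -h
    have h01 : z 0 = 0 ∨ z 0 = 1 := by
      have h3 : z 0 * (1 - z 0) * (1 - 4 * e) = 0 := by
        have e1 : z 1 = 1 - 2 * z 0 := by linear_combination h2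
        rw [e1] at h1
        linear_combination h1
      rcases mul_eq_zero.1 ((mul_eq_zero.1 h3).resolve_right h4) with h | h
      · exact Or.inl h
      · exact Or.inr (by linear_combination -h)
    suffices key : ∀ Y : Matrix ι ι F, (∀ k ∈ K, k * Y = Y * k) → Y * Y = Y - η • 1 →
        X *ᵥ x' = Y *ᵥ x' → J *ᵥ x' ∈ ({Y *ᵥ x', x' - Y *ᵥ x'} : Set (ι → F)) → X = Y by
      rcases h01 with hb | hb
      · have hc : z 1 = 1 := by linear_combination h2 - 2 * hb
        have hXx : X *ᵥ x' = J *ᵥ x' := by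
          rw [← hz, hJx']
          congr 1
          funext i
          fin_cases i <;> simp [hb, hc]
        rw [key J hJK hJ2 hXx (Or.inl rfl)]
        exact hJmem
      · have hc : z 1 = -1 := by linear_combination h2 - 2 * hb
        have hXx : X *ᵥ x' = (1 - J) *ᵥ x' := by
          rw [← hz, Matrix.sub_mulVec, Matrix.one_mulVec, hJx', hx'def, ← map_sub]
          congr 1
          funext i
          fin_cases i <;> simp [hb, hc]
        rw [key (1 - J) (fun k hk => by rw [mul_sub, sub_mul, mul_one, one_mul, hJK k hk]) ?_ hXx ?_]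
        · exact hmem.2 ⟨1, -1, by module⟩
        · rw [show (1 - J) * (1 - J) = 1 - J - J + J * J by noncomm_ring, hJ2]
          abel
        · right
          rw [Set.mem_singleton_iff, Matrix.sub_mulVec, Matrix.one_mulVec, sub_sub_cancel]
    intro Y hYK hY2 hXY hmemJ
    have hXJ : X *ᵥ (J *ᵥ x') = Y *ᵥ (J *ᵥ x') := by
      have hYY : X *ᵥ (Y *ᵥ x') = Y *ᵥ (Y *ᵥ x') := by
        rw [← hXY, Matrix.mulVec_mulVec, hX2, hXY, Matrix.mulVec_mulVec, hY2, Matrix.sub_mulVec,
          Matrix.sub_mulVec, hXY]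
      rcases hmemJ with h | h
      · rw [h]; exact hYY
      · rw [Set.mem_singleton_iff.1 h, Matrix.mulVec_sub, Matrix.mulVec_sub, hXY, hYY]
    refine mulVec_ext fun v => ?_
    obtain ⟨w, rfl⟩ := hΦ'surj v
    have hw : Φ' w = (w 0).1 *ᵥ x' + (w 1).1 *ᵥ (J *ᵥ x') := by
      rw [hJx', hx'def, ← hΦ's, ← hΦ's, ← map_add]
      congr 1
      funext i
      fin_cases i <;> simp
    have hYK' : ∀ (k : K) u, Y *ᵥ (k.1 *ᵥ u) = k.1 *ᵥ (Y *ᵥ u) := fun k u => by
      rw [Matrix.mulVec_mulVec, Matrix.mulVec_mulVec, hYK _ k.2]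
    rw [hw, Matrix.mulVec_add, Matrix.mulVec_add, hXK', hXK', hYK', hYK', hXY, hXJ]
  have hcjJ : ∀ g ∈ H, (g : Matrix ι ι F) * J * ((g⁻¹ : GL ι F) : Matrix ι ι F) ∈ K₂ := by
    intro g hg
    refine huniq _ (fun k hk => ?_) ?_ fun v => ?_
    · set k' := ((g⁻¹ : GL ι F) : Matrix ι ι F) * k * (g : Matrix ι ι F) with hk'
      have hk1 : k * (g : Matrix ι ι F) = (g : Matrix ι ι F) * k' := by
        rw [hk', ← mul_assoc, ← mul_assoc, Units.mul_inv, one_mul]
      have hk2 : k' * ((g⁻¹ : GL ι F) : Matrix ι ι F) = ((g⁻¹ : GL ι F) : Matrix ι ι F) * k := by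
        rw [hk', mul_assoc, Units.mul_inv, mul_one]
      calc k * ((g : Matrix ι ι F) * J * ((g⁻¹ : GL ι F) : Matrix ι ι F))
          = (g : Matrix ι ι F) * (k' * J) * ((g⁻¹ : GL ι F) : Matrix ι ι F) := by
            rw [← mul_assoc, ← mul_assoc, hk1]; simp only [mul_assoc]
        _ = (g : Matrix ι ι F) * J * (k' * ((g⁻¹ : GL ι F) : Matrix ι ι F)) := by
            rw [hJK k' (hconj g hg k hk)]; simp only [mul_assoc]
        _ = _ := by rw [hk2]; simp only [mul_assoc]
    · calc (g : Matrix ι ι F) * J * ((g⁻¹ : GL ι F) : Matrix ι ι F) *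
            ((g : Matrix ι ι F) * J * ((g⁻¹ : GL ι F) : Matrix ι ι F))
          = (g : Matrix ι ι F) * (J * J) * ((g⁻¹ : GL ι F) : Matrix ι ι F) := by
            simp only [mul_assoc, Units.inv_mul_cancel_left]
        _ = _ := by
            rw [hJ2, mul_sub, sub_mul, mul_smul_comm, smul_mul_assoc, mul_one, Units.mul_inv]
    · show Q (((g : Matrix ι ι F) * J * ((g⁻¹ : GL ι F) : Matrix ι ι F)) *ᵥ v) = η * Q v
      rw [← Matrix.mulVec_mulVec, ← Matrix.mulVec_mulVec]
      show Q (mv g (J *ᵥ mv g⁻¹ v)) = _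
      rw [hisoQ g hg, hJQ, hisoQ _ (inv_mem hg)]
  intro g hg k
  have hmap : ∀ g ∈ H, ∀ X ∈ K₂, (g : Matrix ι ι F) * X * ((g⁻¹ : GL ι F) : Matrix ι ι F) ∈ K₂ := by
    rintro g hg _ ⟨p, q, rfl⟩
    rw [mul_add, add_mul, mul_smul_comm, smul_mul_assoc, mul_smul_comm, smul_mul_assoc, mul_one, Units.mul_inv]
    exact add_mem (K₂.smul_mem (one_mem _) _) (K₂.smul_mem (hcjJ g hg) _)
  refine ⟨hmap g hg k, fun h => ?_⟩
  have h' := hmap g⁻¹ (inv_mem hg) _ h
  rw [inv_inv, ← mul_assoc, ← mul_assoc, Units.inv_mul, one_mul, mul_assoc, Units.inv_mul, mul_one] at h'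
  exact h'

end Cfsg.Agent.OrthEvenMax
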