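/-
Symmetric tensor factors: a totally isotropic part of one factor gives a totally singular subspace, and plus type
passes along isometric blocks.
-/
import Cfsg.Agent.Lib.OrthEvenMax.Members
import Cfsg.Agent.Lib.Aschbacher.SympTensorThree

set_option autoImplicit false
set_option linter.style.haveILetI false

namespace Cfsg.Agent.OrthEvenMax

open scoped Matrix Kronecker
open Matrix Cfsg.Agent.Transvec Cfsg.Agent.Transvec.Orth Cfsg.Agent.Aschbacher

variable {ι : Type} [Fintype ι] [DecidableEq ι] {F : Type*} [Field F] [Fintype F] {Q : (ι → F) → F}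
variable (hQ : Geo.IsNondegenerateQuadraticForm Q)
include hQ

omit hQ [Fintype ι] [DecidableEq ι] [Fintype F] in
/-- Plus type passes to isometric subspaces. -/
theorem plus_of_isometric {W W' : Submodule F (ι → F)} (h : Geo.AreIsometricFor Q W W')
    (hW : Geo.IsPlusTypeOn Q W) : Geo.IsPlusTypeOn Q W' := by
  obtain ⟨U, hUW, hU, hUd⟩ := hW
  obtain ⟨e, he⟩ := h
  let φ : U →ₗ[F] (ι → F) := W'.subtype.comp (e.toLinearMap.comp (Submodule.inclusion hUW))
  have hφ : Function.Injective φ :=
    W'.injective_subtype.comp (e.injective.comp (Submodule.inclusion_injective hUW))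
  refine ⟨LinearMap.range φ, ?_, ?_, ?_⟩
  · rintro _ ⟨x, rfl⟩
    exact SetLike.coe_mem _
  · rintro _ ⟨x, rfl⟩
    show Q ((e (Submodule.inclusion hUW x) : W') : ι → F) = 0
    rw [he]
    exact hU x x.2
  · rw [LinearMap.finrank_range_of_inj hφ, hUd, e.finrank_eq]

/-- In minus type, pairwise isometric orthogonal blocks are of minus type. -/
theorem minus_blocks (hminus : ¬ Geo.IsPlusTypeOn Q ⊤) {t k : ℕ} {D : Fin t → Submodule F (ι → F)}
    (hD : Geo.IsOrthogonalMDecomposition Q k D) (hn : t * k = Fintype.card ι) (i : Fin t) :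
    ¬ Geo.IsPlusTypeOn Q (D i) := fun h => hminus <|
  plus_of_steps hQ hD.decomp 1 (one_dvd t) hn fun s hs => by
    obtain ⟨j, rfl⟩ := Finset.card_eq_one.1 hs
    obtain ⟨U, hle, hU, hd⟩ := plus_of_isometric (hD.isometric i j) h
    exact ⟨U, hU, by simpa using hle, by rw [hd, hD.decomp.decomp.finrank_eq, one_mul]⟩

omit [Fintype F] in
/-- A half-dimensional totally isotropic subspace of a symmetric factor gives plus type. -/
theorem plus_of_factor (h2 : (2 : F) ≠ 0) {a b : ℕ} {eq : ι ≃ Fin a × Fin b} {P : GL ι F} {A : GL (Fin a) F}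
    {B : GL (Fin b) F} (hs : TensorSplit (RingEquiv.refl F) 1 (QuadraticMap.polar Q) eq P A B)
    (hB : (B : Matrix (Fin b) (Fin b) F)ᵀ = B)
    (hplus : Geo.IsPlusTypeOn (fun v => formOf (B : Matrix (Fin b) (Fin b) F) v v) ⊤) :
    Geo.IsPlusTypeOn Q ⊤ := by
  obtain ⟨U, -, hU, hd⟩ := hplus
  rw [finrank_top, Module.finrank_pi, Fintype.card_fin] at hd
  set m := Module.finrank F U with hm
  let bU := Module.finBasisOfFinrankEq F U hm.symm
  let M : Matrix (Fin b) (Fin m) F := Matrix.of fun i j => (bU j : Fin b → F) i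
  have hM : ∀ z : Fin m → F, M *ᵥ z = ((bU.equivFun.symm z : U) : Fin b → F) := fun z => by
    funext i
    simp [M, Matrix.mulVec, dotProduct, Module.Basis.equivFun_symm_apply, mul_comm]
  have hzero : ∀ x ∈ U, ∀ y ∈ U, formOf (B : Matrix (Fin b) (Fin b) F) x y = 0 := fun x hx y hy => by
    have h : formOf (B : Matrix (Fin b) (Fin b) F) (x + y) (x + y) = 0 := hU _ (U.add_mem hx hy)
    have hx' : formOf (B : Matrix (Fin b) (Fin b) F) x x = 0 := hU _ hx
    have hy' : formOf (B : Matrix (Fin b) (Fin b) F) y y = 0 := hU _ hy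
    rw [(formOf_bilinear _).add_left, (formOf_bilinear _).add_right, (formOf_bilinear _).add_right,
      formOf_symm hB y x, hx', hy'] at h
    refine (mul_eq_zero.1 (?_ : (2 : F) * _ = 0)).resolve_left h2
    linear_combination h
  have hMB : Mᵀ * (B : Matrix (Fin b) (Fin b) F) * M = 0 := Matrix.ext fun i j => by
    rw [Matrix.zero_apply, ← hzero _ (bU i).2 _ (bU j).2, Matrix.mul_assoc]
    simp only [formOf, Matrix.mul_apply, dotProduct, Matrix.mulVec, Matrix.transpose_apply, M, Matrix.of_apply]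
  let φ : (Fin a × Fin m → F) →ₗ[F] (ι → F) := (Matrix.toLin' (P : Matrix ι ι F)).comp
    ((LinearMap.funLeft F F eq).comp (Matrix.toLin' ((1 : Matrix (Fin a) (Fin a) F) ⊗ₖ M)))
  have hφ : ∀ x, φ x = (P : Matrix ι ι F) *ᵥ ((((1 : Matrix (Fin a) (Fin a) F) ⊗ₖ M) *ᵥ x) ∘ eq) :=
    fun x => rfl
  have hrow : ∀ (x : Fin a × Fin m → F) i j,
      (((1 : Matrix (Fin a) (Fin a) F) ⊗ₖ M) *ᵥ x) (i, j) = (M *ᵥ fun l => x (i, l)) j := fun x i j => by
    simp [Matrix.mulVec, dotProduct, Matrix.kroneckerMap_apply, Matrix.one_apply, Fintype.sum_prod_type,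
      Finset.sum_ite_eq]
  have hinj : Function.Injective φ := (injective_iff_map_eq_zero φ).2 fun x hx => by
    rw [hφ] at hx
    have h0 := mv_inj P (hx.trans (mv_zero P).symm)
    funext p
    obtain ⟨i, l⟩ := p
    have e : (M *ᵥ fun l => x (i, l)) = 0 := funext fun j => by
      rw [← hrow]
      simpa using congrFun h0 (eq.symm (i, j))
    rw [hM, Submodule.coe_eq_zero, LinearEquiv.map_eq_zero_iff] at e
    exact congrFun e l
  refine ⟨LinearMap.range φ, le_top, ?_, ?_⟩
  · rintro _ ⟨x, rfl⟩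
    have h : pol Q (φ x) (φ x) = 0 := by
      show QuadraticMap.polar Q _ _ = _
      rw [hφ, hs.form, sesqOf_refl]
      unfold formOf
      rw [Matrix.mulVec_mulVec, dotProduct_comm, Matrix.dotProduct_mulVec, ← Matrix.mulVec_transpose,
        Matrix.mulVec_mulVec, ← Matrix.kroneckerMap_transpose, Matrix.transpose_one, ← Matrix.mul_kronecker_mul,
        ← Matrix.mul_kronecker_mul, one_mul, mul_one, ← Matrix.mul_assoc, hMB, Matrix.kronecker_zero,
        Matrix.zero_mulVec, zero_dotProduct]
    rw [pol_self hQ] at h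
    exact (mul_eq_zero.1 h).resolve_left h2
  · rw [LinearMap.finrank_range_of_inj hinj, Module.finrank_pi, finrank_top, Module.finrank_pi,
      Fintype.card_congr eq, Fintype.card_prod, Fintype.card_prod, Fintype.card_fin, Fintype.card_fin,
      Fintype.card_fin, ← hd]
    ring

end Cfsg.Agent.OrthEvenMax
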