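/-
Small blocks: frames, planes over small fields, and lines over fields which are not prime.
-/
import Cfsg.Agent.Lib.OrthEvenMax.Blocks
import Cfsg.Agent.Lib.OrthEvenMax.SymFactor
import Cfsg.Agent.Lib.Transvec.OrthSmallBlocks
import Cfsg.Agent.Lib.Aschbacher.SympTensorThree

set_option autoImplicit false
set_option linter.style.haveILetI false

namespace Cfsg.Agent.OrthEvenMax

open scoped Matrix
open Matrix Cfsg.Agent.Transvec Cfsg.Agent.Transvec.Orth

variable {ι : Type} [Fintype ι] [DecidableEq ι] {F : Type*} [Field F] [Fintype F] {Q : (ι → F) → F}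
variable {H : Subgroup (GL ι F)} {t k : ℕ} {D : Fin t → Submodule F (ι → F)}

omit [Fintype F] in
theorem isometric_symm {W W' : Submodule F (ι → F)} (h : Geo.AreIsometricFor Q W W') :
    Geo.AreIsometricFor Q W' W := by
  obtain ⟨e, he⟩ := h
  exact ⟨e.symm, fun w => by rw [← he (e.symm w), LinearEquiv.apply_symm_apply]⟩

variable (hQ : Geo.IsNondegenerateQuadraticForm Q) (hiso : H ≤ isometryGroup F Q)
include hQ

/-- Three isometric blocks of even dimension in plus type are of plus type. -/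
theorem block_plus (hplus : Geo.IsPlusTypeOn Q ⊤) (hD : Geo.IsOrthogonalMDecomposition Q k D) (ht : t = 3)
    {m : ℕ} (hk : k = 2 * m) (hn : t * k = Fintype.card ι)
    (htr : ∀ i j, ∃ g ∈ isometryGroup F Q, (D i).map (mvLin g) = D j) (i : Fin t) : Geo.IsPlusTypeOn Q (D i) := by
  subst ht
  obtain ⟨hW, hsum⟩ := orth_nondeg hQ (block_nondeg hD i)
  obtain ⟨j, l, hij, hil, hjl⟩ : ∃ j l : Fin 3, i ≠ j ∧ i ≠ l ∧ j ≠ l :=
    (show ∀ a : Fin 3, ∃ j l : Fin 3, a ≠ j ∧ a ≠ l ∧ j ≠ l by decide) i
  obtain ⟨g, hg, hgj⟩ := htr j l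
  obtain ⟨U, hU, hle, hd⟩ := ts_two_blocks hQ hg m (D j) (block_nondeg hD j)
    (by rw [hD.decomp.decomp.finrank_eq, hk])
    fun x hx y hy => block_orth hD hjl hx (hgj.le ⟨y, hy, Matrix.toLin'_apply _ _⟩)
  rw [hgj] at hle
  have h := orth_plus hQ hplus hW ⟨U, hle.trans (sup_le (fun x hx u hu => block_orth hD hij hu hx)
    fun x hx u hu => block_orth hD hil hu hx), hU, by
      rw [hd]
      rw [hD.decomp.decomp.finrank_eq] at hsum
      omega⟩
  rwa [orth_orth_eq hQ (block_nondeg hD i)] at h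

include hiso

omit [Fintype F] in
/-- Blocks with frames of one value refine into lines. -/
theorem frame_blocks (h2 : (2 : F) ≠ 0) (hD : Geo.IsOrthogonalMDecomposition Q k D)
    (htr : ∀ i j, ∃ g ∈ H, (D i).map (mvLin g) = D j) (hle : H ≤ Geo.decompositionStabilizer D) (i₀ : Fin t)
    (v : Fin k → (ι → F)) {c : F} (hc : c ≠ 0) (hv : ∀ a, v a ∈ D i₀) (hvc : ∀ a, Q (v a) = c)
    (hvo : ∀ a b, a ≠ b → pol Q (v a) (v b) = 0)
    (honly : ∀ x ∈ D i₀, Q x = c → ∃ a, x = v a ∨ x = -v a) :
    ∃ D' : Fin (t * k) → Submodule F (ι → F), Geo.IsOrthogonalMDecomposition Q 1 D' ∧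
      H ≤ Geo.decompositionStabilizer D' := by
  have hv0 : ∀ a, v a ≠ 0 := fun a h => hc (by rw [← hvc a, h, q_zero hQ])
  have hnd : ∀ a, Nondeg Q (Submodule.span F {v a}) := fun a u hu h => by
    obtain ⟨r, rfl⟩ := Submodule.mem_span_singleton.1 hu
    have h' := h (v a) (Submodule.mem_span_singleton_self _)
    rw [pol_smul_right hQ, pol_self hQ, hvc] at h'
    rw [(mul_eq_zero.1 h').resolve_right (mul_ne_zero h2 hc), zero_smul]
  have ho : ∀ a b, a ≠ b → ∀ u ∈ Submodule.span F {v a}, ∀ w ∈ Submodule.span F {v b}, pol Q u w = 0 := by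
    intro a b hab u hu w hw
    obtain ⟨r, rfl⟩ := Submodule.mem_span_singleton.1 hu
    obtain ⟨r', rfl⟩ := Submodule.mem_span_singleton.1 hw
    rw [pol_smul_left hQ, pol_smul_right hQ, hvo a b hab, mul_zero, mul_zero]
  have hind : LinearIndependent F v := Fintype.linearIndependent_iff.2 fun g hg a => by
    have h := congrArg (formQ hQ (v a)) hg
    rw [map_sum, map_zero, Finset.sum_eq_single a] at h
    · rw [map_smul, smul_eq_mul, show formQ hQ (v a) (v a) = pol Q (v a) (v a) from rfl, pol_self hQ, hvc] at h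
      exact (mul_eq_zero.1 h).resolve_right (mul_ne_zero h2 hc)
    · intro b _ hb
      rw [map_smul, show formQ hQ (v a) (v b) = pol Q (v b) (v a) from rfl, hvo b a hb, smul_zero]
    · simp
  obtain ⟨D', h1, h2', -⟩ := refine_decomp hQ hiso hD htr hle i₀ (fun a => Submodule.span F {v a})
    (k' := 1) hD.decomp.decomp.pos le_rfl (fun a => finrank_span_singleton (hv0 a)) hnd ho
    (by
      rw [← Submodule.span_range_eq_iSup]
      refine Submodule.eq_of_le_of_finrank_eq (Submodule.span_le.2 ?_) ?_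
      · rintro _ ⟨a, rfl⟩; exact hv a
      · rw [finrank_span_eq_card hind, Fintype.card_fin, hD.decomp.decomp.finrank_eq])
    (fun a b => Aschbacher.areIsometric_span (fun r x => by rw [q_smul hQ]) (hv0 a) (hv0 b)
      ((hvc a).trans (hvc b).symm))
    (fun u hu hum a => by
      have hx : mv u (v a) ∈ D i₀ := hum.le ⟨v a, hv a, Matrix.toLin'_apply _ _⟩
      obtain ⟨b, hb⟩ := honly _ hx (by rw [mem_isometry.1 hu, hvc])
      refine ⟨b, ?_⟩
      rw [Submodule.map_span, Set.image_singleton, Matrix.toLin'_apply]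
      show Submodule.span F {mv u (v a)} = _
      rcases hb with hb | hb <;> rw [hb]
      rw [← neg_one_smul F (v b)]
      exact Submodule.span_singleton_smul_eq isUnit_one.neg _)
  exact ⟨D', h1, h2'⟩

/-- Planes of plus type over five elements carry frames. -/
theorem planes_five (hq : Fintype.card F = 5) (hD : Geo.IsOrthogonalMDecomposition Q k D) (hk : k = 2)
    (htr : ∀ i j, ∃ g ∈ H, (D i).map (mvLin g) = D j) (hle : H ≤ Geo.decompositionStabilizer D) (i₀ : Fin t)
    (hp : Geo.IsPlusTypeOn Q (D i₀)) :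
    ∃ D' : Fin (t * 2) → Submodule F (ι → F), Geo.IsOrthogonalMDecomposition Q 1 D' ∧
      H ≤ Geo.decompositionStabilizer D' := by
  subst hk
  obtain ⟨e, he, f, hf, hee, hff, hef, hco⟩ := plane_pair hQ (block_nondeg hD i₀) (hD.decomp.decomp.finrank_eq i₀) hp
  have h5 : (5 : F) = 0 := by
    have h := FiniteField.cast_card_eq_zero F
    rw [hq] at h; exact_mod_cast h
  have h2 : (2 : F) ≠ 0 := fun h => one_ne_zero (α := F) (by linear_combination h5 - 2 * h)
  refine frame_blocks hQ hiso h2 hD htr hle i₀ ![e + f, (2 : F) • e - (2 : F) • f] one_ne_zero ?_ ?_ ?_ ?_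
  · intro a
    fin_cases a
    · exact (D i₀).add_mem he hf
    · exact (D i₀).sub_mem ((D i₀).smul_mem _ he) ((D i₀).smul_mem _ hf)
  · intro a
    fin_cases a
    · show Q (e + f) = 1
      rw [q_add hQ, hee, hff, hef, zero_add, zero_add]
    · show Q ((2 : F) • e - (2 : F) • f) = 1
      rw [q_sub hQ, q_smul hQ, q_smul hQ, hee, hff, pol_smul_left hQ, pol_smul_right hQ, hef]
      linear_combination -h5
  · intro a b hab
    have h : pol Q (e + f) ((2 : F) • e - (2 : F) • f) = 0 := by
      rw [pol_add_left hQ, pol_sub_right hQ, pol_sub_right hQ, pol_smul_right hQ, pol_smul_right hQ,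
        pol_smul_right hQ, pol_smul_right hQ, pol_self hQ, pol_self hQ, hee, hff, pol_comm f e, hef]
      ring
    fin_cases a <;> fin_cases b
    · exact absurd rfl hab
    · exact h
    · exact (pol_comm _ _).trans h
    · exact absurd rfl hab
  · intro x hx hxx
    obtain ⟨a, b, rfl, hab⟩ := hco x hx
    rw [hxx] at hab
    have ha : a ≠ 0 := left_ne_zero_of_mul (hab ▸ one_ne_zero)
    have h4 := FiniteField.pow_card_sub_one_eq_one a ha
    rw [hq] at h4
    norm_num at h4
    rcases mul_eq_zero.1 (show (a ^ 2 - 1) * ((a - 2) * (a + 2)) = 0 by linear_combination h4 + (1 - a ^ 2) * h5) with h | h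
    · refine ⟨0, ?_⟩
      rcases sq_eq_one_iff.1 (sub_eq_zero.1 h) with rfl | rfl
      · exact Or.inl (by rw [show b = 1 by linear_combination -hab]; simp)
      · exact Or.inr (by rw [show b = -1 by linear_combination hab]; simp; abel)
    · refine ⟨1, ?_⟩
      have hb : b = -a := by
        refine mul_left_cancel₀ ha ?_
        linear_combination h + h5 - hab
      rcases mul_eq_zero.1 h with h' | h'
      · exact Or.inl (by rw [hb, show a = 2 by linear_combination h', neg_smul, ← sub_eq_add_neg]; rfl)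
      · refine Or.inr ?_
        rw [hb, show a = -2 by linear_combination h', neg_neg]
        show _ = -((2 : F) • e - (2 : F) • f)
        module

/-- Planes of minus type over three elements carry frames. -/
theorem planes_three (hq : Fintype.card F = 3) (hD : Geo.IsOrthogonalMDecomposition Q k D) (hk : k = 2)
    (htr : ∀ i j, ∃ g ∈ H, (D i).map (mvLin g) = D j) (hle : H ≤ Geo.decompositionStabilizer D) (i₀ : Fin t)
    (hp : ¬ Geo.IsPlusTypeOn Q (D i₀)) :
    ∃ D' : Fin (t * 2) → Submodule F (ι → F), Geo.IsOrthogonalMDecomposition Q 1 D' ∧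
      H ≤ Geo.decompositionStabilizer D' := by
  subst hk
  have h3 : (3 : F) = 0 := by
    have h := FiniteField.cast_card_eq_zero F
    rw [hq] at h; exact_mod_cast h
  have h2 : (2 : F) ≠ 0 := fun h => one_ne_zero (α := F) (by linear_combination h3 - h)
  have hd := hD.decomp.decomp.finrank_eq i₀
  have hn := block_nondeg hD i₀
  obtain ⟨p, hpD, hp1⟩ := exists_value_plane hQ h2 hn hd.ge 1
  have hp0 : p ≠ 0 := fun h => by rw [h, q_zero hQ] at hp1; exact zero_ne_one hp1
  have hpn : Nondeg Q (Submodule.span F {p}) := fun u hu h => by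
    obtain ⟨r, rfl⟩ := Submodule.mem_span_singleton.1 hu
    have h' := h p (Submodule.mem_span_singleton_self p)
    rw [pol_smul_right hQ, pol_self hQ, hp1, mul_one] at h'
    rw [(mul_eq_zero.1 h').resolve_right h2, zero_smul]
  have hpl : Submodule.span F {p} ≤ D i₀ := (Submodule.span_singleton_le_iff_mem _ _).2 hpD
  have hsum := finrank_inf_orth_add hQ hpn hpl
  rw [finrank_span_singleton hp0, hd] at hsum
  obtain ⟨r, hr, hr0⟩ := exists_anisotropic hQ (nondeg_inf_orth hQ hpn hn hpl) fun h => by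
    rw [h, finrank_bot] at hsum; omega
  have hpr : pol Q p r = 0 := hr.2 p (Submodule.mem_span_singleton_self p)
  have h01 : ∀ a : F, a = 0 ∨ a ^ 2 = 1 := fun a => (em _).imp_right fun ha => by
    have := FiniteField.pow_card_sub_one_eq_one a ha
    rwa [hq] at this
  have hr1 : Q r = 1 := by
    rcases sq_eq_one_iff.1 ((h01 _).resolve_left hr0) with h | h
    · exact h
    · exfalso
      have hs : Q (p + r) = 0 := by rw [q_add hQ, hp1, h, hpr]; ring
      have hs0 : p + r ≠ 0 := fun h' => by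
        have := congrArg (pol Q p) h'
        rw [pol_add_right hQ, pol_self hQ, hp1, hpr, pol_zero_right hQ, mul_one, add_zero] at this
        exact h2 this
      exact hp ⟨_, (Submodule.span_singleton_le_iff_mem _ _).2 ((D i₀).add_mem hpD hr.1), ts_span hQ hs,
        by rw [finrank_span_singleton hs0, hd]⟩
  have hQab : ∀ a b : F, Q (a • p + b • r) = a ^ 2 + b ^ 2 := fun a b => by
    rw [q_add hQ, q_smul hQ, q_smul hQ, pol_smul_left hQ, pol_smul_right hQ, hp1, hr1, hpr]; ring
  have hspan : Submodule.span F ({p, r} : Set (ι → F)) = D i₀ := by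
    refine Submodule.eq_of_le_of_finrank_le (Submodule.span_le.2 (by
      rintro z (rfl | rfl)
      · exact hpD
      · exact hr.1)) ?_
    have hind : LinearIndependent F ![p, r] := LinearIndependent.pair_iff.2 fun a b hab => by
      have h1 := congrArg (pol Q p) hab
      have h2' := congrArg (pol Q r) hab
      rw [pol_add_right hQ, pol_smul_right hQ, pol_smul_right hQ, pol_self hQ, hp1, hpr, pol_zero_right hQ] at h1
      rw [pol_add_right hQ, pol_smul_right hQ, pol_smul_right hQ, pol_self hQ, hr1, pol_comm r p, hpr,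
        pol_zero_right hQ] at h2'
      simp [h2] at h1 h2'
      exact ⟨h1, h2'⟩
    have := finrank_span_eq_card hind
    rw [Fintype.card_fin, Matrix.range_cons, Matrix.range_cons, Matrix.range_empty, Set.union_empty,
      Set.singleton_union] at this
    omega
  refine frame_blocks hQ hiso h2 hD htr hle i₀ ![p, r] one_ne_zero ?_ ?_ ?_ ?_
  · intro a; fin_cases a; exacts [hpD, hr.1]
  · intro a; fin_cases a; exacts [hp1, hr1]
  · intro a b hab
    fin_cases a <;> fin_cases b
    · exact absurd rfl hab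
    · exact hpr
    · exact (pol_comm _ _).trans hpr
    · exact absurd rfl hab
  · intro x hx hxx
    rw [← hspan] at hx
    obtain ⟨a, b, rfl⟩ := Submodule.mem_span_pair.1 hx
    rw [hQab] at hxx
    rcases h01 a with rfl | ha
    · refine ⟨1, (sq_eq_one_iff.1 (by linear_combination hxx)).imp ?_ ?_⟩ <;> intro h <;> rw [h] <;> simp
    · rcases h01 b with rfl | hb
      · refine ⟨0, (sq_eq_one_iff.1 ha).imp ?_ ?_⟩ <;> intro h <;> rw [h] <;> simp
      · exact absurd (by linear_combination hxx - ha - hb) (one_ne_zero (α := F))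

/-- Blocks of dimension three over three elements carry frames. -/
theorem threes_three (hq : Fintype.card F = 3) (hD : Geo.IsOrthogonalMDecomposition Q k D) (hk : k = 3)
    (htr : ∀ i j, ∃ g ∈ H, (D i).map (mvLin g) = D j) (hle : H ≤ Geo.decompositionStabilizer D) (i₀ : Fin t) :
    ∃ D' : Fin (t * 3) → Submodule F (ι → F), Geo.IsOrthogonalMDecomposition Q 1 D' ∧
      H ≤ Geo.decompositionStabilizer D' := by
  subst hk
  have h3 : (3 : F) = 0 := by
    have h := FiniteField.cast_card_eq_zero F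
    rw [hq] at h; exact_mod_cast h
  have h2 : (2 : F) ≠ 0 := fun h => one_ne_zero (α := F) (by linear_combination h3 - h)
  let b := Module.finBasisOfFinrankEq F (D i₀) (hD.decomp.decomp.finrank_eq i₀)
  let φ : (Fin 3 → F) →ₗ[F] (ι → F) := (D i₀).subtype.comp b.equivFun.symm.toLinearMap
  have hφD : ∀ x, φ x ∈ D i₀ := fun x => SetLike.coe_mem _
  have hf₂ : Geo.IsSymmetricForm (fun x y => pol Q (φ x) (φ y)) := by
    refine ⟨⟨fun x y z => by rw [map_add, pol_add_left hQ], fun r x y => by rw [map_smul, pol_smul_left hQ],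
      fun z x y => by rw [map_add, pol_add_right hQ], fun r x y => by rw [map_smul, pol_smul_right hQ]⟩,
      fun x y => pol_comm _ _, fun x hx => ?_⟩
    have hx' : φ x ≠ 0 := fun h => hx (b.equivFun.symm.injective ((Subtype.ext h).trans (map_zero _).symm))
    obtain ⟨⟨y, hy, hy1⟩, ⟨z, hz, hz1⟩⟩ := hD.decomp.nondegenerate i₀ (φ x) (hφD x) hx'
    refine ⟨⟨b.equivFun ⟨y, hy⟩, ?_⟩, b.equivFun ⟨z, hz⟩, ?_⟩
    · simpa [φ] using hy1
    · simpa [φ] using hz1
  obtain ⟨w, c, hc, hw⟩ := Aschbacher.exists_scalar_basis_three hq hf₂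
  have hval : ∀ a, Q (φ (w a)) = c / 2 := fun a => by
    have h := hw a a
    rw [if_pos rfl] at h
    rw [eq_div_iff h2, mul_comm]
    exact (pol_self hQ _).symm.trans h
  refine frame_blocks hQ hiso h2 hD htr hle i₀ (fun a => φ (w a)) (div_ne_zero hc h2) (fun a => hφD _) hval
    (fun a a' h => by simpa [h] using hw a a') fun x hx hxx => ?_
  have hind : LinearIndependent F (fun a => φ (w a)) := Fintype.linearIndependent_iff.2 fun g hg a => by
    have h := congrArg (formQ hQ (φ (w a))) hg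
    rw [map_sum, map_zero, Finset.sum_eq_single a] at h
    · rw [map_smul, smul_eq_mul, show formQ hQ (φ (w a)) (φ (w a)) = pol Q (φ (w a)) (φ (w a)) from rfl,
        pol_self hQ, hval] at h
      exact (mul_eq_zero.1 h).resolve_right (mul_ne_zero h2 (div_ne_zero hc h2))
    · intro a' _ ha
      rw [map_smul, show formQ hQ (φ (w a)) (φ (w a')) = pol Q (φ (w a')) (φ (w a)) from rfl]
      simp [show pol Q (φ (w a')) (φ (w a)) = 0 by simpa [ha] using hw a' a]
    · simp
  have hspan : Submodule.span F (Set.range fun a => φ (w a)) = D i₀ := by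
    refine Submodule.eq_of_le_of_finrank_eq (Submodule.span_le.2 ?_) ?_
    · rintro _ ⟨a, rfl⟩; exact hφD _
    · rw [finrank_span_eq_card hind, Fintype.card_fin, hD.decomp.decomp.finrank_eq]
  rw [← hspan] at hx
  obtain ⟨a, rfl⟩ := (Submodule.mem_span_range_iff_exists_fun F).1 hx
  have o : ∀ i j, i ≠ j → pol Q (φ (w i)) (φ (w j)) = 0 := fun i j h => by simpa [h] using hw i j
  rw [Fin.sum_univ_three, q_add hQ, q_add hQ, pol_add_left hQ] at hxx
  simp only [q_smul hQ, pol_smul_left hQ, pol_smul_right hQ, hval, o 0 1 (by decide), o 0 2 (by decide),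
    o 1 2 (by decide), mul_zero, add_zero] at hxx
  have hsum : a 0 ^ 2 + a 1 ^ 2 + a 2 ^ 2 = 1 :=
    mul_right_cancel₀ (div_ne_zero hc h2) (by linear_combination hxx)
  have hcase : ∀ j, a j = 0 ∨ a j ^ 2 = 1 := fun j => (em _).imp_right fun ha => by
    have := FiniteField.pow_card_sub_one_eq_one (a j) ha
    rwa [hq] at this
  have fin : ∀ j, a j ^ 2 = 1 → (∀ j', j' ≠ j → a j' = 0) →
      ∃ i, ∑ i, a i • φ (w i) = φ (w i) ∨ ∑ i, a i • φ (w i) = -φ (w i) := fun j hj hz => by
    refine ⟨j, ?_⟩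
    rw [Finset.sum_eq_single j (fun j' _ h => by rw [hz j' h, zero_smul]) (by simp)]
    rcases sq_eq_one_iff.1 hj with h | h <;> rw [h] <;> simp
  rcases hcase 0 with h0 | h0 <;> rcases hcase 1 with h1 | h1 <;> rcases hcase 2 with h2' | h2'
  · simp [h0, h1, h2'] at hsum
  · exact fin 2 h2' fun j hj => by fin_cases j <;> first | assumption | exact absurd rfl hj
  · exact fin 1 h1 fun j hj => by fin_cases j <;> first | assumption | exact absurd rfl hj
  · rw [h0, h1, h2'] at hsum
    exact absurd (by linear_combination hsum) (one_ne_zero (α := F))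
  · exact fin 0 h0 fun j hj => by fin_cases j <;> first | assumption | exact absurd rfl hj
  · rw [h0, h1, h2'] at hsum
    exact absurd (by linear_combination hsum) (one_ne_zero (α := F))
  · rw [h0, h1, h2'] at hsum
    exact absurd (by linear_combination hsum) (one_ne_zero (α := F))
  · rw [h0, h1, h2'] at hsum
    exact absurd (by linear_combination h3 - hsum) (one_ne_zero (α := F))

/-- Blocks of dimension four of plus type over two elements refine into planes of minus type. -/
theorem fours_two (hq : Fintype.card F = 2) (hD : Geo.IsOrthogonalMDecomposition Q k D) (hk : k = 4)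
    (htr : ∀ i j, ∃ g ∈ H, (D i).map (mvLin g) = D j) (hle : H ≤ Geo.decompositionStabilizer D) (i₀ : Fin t)
    (hp : Geo.IsPlusTypeOn Q (D i₀)) :
    ∃ D' : Fin (t * 2) → Submodule F (ι → F), Geo.IsOrthogonalMDecomposition Q 2 D' ∧
      (∀ x, ¬ Geo.IsPlusTypeOn Q (D' x)) ∧ H ≤ Geo.decompositionStabilizer D' := by
  subst hk
  have h2 : (2 : F) = 0 := by
    have h := FiniteField.cast_card_eq_zero F
    rw [hq] at h; exact_mod_cast h
  have h01 : ∀ c : F, c = 0 ∨ c = 1 := fun c => (em _).imp_right fun hc => by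
    have := FiniteField.pow_card_sub_one_eq_one c hc
    rwa [hq, pow_one] at this
  have hself : ∀ z, pol Q z z = 0 := fun z => by rw [pol_self hQ, h2, zero_mul]
  have hn := block_nondeg hD i₀
  have hd := hD.decomp.decomp.finrank_eq i₀
  obtain ⟨U, hU, hUs, hUd⟩ := hp
  obtain ⟨e, he, he0⟩ := U.ne_bot_iff.1 fun hb => by rw [hb, finrank_bot] at hUd; omega
  obtain ⟨f, hf, hff, hef⟩ := exists_partner hQ hn (hU he) he0 (hUs e he)
  obtain ⟨hPn, hP2⟩ := nondeg_pair hQ (hUs e he) hff hef
  have hPle : Submodule.span F ({e, f} : Set (ι → F)) ≤ D i₀ := Submodule.span_le.2 (by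
    rintro z (rfl | rfl)
    · exact hU he
    · exact hf)
  obtain ⟨u, hu, hu'⟩ : ∃ u ∈ U, u ∉ Submodule.span F {e} := by
    by_contra h
    push Not at h
    have := Submodule.finrank_mono (h : U ≤ _)
    rw [finrank_span_singleton he0] at this
    omega
  set e₂ := u - pol Q f u • e with he₂def
  have he₂U : e₂ ∈ U := U.sub_mem hu (U.smul_mem _ he)
  have o1 : pol Q e e₂ = 0 := ts_pol hQ hUs he he₂U
  have o2 : pol Q f e₂ = 0 := by
    rw [he₂def, pol_sub_right hQ, pol_smul_right hQ, pol_comm f e, hef, mul_one, sub_self]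
  have he₂0 : e₂ ≠ 0 := fun h => hu' (by
    rw [sub_eq_zero.1 h]
    exact Submodule.smul_mem _ _ (Submodule.mem_span_singleton_self _))
  have he₂X : e₂ ∈ D i₀ ⊓ orth hQ (Submodule.span F ({e, f} : Set (ι → F))) := ⟨hU he₂U, by
    refine (mem_orth_span hQ).2 fun z hz => ?_
    rcases hz with hz | hz <;> rw [hz]
    · exact o1
    · exact o2⟩
  obtain ⟨f₂, hf₂X, hff₂, hef₂⟩ := exists_partner hQ (nondeg_inf_orth hQ hPn hn hPle) he₂X he₂0 (hUs _ he₂U)
  have o3 : pol Q e f₂ = 0 := hf₂X.2 _ (Submodule.subset_span (Or.inl rfl))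
  have o4 : pol Q f f₂ = 0 := hf₂X.2 _ (Submodule.subset_span (Or.inr rfl))
  set x := e + f with hxd
  set y := e + (e₂ + f₂) with hyd
  set z := e₂ + f₂ with hzd
  set w := e + f + e₂ with hwd
  have hxD : x ∈ D i₀ := (D i₀).add_mem (hU he) hf
  have hzD : z ∈ D i₀ := (D i₀).add_mem (hU he₂U) hf₂X.1
  have hyD : y ∈ D i₀ := (D i₀).add_mem (hU he) hzD
  have hwD : w ∈ D i₀ := (D i₀).add_mem hxD (hU he₂U)
  have hxx : Q x = 1 := by rw [hxd, q_add hQ, hUs e he, hff, hef, zero_add, zero_add]
  have hzz : Q z = 1 := by rw [hzd, q_add hQ, hUs _ he₂U, hff₂, hef₂, zero_add, zero_add]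
  have hyy : Q y = 1 := by
    rw [hyd, q_add hQ, hzz, hUs e he, hzd, pol_add_right hQ, o1, o3, zero_add, add_zero, add_zero]
  have hww : Q w = 1 := by
    rw [hwd, q_add hQ, hxx, hUs _ he₂U, pol_add_left hQ, o1, o2, add_zero, add_zero, add_zero]
  have hxy : pol Q x y = 1 := by
    simp only [hxd, hyd, hzd, hwd, pol_add_left hQ, pol_add_right hQ, hself, o1, o2, o3, o4, pol_comm f e, hef]
    ring
  have hzw : pol Q z w = 1 := by
    simp only [hxd, hyd, hzd, hwd, pol_add_left hQ, pol_add_right hQ, hself, pol_comm e₂ e, pol_comm e₂ f, pol_comm f₂ e,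
      pol_comm f₂ f, pol_comm f₂ e₂, o1, o2, o3, o4, hef₂]
    ring
  have hxz : pol Q x z = 0 := by
    simp only [hxd, hzd, pol_add_left hQ, pol_add_right hQ, o1, o2, o3, o4]; ring
  have hyz : pol Q y z = 0 := by
    rw [hyd, pol_add_left hQ, hself, add_zero, hzd, pol_add_right hQ, o1, o3, add_zero]
  have hxw : pol Q x w = 0 := by
    rw [hwd, pol_add_right hQ, hself, zero_add, hxd, pol_add_left hQ, o1, o2, add_zero]
  have hyw : pol Q y w = 0 := by
    simp only [hxd, hyd, hzd, hwd, pol_add_left hQ, pol_add_right hQ, hself, hef, pol_comm e₂ e, pol_comm e₂ f,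
      pol_comm f₂ e, pol_comm f₂ f, pol_comm f₂ e₂, o1, o2, o3, o4, hef₂]
    linear_combination h2
  let W : Fin 2 → Fin 2 → (ι → F) := ![![x, y], ![z, w]]
  have hW1 : ∀ a, Q (W a 0) = 1 ∧ Q (W a 1) = 1 ∧ pol Q (W a 0) (W a 1) = 1 := by
    intro a; fin_cases a
    exacts [⟨hxx, hyy, hxy⟩, ⟨hzz, hww, hzw⟩]
  have hWo : ∀ i j, pol Q (W 0 i) (W 1 j) = 0 := by
    intro i j; fin_cases i <;> fin_cases j
    exacts [hxz, hxw, hyz, hyw]
  let V : Fin 2 → Submodule F (ι → F) := fun a => Submodule.span F {W a 0, W a 1}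
  have hQV : ∀ a (r s : F), Q (r • W a 0 + s • W a 1) = r ^ 2 + r * s + s ^ 2 := fun a r s => by
    rw [q_add hQ, q_smul hQ, q_smul hQ, pol_smul_left hQ, pol_smul_right hQ, (hW1 a).1, (hW1 a).2.1, (hW1 a).2.2]
    ring
  have haniso : ∀ a, ∀ p ∈ V a, Q p = 0 → p = 0 := by
    intro a p hp hp0
    obtain ⟨r, s, rfl⟩ := Submodule.mem_span_pair.1 hp
    rw [hQV] at hp0
    rcases h01 r with rfl | rfl <;> rcases h01 s with rfl | rfl
    · simp
    · exact absurd (by linear_combination hp0) (one_ne_zero (α := F))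
    · exact absurd (by linear_combination hp0) (one_ne_zero (α := F))
    · exact absurd (by linear_combination hp0 - h2) (one_ne_zero (α := F))
  have hVn : ∀ a, Nondeg Q (V a) := by
    intro a p hp h
    obtain ⟨r, s, rfl⟩ := Submodule.mem_span_pair.1 hp
    have h0 := h (W a 0) (Submodule.subset_span (Or.inl rfl))
    have h1 := h (W a 1) (Submodule.subset_span (Or.inr rfl))
    rw [pol_add_right hQ, pol_smul_right hQ, pol_smul_right hQ, hself, (hW1 a).2.2] at h0
    rw [pol_add_right hQ, pol_smul_right hQ, pol_smul_right hQ, hself, pol_comm (W a 1), (hW1 a).2.2] at h1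
    rw [show r = 0 by linear_combination h1, show s = 0 by linear_combination h0]
    simp
  have hVd : ∀ a, Module.finrank F (V a) = 2 := by
    intro a
    have hind : LinearIndependent F ![W a 0, W a 1] := LinearIndependent.pair_iff.2 fun r s hrs => by
      have h0 := congrArg (pol Q (W a 0)) hrs
      have h1 := congrArg (pol Q (W a 1)) hrs
      rw [pol_add_right hQ, pol_smul_right hQ, pol_smul_right hQ, hself, (hW1 a).2.2, pol_zero_right hQ] at h0
      rw [pol_add_right hQ, pol_smul_right hQ, pol_smul_right hQ, hself, pol_comm (W a 1), (hW1 a).2.2,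
        pol_zero_right hQ] at h1
      exact ⟨by linear_combination h1, by linear_combination h0⟩
    have := finrank_span_eq_card hind
    rwa [Fintype.card_fin, Matrix.range_cons, Matrix.range_cons, Matrix.range_empty, Set.union_empty,
      Set.singleton_union] at this
  have hVo : ∀ a b, a ≠ b → ∀ p ∈ V a, ∀ r ∈ V b, pol Q p r = 0 := by
    have h : ∀ p ∈ V 0, ∀ r ∈ V 1, pol Q p r = 0 := by
      intro p hp r hr
      obtain ⟨a, b, rfl⟩ := Submodule.mem_span_pair.1 hp
      obtain ⟨c, d, rfl⟩ := Submodule.mem_span_pair.1 hr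
      simp only [pol_add_left hQ, pol_add_right hQ, pol_smul_left hQ, pol_smul_right hQ, hWo]
      ring
    intro a b hab p hp r hr
    fin_cases a <;> fin_cases b
    · exact absurd rfl hab
    · exact h p hp r hr
    · exact (pol_comm p r).trans (h r hr p hp)
    · exact absurd rfl hab
  have hVle : ∀ a, V a ≤ D i₀ := by
    intro a
    refine Submodule.span_le.2 ?_
    rintro p (rfl | rfl) <;> fin_cases a
    exacts [hxD, hzD, hyD, hwD]
  have hVi := indep_of_orth hQ hVn hVo
  have hsup : iSup V = D i₀ := by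
    refine Submodule.eq_of_le_of_finrank_le (iSup_le hVle) ?_
    have hd01 : Disjoint (V 0) (V 1) := hVi.pairwiseDisjoint (show (0 : Fin 2) ≠ 1 by decide)
    have h := Submodule.finrank_sup_add_finrank_inf_eq (V 0) (V 1)
    rw [hd01.eq_bot, finrank_bot, hVd, hVd] at h
    have := Submodule.finrank_mono (sup_le (le_iSup V 0) (le_iSup V 1))
    omega
  have hminus : ∀ a, ¬ Geo.IsPlusTypeOn Q (V a) := by
    rintro a ⟨T, hT, hTs, hTd⟩
    obtain ⟨p, hp, hp0⟩ := T.ne_bot_iff.1 fun hb => by rw [hb, finrank_bot, hVd] at hTd; omega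
    exact hp0 (haniso a p (hT hp) (hTs p hp))
  have hone : ∀ p ∈ D i₀, Q p = 1 → ∃ a, p ∈ V a := by
    intro p hp hp1
    rw [← hsup] at hp
    have hle01 : iSup V ≤ V 0 ⊔ V 1 := iSup_le fun a => by
      fin_cases a
      exacts [le_sup_left, le_sup_right]
    have hp' : p ∈ V 0 ⊔ V 1 := hle01 hp
    obtain ⟨r, hr, s, hs, rfl⟩ := Submodule.mem_sup.1 hp'
    rw [q_add hQ, hVo 0 1 (by decide) r hr s hs, add_zero] at hp1
    by_cases hs0 : s = 0
    · exact ⟨0, by rw [hs0, add_zero]; exact hr⟩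
    by_cases hr0 : r = 0
    · exact ⟨1, by rw [hr0, zero_add]; exact hs⟩
    rw [(h01 _).resolve_left (fun h => hr0 (haniso 0 r hr h)),
      (h01 _).resolve_left (fun h => hs0 (haniso 1 s hs h))] at hp1
    exact absurd (by linear_combination h2 - hp1) (one_ne_zero (α := F))
  obtain ⟨D', hD', hle', hcov⟩ := refine_decomp hQ hiso hD htr hle i₀ V (k' := 2) (by norm_num) (by norm_num)
    hVd hVn hVo hsup
    (fun a b => iso_of_type hQ (hVn a) (hVn b) (m := 1) (hVd a) (hVd b) (iff_of_false (hminus a) (hminus b)))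
    (fun g hg hgm a => by
      obtain ⟨b, hb⟩ := hone (mv g (W a 0)) (hgm.le ⟨_, hVle a (Submodule.subset_span (Or.inl rfl)),
        Matrix.toLin'_apply _ _⟩) (by rw [mem_isometry.1 hg]; exact (hW1 a).1)
      obtain ⟨b', hb'⟩ := hone (mv g (W a 1)) (hgm.le ⟨_, hVle a (Submodule.subset_span (Or.inr rfl)),
        Matrix.toLin'_apply _ _⟩) (by rw [mem_isometry.1 hg]; exact (hW1 a).2.1)
      have hbb : b' = b := by
        by_contra hne
        have := hVo b b' (Ne.symm hne) _ hb _ hb'
        rw [pol_mv hQ hg, (hW1 a).2.2] at this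
        exact one_ne_zero this
      refine ⟨b, Submodule.eq_of_le_of_finrank_eq ?_ (by rw [finrank_map_mv, hVd, hVd])⟩
      rw [Submodule.map_span, Submodule.span_le]
      rintro _ ⟨p, (rfl | rfl), rfl⟩ <;> rw [Matrix.toLin'_apply]
      exacts [hb, hbb ▸ hb'])
  refine ⟨D', hD', fun s hs => ?_, hle'⟩
  obtain ⟨a, g, hg, hga⟩ := hcov s
  exact hminus a (plus_of_isometric (isometric_symm (Aschbacher.areIsometric_map hg hga)) hs)

/-- Hyperbolic planes over at most three elements are not permuted irreducibly. -/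
theorem planes_reducible (hq : Fintype.card F ≤ 3) (hD : Geo.IsOrthogonalMDecomposition Q k D) (hk : k = 2)
    (hn : t * k = Fintype.card ι) (htr : ∀ i j, ∃ g ∈ H, (D i).map (mvLin g) = D j)
    (hle : H ≤ Geo.decompositionStabilizer D) (hirr : Geo.ActsIrreducibly (Geo.matrixSet H)) (i₀ : Fin t)
    (hp : Geo.IsPlusTypeOn Q (D i₀)) : False := by
  subst hk
  obtain ⟨e, he, f, hf, hee, hff, hef, hco⟩ := plane_pair hQ (block_nondeg hD i₀) (hD.decomp.decomp.finrank_eq i₀) hp
  obtain ⟨h, hh, hmap, hact⟩ := exists_transport hiso htr i₀ hle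
  have hv1 : Q (e + f) = 1 := by rw [q_add hQ, hee, hff, hef, zero_add, zero_add]
  let S : Submodule F (ι → F) := Submodule.span F (Set.range fun i => mv (h i) (e + f))
  have hS : ∀ s ∈ Geo.matrixSet H, S.map (Matrix.toLin' s) ≤ S := by
    rintro _ ⟨g, hg, rfl⟩
    rw [Submodule.map_span, Submodule.span_le]
    rintro _ ⟨_, ⟨i, rfl⟩, rfl⟩
    obtain ⟨j, u, hu, hum, hgu⟩ := hact g hg i
    have hx : mv u (e + f) ∈ D i₀ := hum.le ⟨_, (D i₀).add_mem he hf, Matrix.toLin'_apply _ _⟩
    obtain ⟨a, b, hab, hval⟩ := hco _ hx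
    rw [mem_isometry.1 hu, hv1] at hval
    have ha : a * a = 1 := by
      have ha0 : a ≠ 0 := left_ne_zero_of_mul (hval ▸ one_ne_zero)
      have h1 := FiniteField.pow_card_sub_one_eq_one a ha0
      obtain h' | h' : Fintype.card F = 2 ∨ Fintype.card F = 3 := by
        have := Fintype.one_lt_card (α := F); omega
      · rw [h', pow_one] at h1; rw [h1, one_mul]
      · rw [h', pow_two] at h1; exact h1
    have hba : b = a := by linear_combination -b * ha - a * hval
    rw [hba, ← smul_add] at hab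
    show Matrix.toLin' (g : Matrix ι ι F) (mv (h i) (e + f)) ∈ S
    rw [Matrix.toLin'_apply]
    show mv g (mv (h i) (e + f)) ∈ S
    rw [← mv_mul, hgu, mv_mul, hab, mv_smul]
    exact S.smul_mem _ (Submodule.subset_span ⟨j, rfl⟩)
  rcases hirr S hS with h0 | h1
  · have hm : mv (h i₀) (e + f) ∈ S := Submodule.subset_span ⟨i₀, rfl⟩
    rw [h0, Submodule.mem_bot] at hm
    have := congrArg Q hm
    rw [mem_isometry.1 (hh i₀), hv1, q_zero hQ] at this
    exact one_ne_zero this
  · have hd := finrank_range_le_card (R := F) (fun i => mv (h i) (e + f))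
    rw [Set.finrank, show Submodule.span F (Set.range fun i => mv (h i) (e + f)) = ⊤ from h1, finrank_top,
      Module.finrank_pi, Fintype.card_fin, ← hn] at hd
    have := hD.decomp.decomp.two_le
    omega

/-- Hyperbolic planes over four elements are written over two. -/
theorem planes_four (hq : Fintype.card F = 4) (hD : Geo.IsOrthogonalMDecomposition Q k D) (hk : k = 2)
    (hn : t * k = Fintype.card ι) (htr : ∀ i j, ∃ g ∈ H, (D i).map (mvLin g) = D j)
    (hle : H ≤ Geo.decompositionStabilizer D) (i₀ : Fin t) (hp : Geo.IsPlusTypeOn Q (D i₀)) :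
    ∃ (F₁ : Subfield F) (P : GL ι F), Fintype.card F = Nat.card F₁ ^ 2 ∧
      Geo.IsQuadFormRationalStructure (fun v => (1 : F) * Q v) F₁ P ∧ H ≤ Geo.subfieldSubgroup F₁ P := by
  subst hk
  classical
  obtain ⟨e, he, f, hf, hee, hff, hef, hco⟩ := plane_pair hQ (block_nondeg hD i₀) (hD.decomp.decomp.finrank_eq i₀) hp
  have h2 : (2 : F) = 0 := by
    have hcast := FiniteField.cast_card_eq_zero F
    rw [hq] at hcast
    have h4 : (4 : F) = 0 := by exact_mod_cast hcast
    exact pow_eq_zero_iff (two_ne_zero (α := ℕ)) |>.1 (show (2 : F) ^ 2 = 0 by linear_combination h4)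
  haveI : CharP F 2 := CharTwo.of_one_ne_zero_of_two_eq_zero one_ne_zero h2
  haveI := Fact.mk Nat.prime_two
  obtain ⟨F₁, hF₁, -⟩ := Aschbacher.exists_subfield_card (F := F) (p := 2) (e := 2) hq one_pos (one_dvd _)
  obtain ⟨γ, -, hγ⟩ := Finset.exists_mem_notMem_of_card_lt_card (s := ({0, 1} : Finset F))
    (t := Finset.univ) (lt_of_le_of_lt Finset.card_le_two (by rw [Finset.card_univ, hq]; norm_num))
  simp only [Finset.mem_insert, Finset.mem_singleton, not_or] at hγ
  have hcube : ∀ r : F, r ≠ 0 → r = 1 ∨ r ^ 2 + r + 1 = 0 := fun r hr => by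
    have h3 := FiniteField.pow_card_sub_one_eq_one r hr
    rw [hq] at h3
    norm_num at h3
    exact (mul_eq_zero.1 (show (r - 1) * (r ^ 2 + r + 1) = 0 by linear_combination h3)).imp sub_eq_zero.1 id
  have hγ2 := (hcube γ hγ.1).resolve_left hγ.2
  set v₁ := γ • e + (γ + 1) • f with hv₁
  set v₀ := e + f with hv₀
  have hq0 : Q v₀ = 1 := by rw [hv₀, q_add hQ, hee, hff, hef, zero_add, zero_add]
  have hq1 : Q v₁ = 1 := by
    rw [hv₁, q_add hQ, q_smul hQ, q_smul hQ, hee, hff, pol_smul_left hQ, pol_smul_right hQ, hef]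
    linear_combination hγ2 - h2
  have hp01 : pol Q v₀ v₁ = 1 := by
    simp only [hv₀, hv₁, pol_add_left hQ, pol_add_right hQ, pol_smul_right hQ, pol_self hQ, pol_comm f e, hee, hff,
      hef]
    linear_combination γ * h2
  let w : Fin 2 → (ι → F) := ![v₀, v₁]
  have hwD : ∀ a, w a ∈ D i₀ := by
    intro a; fin_cases a
    exacts [(D i₀).add_mem he hf, (D i₀).add_mem ((D i₀).smul_mem _ he) ((D i₀).smul_mem _ hf)]
  have hspan : Submodule.span F (Set.range w) = D i₀ := by
    refine le_antisymm (Submodule.span_le.2 (by rintro _ ⟨a, rfl⟩; exact hwD a)) fun x hx => ?_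
    obtain ⟨a, b, rfl, -⟩ := hco x hx
    refine (Submodule.mem_span_range_iff_exists_fun F).2
      ⟨![a * (γ + 1) + b * γ, a + b], ?_⟩
    rw [Fin.sum_univ_two]
    show (a * (γ + 1) + b * γ) • v₀ + (a + b) • v₁ = a • e + b • f
    have e1 : a * (γ + 1) + b * γ + (a + b) * γ = a := by linear_combination (a + b) * γ * h2
    have e2 : a * (γ + 1) + b * γ + (a + b) * (γ + 1) = b := by linear_combination ((a + b) * γ + a) * h2
    rw [hv₀, hv₁]
    match_scalars <;> simp only [mul_one]
    · linear_combination e1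
    · linear_combination e2
  have hcl : ∀ x ∈ D i₀, Q x = 1 → ∃ c : Fin 2 → F, (∀ b, c b ∈ F₁) ∧ x = ∑ b, c b • w b := by
    intro x hx hx1
    obtain ⟨a, b, rfl, hab⟩ := hco x hx
    rw [hx1] at hab
    have h01 : (0 : F) ∈ F₁ ∧ (1 : F) ∈ F₁ := ⟨zero_mem _, one_mem _⟩
    have key : ∀ c₀ c₁ : F, c₀ ∈ F₁ → c₁ ∈ F₁ → a = c₀ + c₁ * γ → b = c₀ + c₁ * (γ + 1) →
        ∃ c : Fin 2 → F, (∀ b, c b ∈ F₁) ∧ a • e + b • f = ∑ b, c b • w b := by
      intro c₀ c₁ h0 h1 ha hb
      refine ⟨![c₀, c₁], fun i => by fin_cases i; exacts [h0, h1], ?_⟩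
      rw [Fin.sum_univ_two]
      show a • e + b • f = c₀ • v₀ + c₁ • v₁
      rw [ha, hb, hv₀, hv₁]
      module
    rcases hcube a (left_ne_zero_of_mul (hab ▸ one_ne_zero)) with ha | ha
    · exact key 1 0 h01.2 h01.1 (by rw [ha]; ring) (by rw [ha] at hab; linear_combination -hab)
    · have hb : b = a + 1 := mul_left_cancel₀ (left_ne_zero_of_mul (hab ▸ one_ne_zero) : a ≠ 0)
        (by linear_combination -hab - ha + (a ^ 2 + a + 1) * 0 + h2)
      rcases mul_eq_zero.1 (show (a - γ) * (a - (γ + 1)) = 0 by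
        linear_combination ha + hγ2 - (γ * a + a + 1) * h2) with hA | hA
      · exact key 0 1 h01.1 h01.2 (by linear_combination hA) (by linear_combination hb + hA)
      · exact key 1 1 h01.2 h01.2 (by linear_combination hA) (by linear_combination hb + hA)
  obtain ⟨P, hP, hPle⟩ := subfield_of_blocks hQ hiso hD htr hle i₀ hn F₁ w hspan (ζ := 1)
    (fun u hu hum a => hcl _ (hum.le ⟨_, hwD a, Matrix.toLin'_apply _ _⟩) (by
      rw [mem_isometry.1 hu]; fin_cases a; exacts [hq0, hq1]))
    (fun c hc => by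
      rw [Fin.sum_univ_two]
      show (1 : F) * Q (c 0 • v₀ + c 1 • v₁) ∈ F₁
      rw [q_add hQ, q_smul hQ, q_smul hQ, pol_smul_left hQ, pol_smul_right hQ, hq0, hq1, hp01]
      simp only [mul_one, one_mul]
      exact add_mem (add_mem (pow_mem (hc 0) 2) (pow_mem (hc 1) 2)) (mul_mem (hc 0) (hc 1)))
  exact ⟨F₁, P, by rw [hq, hF₁]; norm_num, hP, hPle⟩

/-- Lines are written over any subfield. -/
theorem lines_subfield (hD : Geo.IsOrthogonalMDecomposition Q k D) (hk : k = 1) (hn : t * k = Fintype.card ι)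
    (htr : ∀ i j, ∃ g ∈ H, (D i).map (mvLin g) = D j) (hle : H ≤ Geo.decompositionStabilizer D) (i₀ : Fin t)
    (hnp : ¬ (Fintype.card F).Prime) :
    ∃ (F₁ : Subfield F) (r : ℕ) (P : GL ι F) (ζ : F), r.Prime ∧ Fintype.card F = Nat.card F₁ ^ r ∧ ζ ≠ 0 ∧
      Geo.IsQuadFormRationalStructure (fun v => ζ * Q v) F₁ P ∧ H ≤ Geo.subfieldSubgroup F₁ P := by
  subst hk
  obtain ⟨p, hchar⟩ := CharP.exists F
  haveI := Fact.mk (CharP.char_is_prime F p)
  obtain ⟨n, hn', hcF⟩ := FiniteField.card F p
  have hn1 : 1 < (n : ℕ) := by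
    rcases Nat.lt_or_ge 1 (n : ℕ) with h' | h'
    · exact h'
    · have := n.pos
      exact absurd (by rw [hcF, show (n : ℕ) = 1 by omega, pow_one]; exact hn') hnp
  obtain ⟨F₀, hF₀, -⟩ := Aschbacher.exists_subfield_card (p := p) hcF one_pos (one_dvd _)
  obtain ⟨F₁, r, -, hr, hc1⟩ := Aschbacher.exists_prime_index (F₀ := F₀) fun h' => by
    have e : Nat.card F₀ = Nat.card F := by rw [h']; exact Nat.card_congr Subfield.topEquiv.toEquiv
    rw [hF₀, Nat.card_eq_fintype_card, hcF] at e
    have := Nat.pow_right_injective hn'.two_le e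
    omega
  have hd := hD.decomp.decomp.finrank_eq i₀
  obtain ⟨v, hv, hv0⟩ := exists_anisotropic hQ (block_nondeg hD i₀) fun h => by rw [h, finrank_bot] at hd; omega
  have hspan : D i₀ = Submodule.span F {v} :=
    Aschbacher.eq_span_of_finrank_one hd hv fun h => hv0 (by rw [h, q_zero hQ])
  obtain ⟨P, hP, hPle⟩ := subfield_of_blocks hQ hiso hD htr hle i₀ hn F₁ (fun _ => v) (ζ := (Q v)⁻¹)
    (by rw [Set.range_const, hspan])
    (fun u hu hum a => by
      have hm : mv u v ∈ D i₀ := hum.le ⟨v, hv, Matrix.toLin'_apply _ _⟩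
      rw [hspan] at hm
      obtain ⟨c, hc⟩ := Submodule.mem_span_singleton.1 hm
      have h := congrArg Q hc
      rw [q_smul hQ, mem_isometry.1 hu] at h
      refine ⟨fun _ => c, fun _ => ?_, by rw [Fin.sum_univ_one, hc]⟩
      rcases sq_eq_one_iff.1 (mul_right_cancel₀ hv0 (h.trans (one_mul _).symm)) with rfl | rfl
      · exact one_mem _
      · exact neg_mem (one_mem _))
    (fun c hc => by
      rw [Fin.sum_univ_one, q_smul hQ, mul_left_comm, inv_mul_cancel₀ hv0, mul_one]
      exact pow_mem (hc 0) 2)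
  exact ⟨F₁, r, P, _, hr, hc1, inv_ne_zero hv0, hP, hPle⟩

end Cfsg.Agent.OrthEvenMax
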