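/-
A symmetric factor of dimension four in plus type is of plus type and splits into two alternating planes; over two
elements an alternating plane carries a field of four elements.
-/
import Cfsg.Agent.Lib.OrthEvenMax.SymFactor
import Cfsg.Agent.Lib.Aschbacher.SympTensorFour

set_option autoImplicit false
set_option linter.style.haveILetI false

namespace Cfsg.Agent.OrthEvenMax

open scoped Matrix Kronecker
open Matrix Cfsg.Agent.Transvec Cfsg.Agent.Transvec.Orth Cfsg.Agent.Aschbacher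

variable {ι : Type} [Fintype ι] [DecidableEq ι] {F : Type*} [Field F] [Fintype F] {Q : (ι → F) → F}
variable {H : Subgroup (GL ι F)}

omit [Fintype ι] [DecidableEq ι] [Fintype F] in
theorem pure_form_two {a b : ℕ} (U : Matrix (Fin a) (Fin a) F) (B : Matrix (Fin b) (Fin b) F) (x₁ y₁ : Fin a → F)
    (x₂ y₂ : Fin b → F) :
    formOf (U ⊗ₖ B) (fun p => x₁ p.1 * x₂ p.2) (fun p => y₁ p.1 * y₂ p.2) = formOf U x₁ y₁ * formOf B x₂ y₂ := by
  have hmv : (U ⊗ₖ B) *ᵥ (fun p => y₁ p.1 * y₂ p.2) = fun p => (U *ᵥ y₁) p.1 * (B *ᵥ y₂) p.2 := by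
    funext p
    simp only [Matrix.mulVec, dotProduct, Fintype.sum_prod_type, Matrix.kroneckerMap_apply]
    rw [Finset.sum_mul_sum]
    exact Finset.sum_congr rfl fun i _ => Finset.sum_congr rfl fun j _ => by ring
  simp only [formOf]
  rw [hmv]
  simp only [dotProduct, Fintype.sum_prod_type]
  rw [Finset.sum_mul_sum]
  exact Finset.sum_congr rfl fun i _ => Finset.sum_congr rfl fun j _ => by ring

omit [Fintype F] in
/-- In plus type the four-dimensional symmetric factor is of plus type. -/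
theorem factor_plus [Finite F] (hQ : Geo.IsNondegenerateQuadraticForm Q) (h2 : (2 : F) ≠ 0) (hplus : Geo.IsPlusTypeOn Q ⊤)
    {eq : ι ≃ Fin 3 × Fin 4} {P : GL ι F} {A : GL (Fin 3) F} {B : GL (Fin 4) F}
    (hs : TensorSplit (RingEquiv.refl F) 1 (QuadraticMap.polar Q) eq P A B)
    (hA : (A : Matrix (Fin 3) (Fin 3) F)ᵀ = A) :
    Geo.IsPlusTypeOn (fun v => formOf (B : Matrix (Fin 4) (Fin 4) F) v v) ⊤ := by
  set Qa : (Fin 3 → F) → F := fun v => formOf (A : Matrix (Fin 3) (Fin 3) F) v v with hQa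
  have hb := formOf_bilinear (A : Matrix (Fin 3) (Fin 3) F)
  have hpa : ∀ u v, QuadraticMap.polar Qa u v = 2 * formOf (A : Matrix (Fin 3) (Fin 3) F) u v := fun u v => by
    simp only [QuadraticMap.polar, hQa, hb.add_left, hb.add_right, formOf_symm hA v u]
    ring
  have hQA : Geo.IsNondegenerateQuadraticForm Qa := by
    refine ⟨fun c v => ?_, ⟨fun x y v => ?_, fun c x v => ?_, fun v x y => ?_, fun c v x => ?_⟩, fun v hv => ?_⟩
    · simp only [hQa, hb.smul_left, hb.smul_right]; ring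
    · simp only [hpa, hb.add_left]; ring
    · simp only [hpa, hb.smul_left]; ring
    · simp only [hpa, hb.add_right]; ring
    · simp only [hpa, hb.smul_right]; ring
    · obtain ⟨⟨x, hx⟩, y, hy⟩ := (formOf_symmetric hA).nondegenerate v hv
      exact ⟨⟨x, by rw [hpa]; exact mul_ne_zero h2 hx⟩, y, by rw [hpa]; exact mul_ne_zero h2 hy⟩
  obtain ⟨x, -, hx0, hxx⟩ := exists_singular hQA (X := (⊤ : Submodule F (Fin 3 → F))) (by simp)
  obtain ⟨d, -, hdd, hxd⟩ := exists_partner hQA (nondeg_top hQA) (Submodule.mem_top : x ∈ _) hx0 hxx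
  obtain ⟨hPn, hP2⟩ := nondeg_pair hQA hxx hdd hxd
  have hsum := finrank_inf_orth_add hQA hPn (le_top (a := Submodule.span F ({x, d} : Set (Fin 3 → F))))
  rw [hP2, finrank_top, Module.finrank_fin_fun] at hsum
  obtain ⟨z, hz, hzz⟩ := exists_anisotropic hQA (nondeg_inf_orth hQA hPn (nondeg_top hQA) le_top)
    fun h => by rw [h, finrank_bot] at hsum; omega
  have hxz : formOf (A : Matrix (Fin 3) (Fin 3) F) x z = 0 := by
    have h : QuadraticMap.polar Qa x z = 0 := hz.2 x (Submodule.subset_span (Or.inl rfl))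
    rw [hpa] at h
    exact (mul_eq_zero.1 h).resolve_left h2
  let φ : (Fin 3 → F) → ((Fin 4 → F) →ₗ[F] (ι → F)) := fun a => (Matrix.toLin' (P : Matrix ι ι F)).comp
    ({ toFun := fun y => (fun p : Fin 3 × Fin 4 => a p.1 * y p.2) ∘ eq
       map_add' := fun y y' => by funext i; simp [mul_add]
       map_smul' := fun c y => by funext i; simp [mul_left_comm] } : (Fin 4 → F) →ₗ[F] (ι → F))
  have hpol : ∀ a b y y', pol Q (φ a y) (φ b y') =
      formOf (A : Matrix (Fin 3) (Fin 3) F) a b * formOf (B : Matrix (Fin 4) (Fin 4) F) y y' := fun a b y y' => by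
    rw [← pure_form_two]
    show QuadraticMap.polar Q (φ a y) (φ b y') = _
    rw [show φ a y = (P : Matrix ι ι F) *ᵥ ((fun p : Fin 3 × Fin 4 => a p.1 * y p.2) ∘ eq) from rfl,
      show φ b y' = (P : Matrix ι ι F) *ᵥ ((fun p : Fin 3 × Fin 4 => b p.1 * y' p.2) ∘ eq) from rfl,
      hs.form, sesqOf_refl]
  have hz0 : z ≠ 0 := fun h => hzz (by rw [h, q_zero hQA])
  have hinj : ∀ a, a ≠ 0 → Function.Injective (φ a) := fun a ha => (injective_iff_map_eq_zero _).2 fun y hy => by
    obtain ⟨i, hi⟩ := Function.ne_iff.1 ha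
    funext j
    have h := congrFun (mv_inj P ((show mv P _ = 0 from hy).trans (mv_zero P).symm)) (eq.symm (i, j))
    simp at h hi
    exact h.resolve_left hi
  have hT : Geo.IsTotallySingularQuad Q (LinearMap.range (φ x)) := by
    rintro _ ⟨y, rfl⟩
    have h := hpol x x y y
    rw [pol_self hQ, show formOf (A : Matrix (Fin 3) (Fin 3) F) x x = 0 from hxx, zero_mul] at h
    exact (mul_eq_zero.1 h).resolve_left h2
  obtain ⟨S, hTS, hS, hSd⟩ := exists_max_over hQ hplus hT
  have hle : LinearMap.range (φ x) ⊔ LinearMap.range (φ z) ≤ orth hQ (LinearMap.range (φ x)) := by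
    refine sup_le (fun w hw u hu => ts_pol hQ hT hu hw) ?_
    rintro _ ⟨y', rfl⟩ _ ⟨y, rfl⟩
    rw [hpol, hxz, zero_mul]
  have hdis : LinearMap.range (φ x) ⊓ LinearMap.range (φ z) = ⊥ := (Submodule.eq_bot_iff _).2 fun w hw => by
    obtain ⟨⟨y, rfl⟩, y', hy'⟩ := hw
    have h : pol Q (φ z y') (φ z y') = 0 := by
      rw [hy', hpol, show formOf (A : Matrix (Fin 3) (Fin 3) F) x x = 0 from hxx, zero_mul]
    have hpp : ∀ u, pol Q (φ z u) (φ z y') = 0 := fun u => by
      rw [hy', hpol, show formOf (A : Matrix (Fin 3) (Fin 3) F) z x = 0 by rw [formOf_symm hA z x, hxz], zero_mul]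
    by_cases hy0 : y' = 0
    · rw [← hy', hy0, map_zero]
    exfalso
    obtain ⟨⟨u, hu⟩, -⟩ := (formOf_nondegenerate B.isUnit) y' hy0
    have := hpp u
    rw [hpol] at this
    exact mul_ne_zero (show formOf (A : Matrix (Fin 3) (Fin 3) F) z z ≠ 0 from hzz) hu this
  have h1 := Submodule.finrank_sup_add_finrank_inf_eq (LinearMap.range (φ x)) (LinearMap.range (φ z))
  rw [hdis, finrank_bot, LinearMap.finrank_range_of_inj (hinj x hx0), LinearMap.finrank_range_of_inj (hinj z hz0),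
    Module.finrank_fin_fun] at h1
  have h2' := finrank_orth hQ (LinearMap.range (φ x))
  rw [LinearMap.finrank_range_of_inj (hinj x hx0), Module.finrank_fin_fun] at h2'
  have hcard : Fintype.card ι = 12 := by simp [Fintype.card_congr eq]
  have heq := Submodule.eq_of_le_of_finrank_le hle (by omega)
  have hS' : LinearMap.range (φ x) ⊔ (S ⊓ LinearMap.range (φ z)) = S := by
    refine le_antisymm (sup_le hTS inf_le_left) fun s hs => ?_
    obtain ⟨u, hu, w, hw, rfl⟩ := Submodule.mem_sup.1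
      (heq.ge (fun u hu => ts_pol hQ hS (hTS hu) hs : s ∈ orth hQ (LinearMap.range (φ x))))
    exact Submodule.add_mem_sup hu ⟨by simpa using S.sub_mem hs (hTS hu), hw⟩
  have h3 := Submodule.finrank_sup_add_finrank_inf_eq (LinearMap.range (φ x)) (S ⊓ LinearMap.range (φ z))
  rw [hS', show LinearMap.range (φ x) ⊓ (S ⊓ LinearMap.range (φ z)) = ⊥ from
    eq_bot_iff.2 fun w hw => hdis.le ⟨hw.1, hw.2.2⟩, finrank_bot, LinearMap.finrank_range_of_inj (hinj x hx0),
    Module.finrank_fin_fun] at h3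
  refine ⟨S.comap (φ z), le_top, fun y hy => ?_, ?_⟩
  · show formOf (B : Matrix (Fin 4) (Fin 4) F) y y = 0
    have h := hpol z z y y
    rw [pol_self hQ, hS _ hy, mul_zero] at h
    exact (mul_eq_zero.1 h.symm).resolve_left hzz
  · rw [finrank_top, Module.finrank_fin_fun, LinearEquiv.finrank_eq (Submodule.equivMapOfInjective _ (hinj z hz0) _),
      Submodule.map_comap_eq, inf_comm]
    omega

omit [Fintype F] in
/-- Elements of the group of factor pairs. -/
theorem pairGroup_cases {g : GL (Fin 2 × Fin 2) F} (hg : g ∈ pairGroup F) :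
    ∃ x y : GL (Fin 2) F, g = kronGL x y ∨ g = kronGL x y * swapGL := by
  have hss : (swapGL : GL (Fin 2 × Fin 2) F) * swapGL = 1 := Transvec.ext_mv fun z => by
    rw [Transvec.mv_one, Transvec.mv_mul]
    have hs : ∀ z : Fin 2 × Fin 2 → F, mv (swapGL (F := F)) z = fun p => z (p.2, p.1) := fun z => funext fun p => by
      show (((1 : Matrix (Fin 2 × Fin 2) (Fin 2 × Fin 2) F).submatrix (Equiv.prodComm (Fin 2) (Fin 2)) id) *ᵥ z) p = _
      simp [Matrix.mulVec, dotProduct, Matrix.one_apply]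
      rfl
    rw [hs, hs]
  have hsw : ∀ x y : GL (Fin 2) F, swapGL * kronGL x y = kronGL y x * swapGL := fun x y => by
    refine mul_right_cancel (b := (swapGL)⁻¹) ?_
    rw [mul_inv_cancel_right]
    refine Units.ext ?_
    rw [Units.val_mul, Units.val_mul]
    show cj (swapGL (F := F)) (x.val ⊗ₖ y.val) = y.val ⊗ₖ x.val
    exact swap_cj _ _
  have hkk : ∀ x y x' y' : GL (Fin 2) F, kronGL x y * kronGL x' y' = kronGL (x * x') (y * y') := fun x y x' y' =>
    Units.ext (Matrix.mul_kronecker_mul _ _ _ _).symm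
  have h1 : (1 : GL (Fin 2 × Fin 2) F) = kronGL 1 1 := Units.ext (by simp [kronGL])
  induction hg using Subgroup.closure_induction with
  | mem u hu =>
    rcases hu with ⟨x, y, rfl⟩ | rfl
    · exact ⟨x, y, Or.inl rfl⟩
    · exact ⟨1, 1, Or.inr (by rw [← h1, one_mul])⟩
  | one => exact ⟨1, 1, Or.inl h1⟩
  | mul a b _ _ iha ihb =>
    obtain ⟨x, y, hab⟩ := iha
    obtain ⟨x', y', hb⟩ := ihb
    rcases hab with rfl | rfl <;> rcases hb with rfl | rfl
    · exact ⟨_, _, Or.inl (hkk x y x' y')⟩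
    · exact ⟨_, _, Or.inr (by rw [← mul_assoc, hkk])⟩
    · exact ⟨x * y', y * x', Or.inr (by rw [mul_assoc, hsw, ← mul_assoc, hkk])⟩
    · exact ⟨x * y', y * x', Or.inl (by
        rw [mul_assoc, ← mul_assoc (swapGL), hsw, mul_assoc, hss, mul_one, hkk])⟩
  | inv a _ iha =>
    obtain ⟨x, y, hab⟩ := iha
    have hinv : ∀ x y : GL (Fin 2) F, (kronGL x y)⁻¹ = kronGL x⁻¹ y⁻¹ := fun x y =>
      inv_eq_of_mul_eq_one_right (by rw [hkk, mul_inv_cancel, mul_inv_cancel, ← h1])
    rcases hab with rfl | rfl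
    · exact ⟨_, _, Or.inl (hinv x y)⟩
    · exact ⟨y⁻¹, x⁻¹, Or.inr (by rw [_root_.mul_inv_rev, hinv, inv_eq_of_mul_eq_one_right hss, hsw])⟩

/-- A split of the four-dimensional factor gives a decomposition into factors of dimensions two and six. -/
theorem exists_two_six (hQ : Geo.IsNondegenerateQuadraticForm Q) (h2 : (2 : F) ≠ 0) (hiso : H ≤ isometryGroup F Q)
    (hdet : ∀ g ∈ H, (g : Matrix ι ι F).det = 1)
    {eq : ι ≃ Fin 3 × Fin 4} {P : GL ι F} {A : GL (Fin 3) F} {B : GL (Fin 4) F}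
    (hs : TensorSplit (RingEquiv.refl F) 1 (QuadraticMap.polar Q) eq P A B)
    (hA : (A : Matrix (Fin 3) (Fin 3) F)ᵀ = A) (hB : (B : Matrix (Fin 4) (Fin 4) F)ᵀ = B)
    (hplus : Geo.IsPlusTypeOn (fun v => formOf (B : Matrix (Fin 4) (Fin 4) F) v v) ⊤)
    (hN : Normalises H ((kemb eq P).range : Set (Matrix ι ι F))) :
    ∃ (e : ι ≃ Fin 2 × Fin 6) (P' : GL ι F) (f₁ : (Fin 2 → F) → (Fin 2 → F) → F)
      (f₂ : (Fin 6 → F) → (Fin 6 → F) → F), Geo.IsSymplecticForm f₁ ∧ Geo.IsSymplecticForm f₂ ∧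
      Geo.IsTensorFormStructure id (QuadraticMap.polar Q) f₁ f₂ e P' ∧
      (∀ (x₁ : Fin 2 → F) (x₂ : Fin 6 → F),
        Q ((P' : Matrix ι ι F) *ᵥ ((fun a : Fin 2 × Fin 6 => x₁ a.1 * x₂ a.2) ∘ e)) = 0) ∧
      H ≤ Geo.tensorProductSubgroup 2 6 e P' := by
  classical
  obtain ⟨L, hLinj, hL⟩ := exists_jj_basis h2 (formOf_symmetric hB) hplus
  let e4 : Fin 2 × Fin 2 ≃ Fin 4 := finProdFinEquiv
  let f6 : Fin 3 × Fin 2 ≃ Fin 6 := finProdFinEquiv
  let J4 : Matrix (Fin 4) (Fin 4) F := (J2 F ⊗ₖ J2 F).submatrix e4.symm e4.symm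
  let M : Matrix (Fin 4) (Fin 4) F := (LinearMap.toMatrix' L).submatrix id e4.symm
  have hMv : ∀ x, M *ᵥ x = L (x ∘ e4) := fun x => by
    rw [← LinearMap.toMatrix'_mulVec L]
    funext r
    simp only [M, Matrix.mulVec, dotProduct, Matrix.submatrix_apply, id_eq, Function.comp_apply]
    exact Fintype.sum_equiv e4.symm _ _ fun j => by simp
  have hMu : IsUnit M := by
    rw [← Matrix.mulVec_injective_iff_isUnit]
    intro x y h
    rw [hMv, hMv] at h
    funext j
    simpa using congrFun (hLinj h) (e4.symm j)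
  set MU := hMu.unit with hMUdef
  have hMU : (MU : Matrix (Fin 4) (Fin 4) F) = M := hMu.unit_spec
  have hMB : Mᵀ * (B : Matrix (Fin 4) (Fin 4) F) * M = (2 : F)⁻¹ • J4 := by
    refine gram_ext (σ := RingEquiv.refl F) fun x y => ?_
    show formOf _ x y = formOf _ x y
    rw [← formOf_mulVec, hMv, hMv]
    simp only [formOf, Matrix.smul_mulVec, dotProduct_smul, smul_eq_mul]
    show formOf _ _ _ = _
    rw [show formOf (B : Matrix (Fin 4) (Fin 4) F) (L (x ∘ e4)) (L (y ∘ e4)) =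
      (2 : F)⁻¹ * formOf (J2 F ⊗ₖ J2 F) (x ∘ e4) (y ∘ e4) by rw [← hL, inv_mul_cancel_left₀ h2]]
    congr 1
  let t : Fin 3 × Fin 4 ≃ Fin 2 × Fin 6 :=
    { toFun := fun p => ((e4.symm p.2).1, f6 (p.1, (e4.symm p.2).2))
      invFun := fun r => ((f6.symm r.2).1, e4 (r.1, (f6.symm r.2).2))
      left_inv := fun p => by simp
      right_inv := fun r => by simp }
  let R : GL ι F := Units.map (kembR eq (1 : GL ι F)).toRingHom.toMonoidHom MU
  have hR : R.val = ((1 : Matrix (Fin 3) (Fin 3) F) ⊗ₖ M).submatrix eq eq := by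
    show kembR eq (1 : GL ι F) MU.val = _
    rw [kembR_apply, cj_apply, hMU]
    simp
  let A6 : Matrix (Fin 6) (Fin 6) F :=
    ((A : Matrix (Fin 3) (Fin 3) F) ⊗ₖ J2 F).submatrix f6.symm f6.symm
  have hA6u : IsUnit A6 := by
    refine (Matrix.isUnit_submatrix_equiv _ _).2 ?_
    rw [Matrix.isUnit_iff_isUnit_det, Matrix.det_kronecker]
    exact ((((Matrix.isUnit_iff_isUnit_det _).1 A.isUnit)).pow _).mul
      (((Matrix.isUnit_iff_isUnit_det _).1 J2_isUnit).pow _)
  have hA6t : A6ᵀ = -A6 := by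
    rw [Matrix.transpose_submatrix, ← Matrix.kroneckerMap_transpose, hA, J2_transpose]
    ext i j
    simp [A6]
  have hA6d : ∀ i, A6 i i = 0 := diag_zero_of_skew h2 hA6t
  have hsymm1 : Geo.IsSymplecticForm (formOf (J2 F)) :=
    formOf_symplectic J2_isUnit J2_transpose (by intro i; fin_cases i <;> simp [J2])
  have hRmv : ∀ z : Fin 3 × Fin 4 → F, (P * R).val *ᵥ (z ∘ eq) =
      P.val *ᵥ ((((1 : Matrix (Fin 3) (Fin 3) F) ⊗ₖ M) *ᵥ z) ∘ eq) := fun z => by
    rw [Units.val_mul, ← Matrix.mulVec_mulVec, hR, Matrix.submatrix_mulVec_equiv,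
      Function.comp_assoc, Equiv.self_comp_symm, Function.comp_id]
  have hform : ∀ x y : Fin 2 × Fin 6 → F,
      QuadraticMap.polar Q ((P * R).val *ᵥ (x ∘ eq.trans t)) ((P * R).val *ᵥ (y ∘ eq.trans t)) =
        (2 : F)⁻¹ * formOf (J2 F ⊗ₖ A6) x y := fun x y => by
    rw [show x ∘ eq.trans t = (x ∘ t) ∘ eq from rfl, show y ∘ eq.trans t = (y ∘ t) ∘ eq from rfl, hRmv, hRmv,
      hs.form, sesqOf_refl, formOf_mulVec, ← Matrix.kroneckerMap_transpose, Matrix.transpose_one,
      ← Matrix.mul_kronecker_mul, ← Matrix.mul_kronecker_mul, one_mul, mul_one, hMB, Matrix.kronecker_smul]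
    simp only [formOf, Matrix.smul_mulVec, dotProduct_smul, smul_eq_mul]
    congr 1
    simp only [dotProduct, Matrix.mulVec, Finset.mul_sum]
    refine Fintype.sum_equiv t _ _ fun a => Fintype.sum_equiv t _ _ fun b => ?_
    simp only [Function.comp_apply, Matrix.kroneckerMap_apply, A6, J4, Matrix.submatrix_apply, t, Equiv.coe_fn_mk,
      Equiv.symm_apply_apply]
    ring
  refine ⟨eq.trans t, P * R, formOf (J2 F), formOf A6, hsymm1, formOf_symplectic hA6u hA6t hA6d,
    ⟨(2 : F)⁻¹, inv_ne_zero h2, fun x y => ?_⟩, fun x₁ x₂ => ?_, fun g hg => ?_⟩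
  · rw [hform, show Geo.gramMatrix (formOf (J2 F)) = J2 F from by rw [← sesqOf_refl, gramMatrix_sesqOf],
      show Geo.gramMatrix (formOf A6) = A6 from by rw [← sesqOf_refl, gramMatrix_sesqOf]]
    simp [Geo.formOfGram, formOf, dotProduct, Matrix.mulVec, Finset.mul_sum, mul_assoc]
  · have h := hform (fun a => x₁ a.1 * x₂ a.2) (fun a => x₁ a.1 * x₂ a.2)
    rw [pure_form_two, hsymm1.alternating, zero_mul, mul_zero,
      show QuadraticMap.polar Q _ _ = 2 * Q _ from pol_self hQ _] at h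
    exact (mul_eq_zero.1 h).resolve_left h2
  -- the group
  have hgsim : g ∈ Geo.similarityGroup (QuadraticMap.polar Q) :=
    ⟨1, fun u v => by simpa using pol_mv hQ (hiso hg) u v⟩
  obtain ⟨u, w, c, d, hc, hd, hgv, hu, hw⟩ := hs.exists_factors hgsim fun X => hN g hg _ ⟨X, rfl⟩
  rw [show (RingEquiv.refl F).toRingHom.mapMatrix (u : Matrix (Fin 3) (Fin 3) F) = u from rfl] at hu
  rw [show (RingEquiv.refl F).toRingHom.mapMatrix (w : Matrix (Fin 4) (Fin 4) F) = w from rfl] at hw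
  rw [kemb_mul_kembR] at hgv
  have hcd : c * d = 1 := by
    have hgram : ((u : Matrix (Fin 3) (Fin 3) F)ᵀ * (A : Matrix (Fin 3) (Fin 3) F) * u.val) ⊗ₖ
        ((w : Matrix (Fin 4) (Fin 4) F)ᵀ * (B : Matrix (Fin 4) (Fin 4) F) * w.val) =
        (A : Matrix (Fin 3) (Fin 3) F) ⊗ₖ (B : Matrix (Fin 4) (Fin 4) F) := by
      refine gram_ext (σ := RingEquiv.refl F) fun x y => ?_
      show formOf _ x y = formOf _ x y
      have h : QuadraticMap.polar Q (g.val *ᵥ (P.val *ᵥ (x ∘ eq))) (g.val *ᵥ (P.val *ᵥ (y ∘ eq))) =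
          QuadraticMap.polar Q (P.val *ᵥ (x ∘ eq)) (P.val *ᵥ (y ∘ eq)) := pol_mv hQ (hiso hg) _ _
      rw [hgv, cj_apply, Matrix.mulVec_mulVec, Units.inv_mul_cancel_right, ← Matrix.mulVec_mulVec,
        Matrix.submatrix_mulVec_equiv, Function.comp_assoc, Equiv.self_comp_symm, Function.comp_id,
        Matrix.mulVec_mulVec, Units.inv_mul_cancel_right, ← Matrix.mulVec_mulVec (M := P.val),
        Matrix.submatrix_mulVec_equiv, Function.comp_assoc, Equiv.self_comp_symm, Function.comp_id,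
        hs.form, hs.form, sesqOf_refl, formOf_mulVec, ← Matrix.kroneckerMap_transpose,
        ← Matrix.mul_kronecker_mul, ← Matrix.mul_kronecker_mul] at h
      exact h
    rw [hu, hw, Matrix.smul_kronecker, Matrix.kronecker_smul, smul_smul] at hgram
    have hne : ((A : Matrix (Fin 3) (Fin 3) F) ⊗ₖ (B : Matrix (Fin 4) (Fin 4) F)) ≠ 0 := fun h0 => by
      have h := congrArg Matrix.det h0
      rw [Matrix.det_kronecker, Matrix.det_zero] at h
      exact mul_ne_zero (pow_ne_zero _ ((Matrix.isUnit_iff_isUnit_det _).1 A.isUnit).ne_zero)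
        (pow_ne_zero _ ((Matrix.isUnit_iff_isUnit_det _).1 B.isUnit).ne_zero) h
    by_contra h1
    exact hne ((smul_eq_zero.1 (show (c * d - 1) • ((A : Matrix (Fin 3) (Fin 3) F) ⊗ₖ
      (B : Matrix (Fin 4) (Fin 4) F)) = 0 by rw [sub_smul, one_smul, hgram, sub_self])).resolve_left
        (sub_ne_zero.2 h1))
  set w' := MU⁻¹ * w * MU with hw'
  have hMw : M * w'.val = w.val * M := by
    rw [← hMU, ← Units.val_mul, ← Units.val_mul, hw']; congr 1; group
  have hwJ : w'.valᵀ * J4 * w'.val = d • J4 := by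
    have h : (2 : F)⁻¹ • (w'.valᵀ * J4 * w'.val) = (2 : F)⁻¹ • (d • J4) := by
      calc _ = w'.valᵀ * (Mᵀ * (B : Matrix (Fin 4) (Fin 4) F) * M) * w'.val := by
            rw [hMB, Matrix.mul_smul, Matrix.smul_mul]
        _ = (M * w'.val)ᵀ * (B : Matrix (Fin 4) (Fin 4) F) * (M * w'.val) := by
            simp only [Matrix.transpose_mul, Matrix.mul_assoc]
        _ = Mᵀ * ((w : Matrix (Fin 4) (Fin 4) F)ᵀ * (B : Matrix (Fin 4) (Fin 4) F) * w) * M := by
            rw [hMw]; simp only [Matrix.transpose_mul, Matrix.mul_assoc]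
        _ = _ := by rw [hw, Matrix.mul_smul, Matrix.smul_mul, hMB, smul_comm]
    exact smul_right_injective _ (inv_ne_zero h2) h
  set w₀ := ((Matrix.isUnit_submatrix_equiv e4 e4).2 w'.isUnit).unit with hw₀def
  have hw₀ : w₀.val = w'.val.submatrix e4 e4 := rfl
  have hw₀J : w₀.valᵀ * (J2 F ⊗ₖ J2 F) * w₀.val = d • (J2 F ⊗ₖ J2 F) := by
    have h := congrArg (fun X : Matrix (Fin 4) (Fin 4) F => X.submatrix e4 e4) hwJ
    rw [hw₀]
    simpa [J4, Matrix.transpose_submatrix, ← Matrix.submatrix_mul_equiv _ _ _ e4, Matrix.submatrix_smul] using h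
  obtain ⟨x, y, hxy⟩ := pairGroup_cases (similitude_mem_pairGroup h2 hd hw₀J)
  have hJ2g : ∀ x : GL (Fin 2) F, x.valᵀ * J2 F * x.val = x.val.det • J2 F := fun x => J2_gram x.val
  have hkd : (kronGL x y).valᵀ * (J2 F ⊗ₖ J2 F) * (kronGL x y).val =
      (x.val.det * y.val.det) • (J2 F ⊗ₖ J2 F) := by
    show (x.val ⊗ₖ y.val)ᵀ * _ * (x.val ⊗ₖ y.val) = _
    rw [← Matrix.kroneckerMap_transpose, ← Matrix.mul_kronecker_mul, ← Matrix.mul_kronecker_mul, hJ2g, hJ2g,
      Matrix.smul_kronecker, Matrix.kronecker_smul, smul_smul]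
  rcases hxy with hxy | hxy
  swap
  · exfalso
    have hswap : (swapGL (F := F)).valᵀ * (J2 F ⊗ₖ J2 F) * (swapGL (F := F)).val = J2 F ⊗ₖ J2 F := by
      show ((1 : Matrix (Fin 2 × Fin 2) (Fin 2 × Fin 2) F).submatrix (Equiv.prodComm (Fin 2) (Fin 2)) id)ᵀ * _ *
        ((1 : Matrix (Fin 2 × Fin 2) (Fin 2 × Fin 2) F).submatrix (Equiv.prodComm (Fin 2) (Fin 2)) id) = _
      ext ⟨a, b⟩ ⟨a', b'⟩
      fin_cases a <;> fin_cases b <;> fin_cases a' <;> fin_cases b' <;>
        simp [Matrix.mul_apply, Fintype.sum_prod_type, Fin.sum_univ_two, Matrix.one_apply, J2]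
    have hdd : x.val.det * y.val.det = d := by
      have h := hw₀J
      rw [hxy, Units.val_mul, Matrix.transpose_mul,
        show ∀ S K J : Matrix (Fin 2 × Fin 2) (Fin 2 × Fin 2) F, Sᵀ * Kᵀ * J * (K * S) = Sᵀ * (Kᵀ * J * K) * S from
          fun S K J => by simp only [mul_assoc], hkd, Matrix.mul_smul, Matrix.smul_mul, hswap] at h
      have h' := congrFun (congrFun h (0, 0)) (1, 1)
      simpa [J2] using h'
    have hdw : w₀.val.det = -(d ^ 2) := by
      rw [hxy, Units.val_mul, Matrix.det_mul]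
      show (x.val ⊗ₖ y.val).det * ((1 : Matrix (Fin 2 × Fin 2) (Fin 2 × Fin 2) F).submatrix
        (Equiv.prodComm (Fin 2) (Fin 2)) id).det = _
      rw [Matrix.det_kronecker, Matrix.det_permute, Matrix.det_one, mul_one,
        show Equiv.Perm.sign (Equiv.prodComm (Fin 2) (Fin 2)) = -1 by decide]
      simp only [Fintype.card_fin, Units.val_neg, Units.val_one, Int.cast_neg, Int.cast_one]
      linear_combination (-(x.val.det * y.val.det) - d) * hdd
    have hdw' : (w : Matrix (Fin 4) (Fin 4) F).det = w₀.val.det := by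
      rw [hw₀, Matrix.det_submatrix_equiv_self, hw', Units.val_mul, Units.val_mul, Matrix.det_units_conj']
    have hdu : (u : Matrix (Fin 3) (Fin 3) F).det ^ 2 = c ^ 3 := by
      have h := congrArg Matrix.det hu
      rw [Matrix.det_mul, Matrix.det_mul, Matrix.det_transpose, Matrix.det_smul, Fintype.card_fin] at h
      exact mul_right_cancel₀ ((Matrix.isUnit_iff_isUnit_det _).1 A.isUnit).ne_zero (by linear_combination h)
    have h1 := hdet g hg
    rw [hgv, cj_apply, Matrix.det_units_conj, Matrix.det_submatrix_equiv_self, Matrix.det_kronecker, Fintype.card_fin,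
      Fintype.card_fin, hdw', hdw, show (u : Matrix (Fin 3) (Fin 3) F).det ^ 4 = ((u : Matrix (Fin 3) (Fin 3) F).det ^ 2) ^ 2
        by ring, hdu] at h1
    have h6 : (c * d) ^ 6 = 1 := by rw [hcd, one_pow]
    exact h2 (by linear_combination -h1 - h6)
  -- transport
  let Z : GL (Fin 6) F := ((Matrix.isUnit_submatrix_equiv f6.symm f6.symm).2
    (show IsUnit ((kronGL u y : GL (Fin 3 × Fin 2) F) : Matrix (Fin 3 × Fin 2) (Fin 3 × Fin 2) F) from Units.isUnit _)).unit
  refine ⟨_, ⟨kronGL x Z, ⟨x, Z, rfl⟩, rfl⟩, Units.ext ?_⟩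
  have hPR : (Geo.glReindex (eq.trans t).symm (kronGL x Z)).val = (x.val ⊗ₖ Z.val).submatrix (eq.trans t) (eq.trans t) := by
    simp [Geo.glReindex, kronGL]
  show (P * R).val * (Geo.glReindex (eq.trans t).symm (kronGL x Z)).val * ((P * R)⁻¹).val = g.val
  rw [hPR]
  have hkr : (x.val ⊗ₖ Z.val).submatrix (eq.trans t) (eq.trans t) =
      ((u : Matrix (Fin 3) (Fin 3) F) ⊗ₖ w'.val).submatrix eq eq := by
    have hw'e : ∀ a b : Fin 4, w'.val a b =
        x.val (e4.symm a).1 (e4.symm b).1 * y.val (e4.symm a).2 (e4.symm b).2 := fun a b => by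
      have h := congrFun (congrFun (congrArg (fun g : GL (Fin 2 × Fin 2) F => (g : Matrix (Fin 2 × Fin 2) (Fin 2 × Fin 2) F)) hxy) (e4.symm a)) (e4.symm b)
      rw [hw₀] at h
      simpa [kronGL] using h
    ext i j
    simp only [Matrix.submatrix_apply, Matrix.kroneckerMap_apply, Z, IsUnit.unit_spec, Equiv.trans_apply, t,
      Equiv.coe_fn_mk, Equiv.symm_apply_apply, hw'e, kronGL]
    ring
  rw [hkr, _root_.mul_inv_rev, Units.val_mul P R, Units.val_mul R⁻¹ P⁻¹]
  have hRc : R.val * ((u : Matrix (Fin 3) (Fin 3) F) ⊗ₖ w'.val).submatrix eq eq =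
      ((u : Matrix (Fin 3) (Fin 3) F) ⊗ₖ (w : Matrix (Fin 4) (Fin 4) F)).submatrix eq eq * R.val := by
    rw [hR, Matrix.submatrix_mul_equiv, Matrix.submatrix_mul_equiv, ← Matrix.mul_kronecker_mul,
      ← Matrix.mul_kronecker_mul, one_mul, mul_one, hMw]
  rw [mul_assoc P.val, hRc, hgv, cj_apply]
  simp only [mul_assoc, Units.mul_inv_cancel_left]

/-- Over two elements an alternating plane factor gives a field of four elements. -/
theorem field_of_two (hq : Fintype.card F = 2) {b : ℕ} [NeZero b]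
    {eq : ι ≃ Fin 2 × Fin b} {P : GL ι F} (hN : Normalises H ((kemb eq P).range : Set (Matrix ι ι F))) :
    ∃ K : Subalgebra F (Matrix ι ι F), Geo.IsFieldSubalgebra 2 K ∧ H ≤ Geo.subalgebraNormalizer K := by
  classical
  have h2 : (2 : F) = 0 := by
    have h := FiniteField.cast_card_eq_zero F
    rw [hq] at h; exact_mod_cast h
  have h01 : ∀ c : F, c = 0 ∨ c = 1 := fun c => (em _).imp_right fun hc => by
    have := FiniteField.pow_card_sub_one_eq_one c hc
    rwa [hq, pow_one] at this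
  let W : Matrix (Fin 2) (Fin 2) F := !![0, 1; 1, 1]
  have hWW : W * W = 1 + W := by
    ext i j
    fin_cases i <;> fin_cases j <;> simp [W, Matrix.mul_apply, Fin.sum_univ_two] <;> linear_combination h2
  have hkinj : Function.Injective (kemb eq P) := kemb_injective eq P
  let V : Submodule F (Matrix (Fin 2) (Fin 2) F) := Submodule.span F {1, W}
  let S : Subalgebra F (Matrix (Fin 2) (Fin 2) F) := V.toSubalgebra (Submodule.subset_span (Or.inl rfl))
    (fun X Y hX hY => by
      obtain ⟨a, b, rfl⟩ := Submodule.mem_span_pair.1 hX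
      obtain ⟨c, d, rfl⟩ := Submodule.mem_span_pair.1 hY
      refine Submodule.mem_span_pair.2 ⟨a * c + b * d, a * d + b * c + b * d, ?_⟩
      simp only [add_mul, mul_add, Matrix.smul_mul, Matrix.mul_smul, one_mul, mul_one, hWW, smul_smul, smul_add]
      module)
  have hSmem : ∀ X, X ∈ S ↔ ∃ a b : F, a • (1 : Matrix (Fin 2) (Fin 2) F) + b • W = X := fun X =>
    Submodule.mem_span_pair
  refine ⟨S.map (kemb eq P), ⟨?_, ?_, ?_⟩, ?_⟩
  · rintro _ ⟨X, hX, rfl⟩ _ ⟨Y, hY, rfl⟩
    show kemb eq P X * kemb eq P Y = kemb eq P Y * kemb eq P X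
    obtain ⟨a, b, rfl⟩ := (hSmem _).1 hX
    obtain ⟨c, d, rfl⟩ := (hSmem _).1 hY
    rw [← map_mul, ← map_mul]
    congr 1
    simp only [add_mul, mul_add, Matrix.smul_mul, Matrix.mul_smul, one_mul, mul_one]
    module
  · rintro _ ⟨X, hX, rfl⟩ hX0
    obtain ⟨Y, hY, hXY⟩ : ∃ Y ∈ S, X * Y = 1 := by
      obtain ⟨a, b, rfl⟩ := (hSmem _).1 hX
      rcases h01 a with rfl | rfl <;> rcases h01 b with rfl | rfl
      · exact absurd (by simp) hX0
      · refine ⟨1 + W, (hSmem _).2 ⟨1, 1, by simp⟩, ?_⟩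
        simp only [zero_smul, zero_add, one_smul, mul_add, mul_one, hWW]
        rw [add_comm (1 : Matrix (Fin 2) (Fin 2) F) W, ← add_assoc, ← two_smul F W, h2, zero_smul, zero_add]
      · exact ⟨1, S.one_mem, by simp⟩
      · refine ⟨W, (hSmem _).2 ⟨0, 1, by simp⟩, ?_⟩
        simp only [one_smul, add_mul, one_mul, hWW]
        rw [add_comm (1 : Matrix (Fin 2) (Fin 2) F) W, ← add_assoc, ← two_smul F W, h2, zero_smul, zero_add]
    exact ⟨kemb eq P Y, ⟨Y, hY, rfl⟩, by
      show kemb eq P X * kemb eq P Y = 1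
      rw [← map_mul, hXY, map_one]⟩
  · show Module.finrank F ((Subalgebra.toSubmodule S).map (kemb eq P).toLinearMap) = 2
    rw [LinearEquiv.finrank_eq (Submodule.equivMapOfInjective (kemb eq P).toLinearMap hkinj
      (Subalgebra.toSubmodule S)).symm]
    show Module.finrank F V = 2
    have hind : LinearIndependent F ![(1 : Matrix (Fin 2) (Fin 2) F), W] := LinearIndependent.pair_iff.2 fun a b h => by
      have h00 := congrFun (congrFun h 0) 0
      have h01' := congrFun (congrFun h 0) 1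
      simp [W] at h00 h01'
      exact ⟨h00, h01'⟩
    have := finrank_span_eq_card hind
    rwa [Fintype.card_fin, Matrix.range_cons, Matrix.range_cons, Matrix.range_empty, Set.union_empty,
      Set.singleton_union] at this
  have key : ∀ g ∈ H, ∀ k ∈ S.map (kemb eq P),
      (g : Matrix ι ι F) * k * ((g⁻¹ : GL ι F) : Matrix ι ι F) ∈ S.map (kemb eq P) := by
    rintro g hg _ ⟨X, hX, rfl⟩
    obtain ⟨u, w, hg'⟩ := exists_kron_of_normalises eq P fun X => hN g hg _ ⟨X, rfl⟩
    rw [← kemb_mul_kembR] at hg'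
    show cj g (kemb eq P X) ∈ _
    set Z := (u : Matrix (Fin 2) (Fin 2) F) * X * ((u⁻¹ : GL (Fin 2) F) : Matrix (Fin 2) (Fin 2) F) with hZ
    have hcj : cj g (kemb eq P X) = kemb eq P Z := by
      rw [cj_apply]
      have h1 : (g : Matrix ι ι F) * kemb eq P X = kemb eq P Z * (g : Matrix ι ι F) := by
        rw [hg', mul_assoc, kembR_mul_kemb, ← kemb_mul_kembR, ← mul_assoc, ← map_mul, ← mul_assoc (kemb eq P Z),
          ← map_mul, hZ, mul_assoc ((u : Matrix (Fin 2) (Fin 2) F) * X), Units.inv_mul, mul_one]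
      rw [h1, Units.mul_inv_cancel_right]
    rw [hcj]
    refine ⟨Z, ?_, rfl⟩
    have hWS : (u : Matrix (Fin 2) (Fin 2) F) * W * ((u⁻¹ : GL (Fin 2) F) : Matrix (Fin 2) (Fin 2) F) ∈ S := by
      set Y := (u : Matrix (Fin 2) (Fin 2) F) * W * ((u⁻¹ : GL (Fin 2) F) : Matrix (Fin 2) (Fin 2) F) with hY
      have ht : Y.trace = 1 := by rw [hY, Matrix.trace_units_conj]; simp [W, Matrix.trace_fin_two]
      have hd : Y.det = 1 := by
        rw [hY, Matrix.det_units_conj]
        simp [W, Matrix.det_fin_two]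
        linear_combination -h2
      rw [Matrix.trace_fin_two] at ht
      rw [Matrix.det_fin_two] at hd
      have h0 : Y 0 0 * Y 1 1 = 0 := by
        rcases h01 (Y 0 0) with ha | ha <;> rw [ha] at ht ⊢
        · rw [zero_mul]
        · linear_combination ht
      have hb : Y 0 1 = 1 := (h01 _).resolve_left fun hb => one_ne_zero (α := F) (by
        rw [h0, hb, zero_mul, sub_zero] at hd; exact hd.symm)
      have hc : Y 1 0 = 1 := (h01 _).resolve_left fun hc => one_ne_zero (α := F) (by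
        rw [h0, hc, mul_zero, sub_zero] at hd; exact hd.symm)
      refine (hSmem _).2 ⟨Y 0 0, 1, ?_⟩
      ext i j
      fin_cases i <;> fin_cases j <;> simp [W, hb, hc]
      linear_combination (Y 0 0) * h2 - ht
    obtain ⟨a, b, rfl⟩ := (hSmem _).1 hX
    rw [hZ, mul_add, add_mul, Matrix.mul_smul, Matrix.smul_mul, Matrix.mul_smul, Matrix.smul_mul, mul_one,
      Units.mul_inv]
    exact S.add_mem (S.smul_mem S.one_mem a) (S.smul_mem hWS b)
  intro g hg k
  refine ⟨key g hg k, fun h => ?_⟩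
  have := key g⁻¹ (H.inv_mem hg) _ h
  rwa [inv_inv, mul_assoc, mul_assoc, Units.inv_mul, mul_one, ← mul_assoc, Units.inv_mul, one_mul] at this

end Cfsg.Agent.OrthEvenMax
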