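/-
Five-dimensional halves, planes and lines in dimension ten.
-/
import Cfsg.Agent.Lib.OrthEvenMax.SmallBlocks
import Mathlib.NumberTheory.LegendreSymbol.QuadraticChar.Basic

set_option autoImplicit false
set_option linter.style.haveILetI false

namespace Cfsg.Agent.OrthEvenMax

open scoped Matrix
open Matrix Cfsg.Agent.Transvec Cfsg.Agent.Transvec.Orth

variable {ι : Type} [Fintype ι] [DecidableEq ι] {F : Type*} [Field F] [Fintype F] {Q : (ι → F) → F}

/-- A product of two non-squares is a square. -/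
theorem isSquare_mul_of_two (h2 : (2 : F) ≠ 0) {a b : F} (ha : a ≠ 0) (hb : b ≠ 0) :
    IsSquare (a * b) ↔ (IsSquare a ↔ IsSquare b) := by
  classical
  have hr : ringChar F ≠ 2 := fun h => h2 (by
    haveI : CharP F 2 := h ▸ ringChar.charP F
    exact CharTwo.two_eq_zero)
  have hab : a * b ≠ 0 := mul_ne_zero ha hb
  rw [← quadraticChar_one_iff_isSquare hab, ← quadraticChar_one_iff_isSquare ha,
    ← quadraticChar_one_iff_isSquare hb, map_mul]
  rcases quadraticChar_dichotomy (F := F) ha with e | e <;>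
    rcases quadraticChar_dichotomy (F := F) hb with e' | e' <;> simp [e, e']

variable (hQ : Geo.IsNondegenerateQuadraticForm Q)
include hQ

omit [Fintype F] in
theorem isotropic_sum {W : Submodule F (ι → F)} {T T' : Submodule F (ι → F)} (hT : Geo.IsTotallySingularQuad Q T)
    (hT' : Geo.IsTotallySingularQuad Q T') (hTW : T ≤ W) (hT'W : T' ≤ orth hQ W) :
    Geo.IsTotallySingularQuad Q (T ⊔ T' : Submodule F (ι → F)) :=
  ts_sup hQ hT hT' fun x hx y hy => hT'W hy x (hTW hx)

omit [Fintype F] in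
/-- Two odd halves: plus type is a square class condition. -/
theorem plus_iff_square (h20 : (2 : F) ≠ 0) (hn : Fintype.card ι = 10) {W : Submodule F (ι → F)} (hW : Nondeg Q W)
    {T T' : Submodule F (ι → F)} (hT : Geo.IsTotallySingularQuad Q T) (hT' : Geo.IsTotallySingularQuad Q T')
    (hTd : Module.finrank F T = 2) (hT'd : Module.finrank F T' = 2) (hTW : T ≤ W) (hT'W : T' ≤ orth hQ W)
    {v v' : ι → F} (hv : v ∈ W) (hv' : v' ∈ orth hQ W) (hvQ : Q v ≠ 0) (hvQ' : Q v' ≠ 0)
    (hvT : ∀ t ∈ T, pol Q v t = 0) (hvT' : ∀ t ∈ T', pol Q v' t = 0) :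
    Geo.IsPlusTypeOn Q ⊤ ↔ IsSquare (-(Q v' / Q v)) := by
  have hdis : ∀ {x : ι → F}, x ∈ W → x ∈ orth hQ W → x = 0 := fun {x} hx hx' => hW x hx fun w hw => hx' w hw
  set S := T ⊔ T' with hSdef
  have hSts : Geo.IsTotallySingularQuad Q S := isotropic_sum hQ hT hT' hTW hT'W
  have hSd : Module.finrank F S = 4 := by
    have h := Submodule.finrank_sup_add_finrank_inf_eq T T'
    rw [show T ⊓ T' = ⊥ from (Submodule.eq_bot_iff _).2 fun x hx => hdis (hTW hx.1) (hT'W hx.2), finrank_bot,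
      hTd, hT'd] at h
    exact h
  have hperp : ∀ (a b : F) (s : ι → F), s ∈ S → pol Q (a • v + b • v') s = 0 := by
    intro a b s hs
    obtain ⟨t, ht, t', ht', rfl⟩ := Submodule.mem_sup.1 hs
    rw [pol_add_left hQ, pol_smul_left hQ, pol_smul_left hQ, pol_add_right hQ, pol_add_right hQ,
      hvT t ht, show pol Q v t' = 0 from hT'W ht' v hv, show pol Q v' t = 0 from (pol_comm _ _).trans (hv' t (hTW ht)),
      hvT' t' ht']
    ring
  have hQab : ∀ a b : F, Q (a • v + b • v') = a ^ 2 * Q v + b ^ 2 * Q v' := fun a b => by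
    rw [q_add hQ, hQ.smul, hQ.smul, pol_smul_left hQ, pol_smul_right hQ, show pol Q v v' = 0 from hv' v hv]
    ring
  have hind : ∀ a b : F, a • v + b • v' ∈ S → a = 0 ∧ b = 0 := by
    intro a b hab
    have h1 := hperp 1 0 _ hab
    have h2 := hperp 0 1 _ hab
    rw [one_smul, zero_smul, add_zero] at h1
    rw [one_smul, zero_smul, zero_add] at h2
    have hp : pol Q v v' = 0 := hv' v hv
    rw [pol_add_right hQ, pol_smul_right hQ, pol_smul_right hQ, pol_self hQ, hp, mul_zero, add_zero] at h1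
    rw [pol_add_right hQ, pol_smul_right hQ, pol_smul_right hQ, pol_self hQ, pol_comm v' v, hp, mul_zero,
      zero_add] at h2
    exact ⟨by simpa [h20, hvQ] using h1, by simpa [h20, hvQ'] using h2⟩
  constructor
  · intro hplus
    obtain ⟨U, hSU, hU, hUd⟩ := exists_max_over hQ hplus hSts
    obtain ⟨u, hu, huS⟩ := SetLike.exists_of_lt (lt_of_le_of_ne hSU fun h => by rw [← h, hSd] at hUd; omega)
    let φ : (F × F) →ₗ[F] (ι → F) :=
      (LinearMap.toSpanSingleton F (ι → F) v).coprod (LinearMap.toSpanSingleton F (ι → F) v')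
    have hφ : ∀ z : F × F, φ z = z.1 • v + z.2 • v' := fun z => rfl
    have hinj : Function.Injective φ := by
      refine (injective_iff_map_eq_zero φ).2 fun z hz => ?_
      obtain ⟨h1, h2⟩ := hind z.1 z.2 (by rw [← hφ, hz]; exact S.zero_mem)
      exact Prod.ext h1 h2
    have hle : S ⊔ LinearMap.range φ ≤ orth hQ S := sup_le (fun x hx y hy => ts_pol hQ hSts hy hx) (by
      rintro _ ⟨z, rfl⟩ y hy
      exact (pol_comm _ _).trans (hperp z.1 z.2 y hy))
    have hcap : S ⊓ LinearMap.range φ = ⊥ := (Submodule.eq_bot_iff _).2 fun x hx => by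
      obtain ⟨z, rfl⟩ := hx.2
      obtain ⟨h1, h2⟩ := hind z.1 z.2 hx.1
      rw [hφ, h1, h2, zero_smul, zero_smul, add_zero]
    have h1 := Submodule.finrank_sup_add_finrank_inf_eq S (LinearMap.range φ)
    rw [hcap, finrank_bot, LinearMap.finrank_range_of_inj hinj, Module.finrank_prod, Module.finrank_self, hSd] at h1
    have h2 := finrank_orth hQ S
    have heq := Submodule.eq_of_le_of_finrank_le hle (by omega)
    obtain ⟨s, hs, w, ⟨z, rfl⟩, hsw⟩ := Submodule.mem_sup.1
      (heq.ge (fun y hy => ts_pol hQ hU (hSU hy) hu : u ∈ orth hQ S))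
    have h0 : Q (φ z) = 0 := hU _ (by
      have := U.sub_mem hu (hSU hs)
      rwa [← hsw, add_sub_cancel_left] at this)
    rw [hφ, hQab] at h0
    have hb : z.2 ≠ 0 := fun hb => by
      have ha : z.1 = 0 := by
        simpa [hb, hvQ] using h0
      exact huS (by rw [← hsw, hφ, ha, hb, zero_smul, zero_smul, add_zero, add_zero]; exact hs)
    refine ⟨z.1 / z.2, ?_⟩
    field_simp
    linear_combination -h0
  · rintro ⟨s, hs⟩
    set u := s • v + (1 : F) • v' with hudef
    have hu : Q u = 0 := by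
      rw [hQab]
      have : Q v' = -(s * s) * Q v := by rw [← hs]; field_simp
      rw [this]; ring
    refine ⟨S ⊔ Submodule.span F {u}, le_top, ts_sup hQ hSts (ts_span hQ hu) fun x hx y hy => ?_, ?_⟩
    · obtain ⟨r, rfl⟩ := Submodule.mem_span_singleton.1 hy
      rw [pol_smul_right hQ, pol_comm, hudef, hperp s 1 x hx, mul_zero]
    · have hcap : S ⊓ Submodule.span F {u} = ⊥ := (Submodule.eq_bot_iff _).2 fun x hx => by
        obtain ⟨r, rfl⟩ := Submodule.mem_span_singleton.1 hx.2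
        have h := hx.1
        rw [hudef, smul_add, smul_smul, smul_smul, mul_one] at h
        rw [(hind _ _ h).2, zero_smul]
      have h := Submodule.finrank_sup_add_finrank_inf_eq S (Submodule.span F {u})
      rw [hcap, finrank_bot, hSd, finrank_span_singleton (fun h0 => one_ne_zero
        (hind s 1 (by rw [← hudef, h0]; exact S.zero_mem)).2)] at h
      rw [finrank_top, Module.finrank_pi, hn]
      omega

omit [Fintype F] in
/-- The frame of a five-dimensional subspace. -/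
theorem five_frame [Finite F] {W : Submodule F (ι → F)} (hW : Nondeg Q W) (hd : Module.finrank F W = 5) :
    ∃ (c : F) (g : W ≃ₗ[F] (Unit ⊕ (Fin 2 ⊕ Fin 2) → F)) (v : ι → F) (T : Submodule F (ι → F)),
      c ≠ 0 ∧ (∀ w : W, Q w = c * g w (.inl ()) ^ 2 + ∑ i, g w (.inr (.inl i)) * g w (.inr (.inr i))) ∧
      v ∈ W ∧ Q v = c ∧ T ≤ W ∧ Geo.IsTotallySingularQuad Q T ∧ Module.finrank F T = 2 ∧
      ∀ t ∈ T, pol Q v t = 0 := by
  obtain ⟨c, hc, g, hg⟩ := LBQuad.classify_odd (restr_nondeg hQ hW) (m := 2) hd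
  have hgQ : ∀ w : W, Q w = c * g w (.inl ()) ^ 2 + ∑ i, g w (.inr (.inl i)) * g w (.inr (.inr i)) := fun w =>
    (show Q w = ((qMap hQ).comp W.subtype) w from rfl).trans (hg w)
  let ψ : (Fin 2 → F) →ₗ[F] (Unit ⊕ (Fin 2 ⊕ Fin 2) → F) :=
    { toFun := fun x => Sum.elim 0 (Sum.elim x 0)
      map_add' := fun x y => by ext (i | i | i) <;> simp
      map_smul' := fun r x => by ext (i | i | i) <;> simp }
  let φ : (Fin 2 → F) →ₗ[F] (ι → F) := W.subtype.comp (g.symm.toLinearMap.comp ψ)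
  have hψ : Function.Injective ψ := fun x y h => funext fun i => congrFun h (.inr (.inl i))
  have hφ : Function.Injective φ := W.injective_subtype.comp (g.symm.injective.comp hψ)
  set v₀ : W := g.symm (Pi.single (.inl ()) 1) with hv₀
  have hQφ : ∀ x, Q (φ x) = 0 := fun x => by
    show Q ((g.symm (ψ x) : W) : ι → F) = 0
    rw [hgQ, LinearEquiv.apply_symm_apply]
    simp [ψ]
  have hQv : Q v₀ = c := by
    rw [hv₀, hgQ, LinearEquiv.apply_symm_apply]
    simp
  refine ⟨c, g, v₀, LinearMap.range φ, hc, hgQ, v₀.2, hQv, ?_, ?_, ?_, ?_⟩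
  · rintro _ ⟨x, rfl⟩
    exact SetLike.coe_mem _
  · rintro _ ⟨x, rfl⟩
    exact hQφ x
  · rw [LinearMap.finrank_range_of_inj hφ, Module.finrank_pi, Fintype.card_fin]
  · rintro _ ⟨x, rfl⟩
    have h : Q ((v₀ + g.symm (ψ x) : W) : ι → F) = c := by
      rw [hgQ, map_add, hv₀, LinearEquiv.apply_symm_apply, LinearEquiv.apply_symm_apply]
      simp [ψ]
    show QuadraticMap.polar Q (v₀ : ι → F) (φ x) = 0
    rw [QuadraticMap.polar, hQφ, hQv, show (v₀ : ι → F) + φ x = ((v₀ + g.symm (ψ x) : W) : ι → F) from rfl, h]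
    ring

/-- A half of dimension five and its complement. -/
theorem halves_five (h2 : (2 : F) ≠ 0) (hn : Fintype.card ι = 10) {W : Submodule F (ι → F)} (hW : Nondeg Q W)
    (hd : Module.finrank F W = 5) :
    (Geo.IsPlusTypeOn Q ⊤ ↔ IsSquare (-1 : F)) ↔ Geo.AreIsometricFor Q W (orth hQ W) := by
  obtain ⟨hW', hsum⟩ := orth_nondeg hQ hW
  have hd' : Module.finrank F ↥(orth hQ W) = 5 := by omega
  obtain ⟨c, g, v, T, hc, hg, hv, hvQ, hTW, hT, hTd, hvT⟩ := five_frame hQ hW hd
  obtain ⟨c', g', v', T', hc', hg', hv', hvQ', hT'W, hT', hT'd, hvT'⟩ := five_frame hQ hW' hd'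
  have hkey := plus_iff_square hQ h2 hn hW hT hT' hTd hT'd hTW hT'W hv hv' (hvQ ▸ hc) (hvQ' ▸ hc') hvT hvT'
  rw [hvQ, hvQ', show -(c' / c) = -1 * (c' / c) by ring,
    isSquare_mul_of_two h2 (neg_ne_zero.2 one_ne_zero) (div_ne_zero hc' hc)] at hkey
  constructor
  · intro h
    obtain ⟨s, hs⟩ : IsSquare (c' / c) := by tauto
    have hs0 : s ≠ 0 := fun h0 => div_ne_zero hc' hc (by rw [hs, h0, zero_mul])
    let a : Unit ⊕ (Fin 2 ⊕ Fin 2) → Fˣ := Sum.elim (fun _ => (Units.mk0 s hs0)⁻¹) fun _ => 1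
    let Φ : (Unit ⊕ (Fin 2 ⊕ Fin 2) → F) ≃ₗ[F] (Unit ⊕ (Fin 2 ⊕ Fin 2) → F) :=
      LinearEquiv.piCongrRight fun i => LinearEquiv.smulOfUnit (a i)
    have hΦ : ∀ (z : Unit ⊕ (Fin 2 ⊕ Fin 2) → F) (i : Unit ⊕ (Fin 2 ⊕ Fin 2)), Φ z i = (a i : F) * z i :=
      fun z i => rfl
    refine ⟨g.trans (Φ.trans g'.symm), fun w => ?_⟩
    rw [hg', LinearEquiv.trans_apply, LinearEquiv.trans_apply, LinearEquiv.apply_symm_apply, hg]
    have hc'eq : c' = c * (s * s) := by rw [← hs]; field_simp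
    simp only [hΦ, a, Sum.elim_inl, Sum.elim_inr, Units.val_inv_eq_inv_val, Units.val_mk0, Units.val_one, one_mul]
    rw [hc'eq]
    field_simp
  · intro h
    obtain ⟨e, he⟩ := h
    let φ : T →ₗ[F] (ι → F) := (orth hQ W).subtype.comp (e.toLinearMap.comp (Submodule.inclusion hTW))
    have hφ : Function.Injective φ :=
      (orth hQ W).injective_subtype.comp (e.injective.comp (Submodule.inclusion_injective hTW))
    have hkey' := plus_iff_square hQ h2 hn hW (T := T) (T' := LinearMap.range φ) hT ?_ hTd ?_ hTW ?_ hv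
      (v' := (e ⟨v, hv⟩ : ι → F)) (SetLike.coe_mem _) (hvQ ▸ hc) ?_ hvT ?_
    · rwa [he, div_self (hvQ ▸ hc : Q v ≠ 0)] at hkey'
    · rintro _ ⟨t, rfl⟩
      exact (he _).trans (hT t t.2)
    · rw [LinearMap.finrank_range_of_inj hφ, hTd]
    · rintro _ ⟨t, rfl⟩
      exact SetLike.coe_mem _
    · rw [he]
      exact hvQ ▸ hc
    · rintro _ ⟨t, rfl⟩
      show QuadraticMap.polar Q (e ⟨v, hv⟩ : ι → F) (e ⟨t, hTW t.2⟩ : ι → F) = 0
      rw [QuadraticMap.polar, ← Submodule.coe_add, ← map_add, he, he, he]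
      exact hvT t t.2

variable {t k : ℕ} {D : Fin t → Submodule F (ι → F)}

omit [Fintype F] in
theorem nondeg_block (hD : Geo.IsOrthogonalMDecomposition Q k D) (i : Fin t) : Nondeg Q (D i) := fun u hu h => by
  by_contra hu0
  obtain ⟨⟨x, hx, hxu⟩, -⟩ := hD.decomp.nondegenerate i u hu hu0
  exact hxu (h x hx)

/-- In plus type five isometric orthogonal planes are of plus type. -/
theorem planes_plus (hplus : Geo.IsPlusTypeOn Q ⊤) (hn : Fintype.card ι = 10)
    (hD : Geo.IsOrthogonalMDecomposition Q k D) (hk : k = 2) (ht : t = 5)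
    (htr : ∀ i j, ∃ g ∈ isometryGroup F Q, (D i).map (mvLin g) = D j) (i : Fin t) :
    Geo.IsPlusTypeOn Q (D i) := by
  classical
  subst hk ht
  have hnd : ∀ i, Nondeg Q (D i) := nondeg_block hQ hD
  have hpair : ∀ a b : Fin 5, a ≠ b → ∃ U : Submodule F (ι → F), Geo.IsTotallySingularQuad Q U ∧
      U ≤ D a ⊔ D b ∧ Module.finrank F U = 2 := by
    intro a b hab
    obtain ⟨g, hg, hgi⟩ := htr a b
    obtain ⟨U, hU, hle, hd⟩ := ts_two_blocks hQ hg 1 (D a) (hnd a) (by rw [hD.decomp.decomp.finrank_eq])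
      fun x hx y hy => hD.decomp.orthogonal a b hab x hx (mv g y) (hgi.le ⟨y, hy, Matrix.toLin'_apply _ _⟩)
    exact ⟨U, hU, by rwa [hgi] at hle, by omega⟩
  have hperp : ∀ a b c d : Fin 5, a ≠ c → a ≠ d → b ≠ c → b ≠ d → ∀ x ∈ D a ⊔ D b, ∀ y ∈ D c ⊔ D d,
      pol Q x y = 0 := by
    intro a b c d hac had hbc hbd x hx y hy
    obtain ⟨x₁, hx₁, x₂, hx₂, rfl⟩ := Submodule.mem_sup.1 hx
    obtain ⟨y₁, hy₁, y₂, hy₂, rfl⟩ := Submodule.mem_sup.1 hy
    rw [pol_add_left hQ, pol_add_right hQ, pol_add_right hQ,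
      show pol Q x₁ y₁ = 0 from hD.decomp.orthogonal a c hac x₁ hx₁ y₁ hy₁,
      show pol Q x₁ y₂ = 0 from hD.decomp.orthogonal a d had x₁ hx₁ y₂ hy₂,
      show pol Q x₂ y₁ = 0 from hD.decomp.orthogonal b c hbc x₂ hx₂ y₁ hy₁,
      show pol Q x₂ y₂ = 0 from hD.decomp.orthogonal b d hbd x₂ hx₂ y₂ hy₂]
    ring
  obtain ⟨a, b, c, d, hai, hbi, hci, hdi, hab, hac, had, hbc, hbd, hcd, hall⟩ : ∃ a b c d : Fin 5,
      a ≠ i ∧ b ≠ i ∧ c ≠ i ∧ d ≠ i ∧ a ≠ b ∧ a ≠ c ∧ a ≠ d ∧ b ≠ c ∧ b ≠ d ∧ c ≠ d ∧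
        ∀ j, j = a ∨ j = b ∨ j = c ∨ j = d ∨ j = i := by
    refine ⟨i + 1, i + 2, i + 3, i + 4, ?_, ?_, ?_, ?_, ?_, ?_, ?_, ?_, ?_, ?_, ?_⟩ <;>
      revert i <;> decide
  obtain ⟨U₁, hU₁, hle₁, hd₁⟩ := hpair a b hab
  obtain ⟨U₂, hU₂, hle₂, hd₂⟩ := hpair c d hcd
  have hts := ts_sup hQ hU₁ hU₂ fun x hx y hy => hperp a b c d hac had hbc hbd x (hle₁ hx) y (hle₂ hy)
  have hxi : ∀ x, x ∈ D a ⊔ D b ∨ x ∈ D c ⊔ D d → x ∈ orth hQ (D i) := by
    intro x hx w hw
    rcases hx with hx | hx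
    · exact hperp i i a b hai.symm hbi.symm hai.symm hbi.symm w (Submodule.mem_sup_left hw) x hx
    · exact hperp i i c d hci.symm hdi.symm hci.symm hdi.symm w (Submodule.mem_sup_left hw) x hx
  have hcap : U₁ ⊓ U₂ = ⊥ := (Submodule.eq_bot_iff _).2 fun x hx => nondeg_top hQ x Submodule.mem_top fun w _ => by
    have : (⨆ j, D j) ≤ LinearMap.ker (formQ hQ x) := iSup_le fun j v hv => by
      show pol Q v x = 0
      rcases hall j with rfl | rfl | rfl | rfl | rfl
      · exact hperp _ _ c d hac had hac had v (Submodule.mem_sup_left hv) x (hle₂ hx.2)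
      · exact hperp _ _ c d hbc hbd hbc hbd v (Submodule.mem_sup_left hv) x (hle₂ hx.2)
      · exact hperp _ _ a b hac.symm hbc.symm hac.symm hbc.symm v (Submodule.mem_sup_left hv) x (hle₁ hx.1)
      · exact hperp _ _ a b had.symm hbd.symm had.symm hbd.symm v (Submodule.mem_sup_left hv) x (hle₁ hx.1)
      · exact hxi x (Or.inl (hle₁ hx.1)) v hv
    exact this (hD.decomp.decomp.iSup_eq_top ▸ Submodule.mem_top)
  obtain ⟨hnd', hsum⟩ := orth_nondeg hQ (hnd i)
  have hdi' := hD.decomp.decomp.finrank_eq i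
  have hsumU := Submodule.finrank_sup_add_finrank_inf_eq U₁ U₂
  rw [hcap, finrank_bot, hd₁, hd₂] at hsumU
  have hp : Geo.IsPlusTypeOn Q (orth hQ (D i)) :=
    ⟨U₁ ⊔ U₂, sup_le (fun x hx => hxi x (Or.inl (hle₁ hx))) (fun x hx => hxi x (Or.inr (hle₂ hx))), hts, by omega⟩
  simpa [orth_orth_eq hQ (hnd i)] using orth_plus hQ hplus hnd' hp

omit [Fintype F] in
/-- Coordinates of pairwise isometric orthogonal lines. -/
theorem line_coords (hD : Geo.IsOrthogonalMDecomposition Q k D) (hk : k = 1) (h2 : (2 : F) ≠ 0) (i₀ : Fin t) :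
    ∃ (c : F) (ψ : (Fin t → F) →ₗ[F] (ι → F)), c ≠ 0 ∧ Function.Injective ψ ∧
      ∀ x, Q (ψ x) = c * ∑ i, x i ^ 2 := by
  classical
  subst hk
  obtain ⟨v₀, hv₀, -⟩ := finrank_eq_one_iff'.1 (hD.decomp.decomp.finrank_eq i₀)
  have hc : Q v₀ ≠ 0 := fun h => hv₀ (Subtype.ext (nondeg_block hQ hD i₀ v₀ v₀.2 fun w hw => by
    obtain ⟨r, hr⟩ := exists_smul_eq_of_finrank_eq_one (hD.decomp.decomp.finrank_eq i₀) hv₀ ⟨w, hw⟩
    rw [show w = r • (v₀ : ι → F) from (congrArg Subtype.val hr).symm, pol_smul_left hQ, pol_self hQ, h]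
    ring))
  choose e he using fun i => hD.isometric i₀ i
  let v : Fin t → (ι → F) := fun i => (e i v₀ : ι → F)
  let ψ : (Fin t → F) →ₗ[F] (ι → F) :=
    { toFun := fun x => ∑ i, x i • v i
      map_add' := fun x y => by simp [add_smul, Finset.sum_add_distrib]
      map_smul' := fun r x => by simp [mul_smul, Finset.smul_sum] }
  have hvQ : ∀ i, Q (v i) = Q v₀ := fun i => he i v₀
  have hpol : ∀ i j, pol Q (v i) (v j) = if i = j then 2 * Q v₀ else 0 := fun i j => by
    split_ifs with h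
    · rw [h, pol_self hQ, hvQ]
    · exact hD.decomp.orthogonal i j h _ (SetLike.coe_mem _) _ (SetLike.coe_mem _)
  have hψv : ∀ x j, pol Q (ψ x) (v j) = x j * (2 * Q v₀) := fun x j => by
    show pol Q (∑ i, x i • v i) (v j) = _
    rw [pol_comm, show pol Q (v j) (∑ i, x i • v i) = formQ hQ (v j) (∑ i, x i • v i) from pol_comm _ _, map_sum]
    rw [Finset.sum_eq_single j]
    · show pol Q (x j • v j) (v j) = _
      rw [pol_smul_left hQ, hpol, if_pos rfl]
    · intro i _ hij
      show pol Q (x i • v i) (v j) = _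
      rw [pol_smul_left hQ, hpol, if_neg hij, mul_zero]
    · simp
  refine ⟨Q v₀, ψ, hc, (injective_iff_map_eq_zero ψ).2 fun x hx => funext fun j => ?_, fun x => ?_⟩
  · have h := hψv x j
    rw [hx, pol_zero_left hQ] at h
    simpa [h2, hc] using h.symm
  · have h : pol Q (ψ x) (ψ x) = 2 * (Q v₀ * ∑ i, x i ^ 2) := by
      show pol Q (ψ x) (∑ i, x i • v i) = _
      rw [pol_comm, show pol Q (∑ i, x i • v i) (ψ x) = formQ hQ (ψ x) (∑ i, x i • v i) from rfl, map_sum,
        Finset.mul_sum, Finset.mul_sum]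
      refine Finset.sum_congr rfl fun i _ => ?_
      show pol Q (x i • v i) (ψ x) = _
      rw [pol_smul_left hQ, pol_comm, hψv]
      ring
    rw [pol_self hQ] at h
    exact mul_left_cancel₀ h2 h

/-- Ten lines with a square root of minus one give plus type. -/
theorem lines_plus (h2 : (2 : F) ≠ 0) (hn : Fintype.card ι = 10) (hD : Geo.IsOrthogonalMDecomposition Q k D)
    (hk : k = 1) (ht : t = 10) (hsq : IsSquare (-1 : F)) : Geo.IsPlusTypeOn Q ⊤ := by
  subst ht
  obtain ⟨c, ψ, -, hinj, hQψ⟩ := line_coords hQ hD hk h2 0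
  obtain ⟨s, hs⟩ := hsq
  let A : (Fin 5 → F) →ₗ[F] (Fin 10 → F) :=
    { toFun := fun y => ![y 0, s * y 0, y 1, s * y 1, y 2, s * y 2, y 3, s * y 3, y 4, s * y 4]
      map_add' := fun x y => by funext i; fin_cases i <;> simp [mul_add]
      map_smul' := fun r y => by funext i; fin_cases i <;> simp [mul_left_comm] }
  have hA : Function.Injective A := (injective_iff_map_eq_zero A).2 fun y hy => by
    funext i
    fin_cases i
    · exact congrFun hy 0
    · exact congrFun hy 2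
    · exact congrFun hy 4
    · exact congrFun hy 6
    · exact congrFun hy 8
  refine ⟨LinearMap.range (ψ.comp A), le_top, ?_, ?_⟩
  · rintro _ ⟨y, rfl⟩
    rw [LinearMap.comp_apply, hQψ]
    simp [A, Fin.sum_univ_succ]
    exact Or.inr (by linear_combination (-(y 0 ^ 2 + y 1 ^ 2 + y 2 ^ 2 + y 3 ^ 2 + y 4 ^ 2)) * hs)
  · rw [LinearMap.finrank_range_of_inj (f := ψ.comp A) (hinj.comp hA), finrank_top, Module.finrank_pi,
      Module.finrank_pi, Fintype.card_fin, hn]

/-- In plus type ten lines force a square root of minus one. -/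
theorem lines_square (hplus : Geo.IsPlusTypeOn Q ⊤) (h2 : (2 : F) ≠ 0) (hn : Fintype.card ι = 10)
    (hD : Geo.IsOrthogonalMDecomposition Q k D) (hk : k = 1) (ht : t = 10) : IsSquare (-1 : F) := by
  subst ht
  obtain ⟨c, ψ, hc, hinj, hQψ⟩ := line_coords hQ hD hk h2 0
  obtain ⟨a, b, hab⟩ := exists_two_squares hQ h2 (-1)
  let A : (Fin 4 → F) →ₗ[F] (Fin 10 → F) :=
    { toFun := fun y => ![a * y 0 - b * y 1, b * y 0 + a * y 1, y 0, y 1,
        a * y 2 - b * y 3, b * y 2 + a * y 3, y 2, y 3, 0, 0]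
      map_add' := fun x y => by funext i; fin_cases i <;> simp <;> ring
      map_smul' := fun r y => by funext i; fin_cases i <;> simp <;> ring }
  let B : (Fin 2 → F) →ₗ[F] (Fin 10 → F) :=
    { toFun := fun y => ![0, 0, 0, 0, 0, 0, 0, 0, y 0, y 1]
      map_add' := fun x y => by funext i; fin_cases i <;> simp
      map_smul' := fun r y => by funext i; fin_cases i <;> simp }
  have hA : Function.Injective A := (injective_iff_map_eq_zero A).2 fun y hy => by
    funext i
    fin_cases i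
    · exact congrFun hy 2
    · exact congrFun hy 3
    · exact congrFun hy 6
    · exact congrFun hy 7
  have hB : Function.Injective B := (injective_iff_map_eq_zero B).2 fun y hy => by
    funext i
    fin_cases i
    · exact congrFun hy 8
    · exact congrFun hy 9
  set W := LinearMap.range (ψ.comp B) with hWdef
  have hpolB : ∀ x y, pol Q (ψ x) (ψ y) = c * (2 * ∑ i, x i * y i) := fun x y => by
    show QuadraticMap.polar Q (ψ x) (ψ y) = _
    rw [QuadraticMap.polar, ← map_add, hQψ, hQψ, hQψ, ← mul_sub, ← mul_sub, ← Finset.sum_sub_distrib,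
      ← Finset.sum_sub_distrib, Finset.mul_sum (a := (2 : F))]
    exact congrArg _ (Finset.sum_congr rfl fun i _ => by simp only [Pi.add_apply]; ring)
  have hWnd : Nondeg Q W := by
    rintro _ ⟨y, rfl⟩ h
    have h8 := h _ ⟨Pi.single 0 1, rfl⟩
    have h9 := h _ ⟨Pi.single 1 1, rfl⟩
    rw [LinearMap.comp_apply, LinearMap.comp_apply, hpolB] at h8 h9
    simp [B, Fin.sum_univ_succ, h2, hc] at h8 h9
    have : y = 0 := by funext i; fin_cases i <;> assumption
    rw [this, map_zero]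
  have hWd : Module.finrank F W = 2 := by
    rw [hWdef, LinearMap.finrank_range_of_inj (f := ψ.comp B) (hinj.comp hB), Module.finrank_pi, Fintype.card_fin]
  obtain ⟨hWnd', hsum⟩ := orth_nondeg hQ hWnd
  have hp : Geo.IsPlusTypeOn Q (orth hQ W) := by
    refine ⟨LinearMap.range (ψ.comp A), ?_, ?_, ?_⟩
    · rintro _ ⟨x, rfl⟩ _ ⟨y, rfl⟩
      rw [LinearMap.comp_apply, LinearMap.comp_apply, hpolB]
      simp [A, B, Fin.sum_univ_succ]
    · rintro _ ⟨y, rfl⟩
      rw [LinearMap.comp_apply, hQψ]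
      simp [A, Fin.sum_univ_succ]
      exact Or.inr (by linear_combination (y 0 ^ 2 + y 1 ^ 2 + y 2 ^ 2 + y 3 ^ 2) * hab)
    · rw [LinearMap.finrank_range_of_inj (f := ψ.comp A) (hinj.comp hA), Module.finrank_pi, Fintype.card_fin]
      omega
  have hWp := orth_plus hQ hplus hWnd' hp
  rw [orth_orth_eq hQ hWnd] at hWp
  obtain ⟨U, hUW, hU, hUd⟩ := hWp
  obtain ⟨u, hu, hu0⟩ := U.ne_bot_iff.1 fun h => by rw [h, finrank_bot, hWd] at hUd; omega
  obtain ⟨y, rfl⟩ := hUW hu
  have h := hU _ hu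
  rw [LinearMap.comp_apply, hQψ] at h
  simp [B, Fin.sum_univ_succ, hc] at h
  have hy0 : y 0 ≠ 0 := fun h0 => hu0 (by
    have : y = 0 := by funext i; fin_cases i <;> simp_all
    rw [this, map_zero])
  refine ⟨y 1 / y 0, ?_⟩
  field_simp
  linear_combination -h

omit [Fintype F] in
/-- A half and its complement form a decomposition. -/
theorem halves_decomp {W : Submodule F (ι → F)} (hW : Nondeg Q W) {m : ℕ} (hm : 1 ≤ m)
    (hd : Module.finrank F W = m) (hn : Fintype.card ι = 2 * m) :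
    Geo.IsNondegenerateMDecomposition (QuadraticMap.polar Q) m ![W, orth hQ W] ∧
      (Geo.AreIsometricFor Q W (orth hQ W) → Geo.IsOrthogonalMDecomposition Q m ![W, orth hQ W]) ∧
      ∀ g ∈ isometryGroup F Q, g ∈ Geo.subspaceStabilizer W → g ∈ Geo.decompositionStabilizer ![W, orth hQ W] := by
  obtain ⟨hW', hsum⟩ := orth_nondeg hQ hW
  have hd' : Module.finrank F ↥(orth hQ W) = m := by omega
  have hdis : Disjoint W (orth hQ W) := Submodule.disjoint_def.2 fun x hx hx' => hW x hx fun w hw => hx' w hw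
  have hcompl : IsCompl W (orth hQ W) := ⟨hdis, codisjoint_iff.2 (Submodule.eq_top_of_disjoint W (orth hQ W)
    (by rw [Module.finrank_pi]; omega) hdis)⟩
  have horth : ∀ u ∈ W, ∀ v ∈ orth hQ W, pol Q u v = 0 := fun u hu v hv => hv u hu
  have hdec : Geo.IsNondegenerateMDecomposition (QuadraticMap.polar Q) m ![W, orth hQ W] := by
    refine ⟨⟨le_rfl, hm, fun i => ?_, ?_, ?_⟩, fun i => ?_, fun i j hij => ?_⟩
    · fin_cases i
      · exact hd
      · exact hd'
    · rw [iSupIndep_pair (show (0 : Fin 2) ≠ 1 by decide) (fun k => by fin_cases k <;> simp)]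
      exact hdis
    · refine eq_top_iff.2 (hcompl.sup_eq_top.ge.trans (sup_le ?_ ?_))
      · exact le_iSup ![W, orth hQ W] 0
      · exact le_iSup ![W, orth hQ W] 1
    · fin_cases i
      · exact nondegOn_of hQ hW
      · exact nondegOn_of hQ hW'
    · fin_cases i <;> fin_cases j
      · exact absurd rfl hij
      · exact horth
      · exact fun u hu v hv => (pol_comm u v).trans (horth v hv u hu)
      · exact absurd rfl hij
  refine ⟨hdec, fun hiso => ⟨hdec, fun i j => ?_⟩, fun g hg hgW => ⟨1, fun i => ?_⟩⟩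
  · fin_cases i <;> fin_cases j
    · exact ⟨LinearEquiv.refl F _, fun w => rfl⟩
    · exact hiso
    · exact isometric_symm hiso
    · exact ⟨LinearEquiv.refl F _, fun w => rfl⟩
  · have hst : g ∈ Geo.subspaceStabilizer (![W, orth hQ W] i) := by
      fin_cases i
      · exact hgW
      · exact mem_stab_orth hQ hg hgW
    refine Submodule.eq_of_le_of_finrank_eq ?_ (LinearEquiv.finrank_eq (Submodule.equivMapOfInjective _
      (Matrix.mulVec_injective_of_isUnit g.isUnit) _)).symm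
    rintro _ ⟨x, hx, rfl⟩
    simpa [mv] using mv_mem_of_mem_stab hst hx

omit [Fintype F] in
/-- In a decomposition into two halves the second block is the complement of the first. -/
theorem half_eq_orth {m : ℕ} {D : Fin 2 → Submodule F (ι → F)}
    (hD : Geo.IsOrthogonalMDecomposition Q m D) (hn : Fintype.card ι = 2 * m) : D 1 = orth hQ (D 0) := by
  obtain ⟨-, hsum⟩ := orth_nondeg hQ (nondeg_block hQ hD 0)
  refine Submodule.eq_of_le_of_finrank_le (fun x hx w hw => hD.decomp.orthogonal 0 1 (by decide) w hw x hx) ?_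
  rw [hD.decomp.decomp.finrank_eq] at hsum ⊢
  omega

end Cfsg.Agent.OrthEvenMax
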